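import Cfsg.Agent.H10.K.B
import Cfsg.Agent.H0.Am.F

/-! Generated by tools/h10/co2/gk2.py. -/

set_option maxRecDepth 100000
set_option maxHeartbeats 0

namespace H10.K
open H16 H0.TR H0.Am H0.Co H0.Fi H10.Y H10.R
open scoped commutatorElement

noncomputable def F_W : List (List ℕ) := [[nat_lit 1, nat_lit 2, nat_lit 3, nat_lit 1, nat_lit 2, nat_lit 3, nat_lit 4, nat_lit 3, nat_lit 1, nat_lit 2, nat_lit 3, nat_lit 4, nat_lit 5, nat_lit 4, nat_lit 3, nat_lit 1, nat_lit 2, nat_lit 3, nat_lit 4, nat_lit 5, nat_lit 6, nat_lit 5, nat_lit 4, nat_lit 3, nat_lit 1, nat_lit 2, nat_lit 3, nat_lit 4, nat_lit 5, nat_lit 6],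
  [nat_lit 1, nat_lit 4, nat_lit 6],
  [nat_lit 0, nat_lit 1],
  [nat_lit 2, nat_lit 4, nat_lit 6],
  [nat_lit 1, nat_lit 3, nat_lit 2, nat_lit 0, nat_lit 4, nat_lit 3, nat_lit 1, nat_lit 2, nat_lit 3, nat_lit 4, nat_lit 5, nat_lit 4, nat_lit 3, nat_lit 1, nat_lit 2, nat_lit 0, nat_lit 3, nat_lit 2, nat_lit 4, nat_lit 3, nat_lit 1],
  [nat_lit 0, nat_lit 3, nat_lit 5],
  [nat_lit 1, nat_lit 3, nat_lit 4, nat_lit 3, nat_lit 5, nat_lit 4, nat_lit 6, nat_lit 5, nat_lit 4, nat_lit 3, nat_lit 1, nat_lit 2],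
  [nat_lit 1, nat_lit 3, nat_lit 2, nat_lit 4, nat_lit 3, nat_lit 1, nat_lit 5, nat_lit 6],
  [nat_lit 1, nat_lit 3, nat_lit 2, nat_lit 6, nat_lit 5, nat_lit 4, nat_lit 3, nat_lit 1],
  [nat_lit 1, nat_lit 2, nat_lit 0, nat_lit 3, nat_lit 4, nat_lit 3, nat_lit 2, nat_lit 0, nat_lit 6, nat_lit 5, nat_lit 4, nat_lit 3, nat_lit 1, nat_lit 2],
  [nat_lit 1, nat_lit 2, nat_lit 0, nat_lit 3, nat_lit 2, nat_lit 0, nat_lit 4, nat_lit 3, nat_lit 5, nat_lit 4, nat_lit 3, nat_lit 1, nat_lit 2, nat_lit 6],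
  [nat_lit 0],
  [nat_lit 6],
  [nat_lit 1],
  [nat_lit 4],
  [nat_lit 2],
  [nat_lit 5, nat_lit 4, nat_lit 6, nat_lit 5],
  [nat_lit 3, nat_lit 1, nat_lit 4, nat_lit 3]]
noncomputable def F_Pd : List ℕ := [nat_lit 0xffefd3c3baaa968676665a4a33231f0ffeeed2c2bbab978777675b4b32221e0e31211d0d74645848b8a89484fdedd1c130201c0c75655949b9a99585fcecd0c0aebe8292ebfbc7d727370b1b62724e5eafbf8393eafac6d626360a1a63734f5f60704c5c25350919e9f9c5d5acbc809061714d5d24340818e8f8c4d4adbd81916e7e42522b3b0717e7f7cbdba2b28e9e6f7f43532a3a0616e6f6cadaa3b38f9fa0b08c9ce5f5c9d9293905156c7c4050a1b18d9de4f4c8d8283804146d7d41513f2f13037a6a5646b6a69a8af3e3dfcf3e2e12027b6b5747b7a79b8bf2e2decef1e1ddcdb4a49888786854443d2d1101f0e0dcccb5a59989796955453c2c1000,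
  nat_lit 0x81176afcfb6d10861e88f56364f28f1978ee93050294e97fe7710c9a9d0b76e0df4934a2a5334ed840d6ab3d3aacd14726b0cd5b5ccab721b92f52c4c35528be56c0bd2b2cbac751c95f22b4b32558ceaf3944d2d5433ea830a6db4d4adca137089ee37572e4990f97017ceaed7b0690f1671a8c8b1d60f66ef885131482ff69e87e0395920479ef77e19c0a0d9be6701187fa6c6bfd80168e1865f3f4621f89b6205dcbcc5a27b129bfc25453c5b82e4fd9a43235a3de48d0463badaa3c41d73fa9d44245d3ae38a0364bddda4c31a7c6502dbbbc2a57c159cfb22423b5c85e61f78a1c1b8df066fe68158384126ff9980e73e5e274099f0791ec7a7deb9600,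
  nat_lit 0x551794d6480a89cb6e2cafed7331b2f03577f4b6286ae9ab0e4ccf8d1351d29085c7440698da591bbefc7f3da3e16220e5a72466f8ba397bde9c1f5dc381024095d7541688ca490baeec6f2db3f17230f5b73476e8aa296bce8c0f4dd3911250450784c6581a99db7e3cbffd6321a2e02567e4a6387af9bb1e5cdf9d0341c280d5971456c88a094beeac2f6df3b13270b5f77436a8ea692b8ecc4f0d93d152100547c486185ad99b3e7cffbd2361e2a06527a4e6783ab9fb5e1c9fdd430182c01557d496084ac98b2e6cefad3371f2b07537b4f6682aa9eb4e0c8fcd531192d0c5870446d89a195bfebc3f7de3a12260a5e76426b8fa793b9edc5f1d83c14200,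
  nat_lit 0x81a995bdc4ecd0f84e665a720b231f37c6eed2fa83ab97bf09211d354c6458704f675b730a221e3680a894bcc5edd1f908201c344d655971c7efd3fb82aa96bee8c0fcd4ad85b991270f331b624a765eaf87bb93eac2fed66048745c250d3119260e321a634b775fe9c1fdd5ac84b8906149755d240c3018ae86ba92ebc3ffd7567e426a133b072f99b18da5dcf4c8e01139052d547c4068def6cae29bb38fa798b08ca4ddf5c9e1577f436b123a062edff7cbe39ab28ea61038042c557d41693f172b037a526e46f0d8e4ccb59da18978506c443d152901b79fa38bf2dae6cef1d9e5cdb49ca0883e162a027b536f47b69ea28af3dbe7cf79516d453c142800,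
  nat_lit 0xf0f1f2f3f4f5f6f7f8f9fafbfcfdfeffe1e0e3e2e5e4e7e6e9e8ebeaedecefeed2d3d0d1d6d7d4d5dadbd8d9dedfdcddc3c2c1c0c7c6c5c4cbcac9c8cfcecdccb4b5b6b7b0b1b2b3bcbdbebfb8b9babba5a4a7a6a1a0a3a2adacafaea9a8abaa96979495929390919e9f9c9d9a9b989987868584838281808f8e8d8c8b8a898878797a7b7c7d7e7f707172737475767769686b6a6d6c6f6e61606362656467665a5b58595e5f5c5d52535051565754554b4a49484f4e4d4c43424140474645443c3d3e3f38393a3b34353637303132332d2c2f2e29282b2a25242726212023221e1f1c1d1a1b181916171415121310110f0e0d0c0b0a09080706050403020100,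
  nat_lit 0xf5f4f2f3f1f0f6f7f8f9fffefcfdfbfae1e0e6e7e5e4e2e3ecedebeae8e9efee8c8d8b8a88898f8e818086878584828398999f9e9c9d9b9a9594929391909697b4b5b3b2b0b1b7b6b9b8bebfbdbcbabba0a1a7a6a4a5a3a2adacaaaba9a8aeafcdcccacbc9c8cecfc0c1c7c6c4c5c3c2d9d8dedfdddcdadbd4d5d3d2d0d1d7d623222425272620212e2f29282a2b2d2c37363031333234353a3b3d3c3e3f39385a5b5d5c5e5f595857565051535254554e4f49484a4b4d4c434244454746404162636564666761606f6e68696b6a6c6d76777170727375747b7a7c7d7f7e78791b1a1c1d1f1e181916171110121315140f0e08090b0a0c0d0203050406070100,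
  nat_lit 0x7e7f7c7d76777475727370717a7b78796e6f6c6d66676465626360616a6b6869565754555e5f5c5d5a5b585952535051464744454e4f4c4d4a4b484942434041fefffcfdf6f7f4f5f2f3f0f1fafbf8f9eeefecede6e7e4e5e2e3e0e1eaebe8e9d6d7d4d5dedfdcdddadbd8d9d2d3d0d1c6c7c4c5cecfcccdcacbc8c9c2c3c0c1bfbebdbcb7b6b5b4b3b2b1b0bbbab9b8afaeadaca7a6a5a4a3a2a1a0abaaa9a8979695949f9e9d9c9b9a999893929190878685848f8e8d8c8b8a8988838281803f3e3d3c37363534333231303b3a39382f2e2d2c27262524232221202b2a2928171615141f1e1d1c1b1a191813121110070605040f0e0d0c0b0a090803020100,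
  nat_lit 0x6f6ea1a07b7ab5b46362adac7776b9b87f7eb1b06b6aa5a47372bdbc6766a9a85756999843428d8c5b5a95944f4e81804746898853529d9c4b4a85845f5e91903e3ff0f12a2be4e53233fcfd2627e8e92e2fe0e13a3bf4f52223eced3637f8f90607c8c91213dcdd0a0bc4c51e1fd0d11617d8d90203cccd1a1bd4d50e0fc0c1aeaf6061babb7475a2a36c6db6b77879bebf7071aaab6465b2b37c7da6a768699697585982834c4d9a9b54558e8f40418687484992935c5d8a8b44459e9f5051fffe3130ebea2524f3f23d3ce7e62928efee2120fbfa3534e3e22d2cf7f63938c7c60908d3d21d1ccbca0504dfde1110d7d61918c3c20d0cdbda1514cfce0100,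
  nat_lit 0x3f3eb4b52b2aa0a12322a8a93736bcbd2f2ea4a53b3ab0b13332b8b92726acad1312989907068c8d0f0e84851b1a90910302888917169c9d1f1e94950b0a80816e6fe5e47a7bf1f07273f9f86667edec7e7ff5f46a6be1e06263e9e87677fdfc4243c9c85657dddc5e5fd5d44a4bc1c05253d9d84647cdcc4e4fc5c45a5bd1d0efee6465fbfa7071f3f27879e7e66c6dfffe7475ebea6061e3e26869f7f67c7dc3c24849d7d65c5ddfde5455cbca4041d3d25859c7c64c4dcfce4445dbda5051bebf3534aaab2120a2a32928b6b73d3caeaf2524babb3130b2b33938a6a72d2c9293191886870d0c8e8f05049a9b11108283090896971d1c9e9f15148a8b0100,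
  nat_lit 0xadac6160a1a06d6cb1b07d7cbdbc7170a9a86564a5a46968b5b47978b9b875748d8c414081804d4c91905d5c9d9c515089884544858449489594595899985554a3a26f6eafae6362bfbe7372b3b27f7ea7a66b6aabaa6766bbba7776b7b67b7a83824f4e8f8e43429f9e535293925f5e87864b4a8b8a47469b9a575697965b5af7f63b3afbfa3736ebea2726e7e62b2af3f23f3efffe3332efee2322e3e22f2ed7d61b1adbda1716cbca0706c7c60b0ad3d21f1edfde1312cfce0302c3c20f0ef9f83534f5f43938e5e42928e9e82524fdfc3130f1f03d3ce1e02d2cedec2120d9d81514d5d41918c5c40908c9c80504dddc1110d1d01d1cc1c00d0ccdcc0100,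
  nat_lit 0x6b6a2f2e7b7a3f3e7f7e3b3a6f6e2b2a676623227776333273723736636227264b4a0f0e5b5a1f1e5f5e1b1a4f4e0b0a47460302575613125352171643420706b7b6f3f2a7a6e3e2a3a2e7e6b3b2f7f6bbbafffeabaaefeeafaeebeabfbefbfa9796d3d28786c3c28382c7c69392d7d69b9adfde8b8acfce8f8ecbca9f9edbdab1b0f5f4a1a0e5e4a5a4e1e0b5b4f1f0bdbcf9f8adace9e8a9a8edecb9b8fdfc9190d5d48180c5c48584c1c09594d1d09d9cd9d88d8cc9c88988cdcc9998dddc6d6c29287d7c393879783d3c69682d2c616025247170353475743130656421204d4c09085d5c191859581d1c49480d0c41400504515015145554111045440100,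
  nat_lit 0xa0a4aca8a1a5ada9a3a7afaba2a6aeaae4e0e8ece5e1e9ede7e3ebefe6e2eaee6c6860646d6961656f6b63676e6a6266282c2420292d25212b2f27232a2e2622b1b5bdb9b0b4bcb8b2b6bebab3b7bfbbf5f1f9fdf4f0f8fcf6f2fafef7f3fbff7d7971757c7870747e7a72767f7b7377393d3531383c34303a3e36323b3f373393979f9b92969e9a90949c9891959d99d7d3dbdfd6d2daded4d0d8dcd5d1d9dd5f5b53575e5a52565c5850545d5951551b1f17131a1e1612181c1410191d151182868e8a83878f8b81858d8980848c88c6c2cacec7c3cbcfc5c1c9cdc4c0c8cc4e4a42464f4b43474d4941454c4840440a0e06020b0f0703090d0501080c0400,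
  nat_lit 0xc0d4e8fc8591adb94a5e62760f1b27338490acb8c1d5e9fd0e1a26324b5f6377485c60740d192531c2d6eafe8793afbb0c182430495d61758692aebac3d7ebff9581bda9d0c4f8ec1f0b37235a4e7266d1c5f9ed9480bca85b4f73671e0a36221d093521584c70649783bfabd2c6faee594d71651c083420d3c7fbef9682beaa6a7e42562f3b0713e0f4c8dca5b18d992e3a06126b7f4357a4b08c98e1f5c9dde2f6cadea7b38f9b687c40542d390511a6b28e9ae3f7cbdf2c380410697d41553f2b17037a6e5246b5a19d89f0e4d8cc7b6f53473e2a1602f1e5d9cdb4a09c88b7a39f8bf2e6dace3d291501786c5044f3e7dbcfb6a29e8a796d51453c281400,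
  nat_lit 0x504d766b120f3429d3cef5e8918cb7aa8d90abb6cfd2e9f40e1328354c516a77362b100d7469524fb5a8938ef7ead1ccebf6cdd0a9b48f9268754e532a370c11726f5449302d160bf1ecd7cab3ae9588afb28994edf0cbd62c310a176e7348551409322f564b706d978ab1acd5c8f3eec9d4eff28b96adb04a576c7108152e33637e4558213c071ae0fdc6dba2bf8499bea39885fce1dac73d201b067f6259440518233e475a617c869ba0bdc4d9e2ffd8c5fee39a87bca15b467d6019043f22415c677a031e2538c2dfe4f9809da6bb9c81baa7dec3f8e51f0239245d407b66273a011c6578435ea4b9829fe6fbc0ddfae7dcc1b8a59e8379645f423b261d00,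
  nat_lit 0x6f67636b6c6460686e66626a6d656169e6eeeae2e5ede9e1e7efebe3e4ece8e0a1a9ada5a2aaaea6a0a8aca4a3abafa72820242c2b23272f2921252d2a22262e5850545c5b53575f5951555d5a52565ed1d9ddd5d2daded6d0d8dcd4d3dbdfd7969e9a92959d9991979f9b93949c98901f17131b1c1410181e16121a1d151119767e7a72757d7971777f7b73747c7870fff7f3fbfcf4f0f8fef6f2fafdf5f1f9b8b0b4bcbbb3b7bfb9b1b5bdbab2b6be31393d35323a3e3630383c34333b3f3741494d45424a4e4640484c44434b4f47c8c0c4cccbc3c7cfc9c1c5cdcac2c6ce8f87838b8c8480888e86828a8d858189060e0a02050d0901070f0b03040c0800,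
  nat_lit 0x505c5854535f5b57525e5a56515d59559c9094989f93979b9e92969a9d919599d8d4d0dcdbd7d3dfdad6d2ded9d5d1dd14181c10171b1f13161a1e1215191d11636f6b67606c6864616d6965626e6a66afa3a7abaca0a4a8ada1a5a9aea2a6aaebe7e3efe8e4e0ece9e5e1edeae6e2ee272b2f2324282c2025292d21262a2e22727e7a76717d7975707c7874737f7b77beb2b6babdb1b5b9bcb0b4b8bfb3b7bbfaf6f2fef9f5f1fdf8f4f0fcfbf7f3ff363a3e3235393d3134383c30373b3f33414d4945424e4a46434f4b47404c48448d8185898e82868a8f83878b8c808488c9c5c1cdcac6c2cecbc7c3cfc8c4c0cc05090d01060a0e02070b0f0304080c00,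
  nat_lit 0x814dc509a16de529b17df539915dd5198d41c905ad61e925bd71f9359d51d9158549c10da569e12db579f13d9559d11d8945cd01a965ed21b975fd319955dd11a36fe72b834fc70b935fd71bb37ff73baf63eb278f43cb079f53db17bf73fb37a76be32f874bc30f975bd31fb77bf33fab67ef238b47cf039b57df13bb77ff33b27ef63a925ed61a824ec60aa26ee62abe72fa369e52da168e42ca06ae62ea26b67af23e965ad21e864ac20ea66ae22eba76fe329a56de128a46ce02aa66ee22905cd418b07cf438a06ce428804cc4089c50d814bc70f834ac60e8248c40c8049458d01cb478f03ca468e02c8448c00c9854dc10b874fc30a864ec208844cc00,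
  nat_lit 0xc0566afcba2c10864adce07630a69a0c39af930543d5e97fb325198fc95f63f5ca5c60f6b0261a8c40d6ea7c3aac900633a5990f49dfe375b92f1385c35569ff1781bd2b6dfbc7519d0b37a1e7714ddbee7844d294023ea864f2ce581e88b4221d8bb72167f1cd5b97013dabed7b47d1e4724ed89e0834a26ef8c4521482be28e87e42d4920438ae62f4c85e188eb2241187bb2d6bfdc1579b0d31a7e1774bdde27448de980e32a468fec2541284b82e1b8db12761f7cb5d91073badeb7d41d73fa9950345d3ef79b5231f89cf5965f3c6506cfabc2a16804cdae67036a09c0a35a39f094fd9e573bf291583c5536ff9cc5a66f0b6201c8a46d0ec7a3caa9600]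
noncomputable def F_P (k u : ℕ) : ℕ := Nat.land (Nat.shiftRight (nth (nat_lit 0) F_Pd k) (Nat.mul u (nat_lit 8))) (nat_lit 255)
noncomputable def lxDd : ℕ := nat_lit 0x37edc362d534dc7300d76ebaef3abf6b3a468ac0ac59ee74bd25f966d1b2a9b9e67f8f22fa9ea09aa6393e20a11fe91e40895e194e2b85e03719f47b5b17e9b6729bc5c96b6b993559855dd626116f56d4d4b11e4e1024c52a454c9400e42b8a0260923f8f0388ac2787c384901b8681689c26c8e200581103e2848d2187f1c86517850128370c029088551203b06c340b4260501f0343207818048110181005409010080080100000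
noncomputable def lxD (u : ℕ) : ℕ := Nat.land (Nat.shiftRight lxDd (Nat.mul u (nat_lit 10))) (nat_lit 1023)
noncomputable def lxPd : ℕ := nat_lit 0x7e3f97418215e9d12ac02e62c3112281c2bd54af6b406fee37b3f5d680be90d7e019fcff33b57743a850a05ae251da999155186970735baa47f35f5ef9ecf0ce89b6a2ad982c053488faf674bb306db8e7b0a5a760200f10e5dbddcc0b0e0a44eb2464799e38667a968b283c8a7ddccdd0cf0607099f4645263b0d831c14c1020308420c1d0401
noncomputable def lxP (u : ℕ) : ℕ := Nat.land (Nat.shiftRight lxPd (Nat.mul u (nat_lit 8))) (nat_lit 255)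
noncomputable def lxQd : ℕ := nat_lit 0x63000064003d4a00003c6c004d000048006f00492600800036002e00005a006600002c182d580000676b000000007f161547172b00000000000000007a76087d006975003a000037004561006d00003573004300004f005e330034000044005c1122000000005742841e000000005668000000001d1a463e000000000b82776a00861900001f23006000003b51000052700038007200530000200024007b00324c4b0000505b0000000055740000595d00000000000000004e100f275f0483718500001b0d0000216e00003f62000039007c0041007e001c000e0025007800310000020a00006554000081090000792f30290c032a2812051314400106070000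
noncomputable def lxQ (u : ℕ) : ℕ := Nat.land (Nat.shiftRight lxQd (Nat.mul u (nat_lit 8))) (nat_lit 255)
noncomputable def lx : Lev := ⟨135, 7, lxD, lxP, lxQ⟩
noncomputable def cSth_W : List (List ℕ) := [[nat_lit 1, nat_lit 3, nat_lit 1, nat_lit 2, nat_lit 0, nat_lit 3, nat_lit 2, nat_lit 4, nat_lit 5, nat_lit 4, nat_lit 3, nat_lit 1, nat_lit 2, nat_lit 0, nat_lit 3, nat_lit 4],
  [nat_lit 0, nat_lit 1, nat_lit 2, nat_lit 0, nat_lit 3, nat_lit 2, nat_lit 0, nat_lit 4, nat_lit 3, nat_lit 1, nat_lit 2, nat_lit 3, nat_lit 4, nat_lit 5, nat_lit 4, nat_lit 3],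
  [nat_lit 3, nat_lit 4, nat_lit 3, nat_lit 1, nat_lit 2, nat_lit 3, nat_lit 5, nat_lit 4, nat_lit 6, nat_lit 5, nat_lit 4, nat_lit 3, nat_lit 1, nat_lit 2],
  [nat_lit 2, nat_lit 3, nat_lit 1, nat_lit 2, nat_lit 4, nat_lit 3, nat_lit 2, nat_lit 5, nat_lit 4, nat_lit 3, nat_lit 6, nat_lit 5],
  [nat_lit 0, nat_lit 1, nat_lit 2, nat_lit 3, nat_lit 4, nat_lit 3, nat_lit 1, nat_lit 2, nat_lit 6, nat_lit 5, nat_lit 4, nat_lit 3, nat_lit 1, nat_lit 2, nat_lit 0, nat_lit 3, nat_lit 2, nat_lit 4],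
  [nat_lit 0],
  [nat_lit 1],
  [nat_lit 2],
  [nat_lit 3],
  [nat_lit 4],
  [nat_lit 5],
  [nat_lit 6],
  [nat_lit 1, nat_lit 2, nat_lit 5, nat_lit 4, nat_lit 3, nat_lit 1, nat_lit 6, nat_lit 5, nat_lit 4, nat_lit 3, nat_lit 1, nat_lit 2, nat_lit 0]]
noncomputable def cSth_P : ℕ → ℕ → ℕ := wdsP P cSth_W
noncomputable def cStl0Dd : ℕ := nat_lit 0xa20f9df244a7dee8847b08742bb9709f96a4848fc1eb5d6214f51d15d4710c8ab63ea7a0c81843e879ced9ce3840d01420039a638ba94f25209c0d85130256ca110f0346309391b1d00340e10d1e839c6c8cd1802cc0e8a611a200720b11302303f8e31942f45208b0fc1c8778bc12c2283e8950e0220378650b21e82b84b07e0f81904907a0c4180240300ec178170740880b02102a0b00a0130160280480800e01802800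
noncomputable def cStl0D (u : ℕ) : ℕ := Nat.land (Nat.shiftRight cStl0Dd (Nat.mul u (nat_lit 11))) (nat_lit 2047)
noncomputable def cStl0Pd : ℕ := nat_lit 0x59d9613d568ff1581f5292f4a372d34eaec987b1b775a6e87cc51a78fd3a8e95cb3139676a4a49fe7ba49b25179a7f8427d8c84dab21f7e6e36e4c32bf86b29ca1f2ed63a9c64bac169329488ce4bcd2d4761e2be1df655c714f133e579dfbd5f82f12ef5db99435c7ea236cde361bb4538dc46885baca2d
noncomputable def cStl0P (u : ℕ) : ℕ := Nat.land (Nat.shiftRight cStl0Pd (Nat.mul u (nat_lit 8))) (nat_lit 255)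
noncomputable def cStl0Qd : ℕ := nat_lit 0x142d803200017820006c00db8802801a800038060010002a7e01180442c0000003b460000c27d2a00000000000ae073451ecaf05000000076000290008900c60000800e7200019c0308601980018404ed601b800000d389b280000002c115db4000e56432b0000000cae81c80000000920005f9e0005c009b10001a8f8000f800c014c004a8010806803a8000009a00003bf037cc0000fb80003da223d634a8ac000000000000000073a00016aa80002880000f2b002c0000048016808e026001a02100de94000137400096bc0003a540000000000000000000000000000000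
noncomputable def cStl0Q (u : ℕ) : ℕ := Nat.land (Nat.shiftRight cStl0Qd (Nat.mul u (nat_lit 7))) (nat_lit 127)
noncomputable def cStl0 : Lev := ⟨120, 13, cStl0D, cStl0P, cStl0Q⟩
noncomputable def cStl1Dd : ℕ := nat_lit 0xc590a2a399846f854a6b405c505d465249363731392c27322e342f35242228231d182b131e1916101c0f17110e0b0a0d0906050708040300
noncomputable def cStl1D (u : ℕ) : ℕ := Nat.land (Nat.shiftRight cStl1Dd (Nat.mul u (nat_lit 8))) (nat_lit 255)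
noncomputable def cStl1Pd : ℕ := nat_lit 0xfe139a525c4a328e94e884b7a97f63c592f23ed94ca1b97b75abd3c761f88c4edf6536b1e456671bea3aa3f41fe6bf48179ccbd586c95871
noncomputable def cStl1P (u : ℕ) : ℕ := Nat.land (Nat.shiftRight cStl1Pd (Nat.mul u (nat_lit 8))) (nat_lit 255)
noncomputable def cStl1Qd : ℕ := nat_lit 0x3700000001a00000c02600000000000f02e00a0130000005c0000000900000100740000000000140080700a00000000240000000840b00000000500000000780ac000000034088000000603500000002f02700003001900000000302d000000a800008000000007c0000000000000000000440580a406c000003300000101200003400001802303200800000000000002500000e0000150000310000000000000000000000000002c00004000001c0000d80000000000000000000000000000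
noncomputable def cStl1Q (u : ℕ) : ℕ := Nat.land (Nat.shiftRight cStl1Qd (Nat.mul u (nat_lit 6))) (nat_lit 63)
noncomputable def cStl1 : Lev := ⟨56, 5, cStl1D, cStl1P, cStl1Q⟩
noncomputable def cStl2Dd : ℕ := nat_lit 0x101ebb70b53a9464d012205c78c142470716184040614100
noncomputable def cStl2D (u : ℕ) : ℕ := Nat.land (Nat.shiftRight cStl2Dd (Nat.mul u (nat_lit 7))) (nat_lit 127)
noncomputable def cStl2Pd : ℕ := nat_lit 0xa33e52df8c1f67fe4ce46348a9d59c92c5581bb73af4ea5686cbb9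
noncomputable def cStl2P (u : ℕ) : ℕ := Nat.land (Nat.shiftRight cStl2Pd (Nat.mul u (nat_lit 8))) (nat_lit 255)
noncomputable def cStl2Qd : ℕ := nat_lit 0x4c0000000000050000000000010000001100000b800000000001a000000000000800000140000000000000000380000000000000001c000000d00000000c000000000002c0000016000000080000000000000000000000000000000000000a000080000000000000900c0006000000120000f00000000000640001800000000000000000000000000000000a800040000000000000000000000000000000000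
noncomputable def cStl2Q (u : ℕ) : ℕ := Nat.land (Nat.shiftRight cStl2Qd (Nat.mul u (nat_lit 5))) (nat_lit 31)
noncomputable def cStl2 : Lev := ⟨27, 3, cStl2D, cStl2P, cStl2Q⟩
noncomputable def cStl3Dd : ℕ := nat_lit 0xfa3440
noncomputable def cStl3D (u : ℕ) : ℕ := Nat.land (Nat.shiftRight cStl3Dd (Nat.mul u (nat_lit 3))) (nat_lit 7)
noncomputable def cStl3Pd : ℕ := nat_lit 0xa33e8c671f48d5f4
noncomputable def cStl3P (u : ℕ) : ℕ := Nat.land (Nat.shiftRight cStl3Pd (Nat.mul u (nat_lit 8))) (nat_lit 255)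
noncomputable def cStl3Qd : ℕ := nat_lit 0x8000000000000000000000000000000000000e00000000000000005000000000000000000000000000800000000000000000000002000000180000000000000000000000600000000000000000000000
noncomputable def cStl3Q (u : ℕ) : ℕ := Nat.land (Nat.shiftRight cStl3Qd (Nat.mul u (nat_lit 3))) (nat_lit 7)
noncomputable def cStl3 : Lev := ⟨8, 2, cStl3D, cStl3P, cStl3Q⟩
noncomputable def cSe_W : List (List ℕ) := [[nat_lit 1, nat_lit 3, nat_lit 2, nat_lit 0, nat_lit 4, nat_lit 3, nat_lit 1, nat_lit 2, nat_lit 3, nat_lit 4, nat_lit 5, nat_lit 4, nat_lit 3, nat_lit 1, nat_lit 2, nat_lit 0, nat_lit 3, nat_lit 2, nat_lit 4, nat_lit 3, nat_lit 1]]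
noncomputable def cSe_P : ℕ → ℕ → ℕ := wdsP P cSe_W
noncomputable def cSc0Dd : ℕ := nat_lit 0
noncomputable def cSc0D (u : ℕ) : ℕ := Nat.land (Nat.shiftRight cSc0Dd (Nat.mul u (nat_lit 1))) (nat_lit 1)
noncomputable def cSc0Pd : ℕ := nat_lit 0xbed
noncomputable def cSc0P (u : ℕ) : ℕ := Nat.land (Nat.shiftRight cSc0Pd (Nat.mul u (nat_lit 6))) (nat_lit 63)
noncomputable def cSc0Qd : ℕ := nat_lit 0x800000000000
noncomputable def cSc0Q (u : ℕ) : ℕ := Nat.land (Nat.shiftRight cSc0Qd (Nat.mul u (nat_lit 1))) (nat_lit 1)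
noncomputable def cSc0 : Lev := ⟨2, 1, cSc0D, cSc0P, cSc0Q⟩
noncomputable def cStn0Fd : ℕ := nat_lit 0x6a699aaaa69a9aaaa59956a669a9a9995669596665955965455655556554
noncomputable def cStn0F (u : ℕ) : ℕ := Nat.land (Nat.shiftRight cStn0Fd (Nat.mul u (nat_lit 2))) (nat_lit 3)
noncomputable def cStn0 : Nd := ⟨cStn0F, (nat_lit 2), (nat_lit 1), [[nat_lit 1]], [((nat_lit 0), []), ((nat_lit 0), [nat_lit 0]), ((nat_lit 0), [nat_lit 0, nat_lit 1]), ((nat_lit 0), [nat_lit 0, nat_lit 1, nat_lit 1])], []⟩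
noncomputable def syt_W : List (List ℕ) := [[nat_lit 2, nat_lit 0, nat_lit 3, nat_lit 1, nat_lit 2, nat_lit 3, nat_lit 4, nat_lit 3, nat_lit 1, nat_lit 5, nat_lit 4, nat_lit 3, nat_lit 6, nat_lit 5, nat_lit 4, nat_lit 3, nat_lit 1, nat_lit 2, nat_lit 0, nat_lit 3, nat_lit 2],
  [nat_lit 0, nat_lit 4, nat_lit 3, nat_lit 1, nat_lit 5, nat_lit 4, nat_lit 3, nat_lit 1, nat_lit 2, nat_lit 0, nat_lit 6, nat_lit 5, nat_lit 4, nat_lit 3, nat_lit 1, nat_lit 2, nat_lit 0, nat_lit 3, nat_lit 2, nat_lit 4, nat_lit 3, nat_lit 1, nat_lit 5, nat_lit 4, nat_lit 3, nat_lit 6, nat_lit 5, nat_lit 4],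
  [nat_lit 0, nat_lit 1, nat_lit 2, nat_lit 0, nat_lit 3, nat_lit 1, nat_lit 2, nat_lit 3, nat_lit 4, nat_lit 3, nat_lit 1, nat_lit 5, nat_lit 4, nat_lit 3, nat_lit 1, nat_lit 2, nat_lit 6, nat_lit 5, nat_lit 4, nat_lit 3, nat_lit 1, nat_lit 2, nat_lit 0, nat_lit 3, nat_lit 2],
  [nat_lit 0, nat_lit 3, nat_lit 5, nat_lit 4, nat_lit 3, nat_lit 1, nat_lit 2, nat_lit 3, nat_lit 4, nat_lit 5, nat_lit 6, nat_lit 5, nat_lit 4, nat_lit 3, nat_lit 1, nat_lit 2, nat_lit 0, nat_lit 3, nat_lit 4, nat_lit 5],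
  [nat_lit 0, nat_lit 1, nat_lit 2, nat_lit 3, nat_lit 4, nat_lit 3, nat_lit 2, nat_lit 5, nat_lit 4, nat_lit 3, nat_lit 1, nat_lit 2, nat_lit 0, nat_lit 3, nat_lit 2, nat_lit 4, nat_lit 3, nat_lit 5, nat_lit 6, nat_lit 5, nat_lit 4, nat_lit 3, nat_lit 1, nat_lit 2, nat_lit 3, nat_lit 4],
  [nat_lit 0, nat_lit 2, nat_lit 3, nat_lit 4, nat_lit 3, nat_lit 2, nat_lit 5, nat_lit 4, nat_lit 3, nat_lit 1, nat_lit 2, nat_lit 0, nat_lit 3, nat_lit 4, nat_lit 5, nat_lit 6, nat_lit 5, nat_lit 4, nat_lit 3, nat_lit 1, nat_lit 2, nat_lit 3, nat_lit 4],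
  [nat_lit 2, nat_lit 4, nat_lit 3, nat_lit 1, nat_lit 2, nat_lit 3, nat_lit 5, nat_lit 4, nat_lit 3, nat_lit 1, nat_lit 2, nat_lit 3, nat_lit 6, nat_lit 5, nat_lit 4, nat_lit 3, nat_lit 1, nat_lit 2, nat_lit 0, nat_lit 3, nat_lit 2, nat_lit 4, nat_lit 3, nat_lit 1, nat_lit 5, nat_lit 4, nat_lit 3],
  [nat_lit 0, nat_lit 3, nat_lit 1, nat_lit 2, nat_lit 4, nat_lit 3, nat_lit 5, nat_lit 4, nat_lit 3, nat_lit 1, nat_lit 2, nat_lit 0, nat_lit 6, nat_lit 5, nat_lit 4],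
  [nat_lit 0, nat_lit 2, nat_lit 0, nat_lit 3, nat_lit 1, nat_lit 2, nat_lit 0, nat_lit 3, nat_lit 2, nat_lit 4, nat_lit 3, nat_lit 1, nat_lit 2, nat_lit 5, nat_lit 4, nat_lit 3, nat_lit 1, nat_lit 2, nat_lit 6, nat_lit 5, nat_lit 4, nat_lit 3, nat_lit 1, nat_lit 2, nat_lit 0, nat_lit 3, nat_lit 2]]
noncomputable def syt_P : ℕ → ℕ → ℕ := wdsP P syt_W
noncomputable def syPd : List ℕ := [nat_lit 0x7cf7ebcf8efdbaf4e7cb8f0dfbb6e0bf7aee4c78b0e8cf9b2ecd7ab4d09f3a6d4a74a8d8af5aadcb76acc07ef9ec4870a0c88f1a2cc972a4b05eb96b466c98b86ed9abc76e9cac56a94a84e992a4468909f4074f1b3864d173054b13284490f203470b182450710143030804100,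
  nat_lit 0x76ebdfc79f5f3deedbbf871e5d39dbb566e57ad56c53a546a4f9d36869d9af565d19f361c98f15dc17ef2f5cb583364c5a376cd5c3b74e5e3d80fdf41890e145911e349992e52b58a5527509532446890993470d9e3a7d01124509962a5cc0e1a40789142c6060a20381040c200,
  nat_lit 0x7cf7dfc79f5dbaf4e7bf871e5bb6dbd7674d3c7470d7cf572cfbf36edcd96b554c94b158d15b350c13af3b96e64b386c60b78ed62af7eb5ebc98ea53488ca13890da33080b9f27509532b58a552446890982e4ca152c488a03e6ce1d3c68c871014304060808f203470c1628480,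
  nat_lit 0x7cf7ebcf8efdbaeedbbf871e5d39af64b5a335cc583774d5e3b6ce5c45991e549912e33d88fe141810df5bad66c57b556e539d4684fa536a61c18ef5dc97f169d1af365d99f52c56a55284e95323488511e3a80f99346ce1426449182e54b09143058e1a3c80104101860a1c400,
  nat_lit 0x7bf9e3bfaf3d7b6dddc796fe1cfa3e7101b4661217427911d4a69319437305dcb63259bf6af5bc75b157eaa9b2962b992d66a1a275eb182b679b967dfab76beba3a69e3b386da750992ab58a94a34885114265cc122254b1e3a68c9f406ce0104101850c20389143058d1c40780,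
  nat_lit 0x71e5cfa6edbc37f8efd7b7cf7e7d3066b98b25ad17b672e1dbc6ee9ac693225cc8f2a2c086fa0c27b11fe5d59f66bd1a735fc977161bd8f04fa9369519d4e855b55ee5bb166b2954b15a64a9d42446851173054b13284491a326ce1d3c80f8b182848d1c4078104101880e14300,
  nat_lit 0x74e7cb8f0dfbb6fcf7dfc79f5dbaafa0e6d35accea31a4dec3bb8b675f81a65658d8e261859e46b9975f607faa4e68b921e283a23ec9779eb09eeacb6aad29b2a2e2bbcb6ba6aa529d4264aad621448d203081c4060a0808b183868f202849e3a6ce1f4068c942654b173048880,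
  nat_lit 0x78efd7b7cf7e7d6fe1d39edddcb8c79f06cbfaf268cba6f6ac3b7166de6db1a665d91e6275a186a6581c5f6fa58e75f85ce377956eb6775ac69d12e3ead32a4aa502c42b52282c56992a750a55214491182021c4060a0c20b184078d1c28491245cc132854b1f4064d1c3678e80,
  nat_lit 0x79f5d7b7cf7e3befe1d39edddcb8c37705ccb67258bf6ef5ac75f156be6d01c465d218427511e4a6531a6ba7a68e3b786ce79f966dfaf76ae69da285ead82c6aa5b2a62b592e2750992ac56a552446851122258a942660ba03e6ce1d3c68c8104101850c2038c162450f2038680]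
noncomputable def syP (k u : ℕ) : ℕ := Nat.land (Nat.shiftRight (nth (nat_lit 0) syPd k) (Nat.mul u (nat_lit 7))) (nat_lit 127)
noncomputable def syEd : ℕ := nat_lit 0xdbdad7d6cfcec3c29998919089888180fffcfaf9f6f5f3f0eeecebe9e7e5e2e0bebdbbb8b6b5b3b0afadaaa8a7a5a2a07e7d7a79777473706f6d6b69666462603f3c3b38373433302e2c2a2826242220151411100d0c09081d1c0504dddcd1d0cdccc1c09f9e97968b8a838255545150454441400f0e0b0a0706030201
noncomputable def syE (u : ℕ) : ℕ := Nat.land (Nat.shiftRight syEd (Nat.mul u (nat_lit 8))) (nat_lit 255)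
noncomputable def syId : ℕ := nat_lit 0xd80006b01ab48001a3380cc000650190063c403080c002f80017805d000101ff9ec000f5e40000000f1df1dce1b00000000000000edd4d190172d80b4000590162b80ac00055a8029800148051a002780013804d305c0000003a732c5400000039710000000284f86f0000000244776d0132580012a48090000478c0004588021808402080010003f00f803d00000000000000000080f000070d00000000000000000060b0000509780003b740003970000376c0003500d003300c803100c002f00b802d00012230000000000162b0001529101d4270c15325080d1210404000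
noncomputable def syI (u : ℕ) : ℕ := Nat.land (Nat.shiftRight syId (Nat.mul u (nat_lit 7))) (nat_lit 127)
noncomputable def syB : List ℕ := [nat_lit 0, nat_lit 1, nat_lit 33, nat_lit 37, nat_lit 41, nat_lit 45, nat_lit 9, nat_lit 109]
noncomputable def syC : List (List (List ℕ)) := [[[],
  [],
  [],
  [],
  [],
  [],
  [],
  [],
  []], [[],
  [],
  [],
  [],
  [],
  [],
  [nat_lit 0],
  [nat_lit 0],
  []], [[],
  [],
  [],
  [nat_lit 0],
  [nat_lit 0],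
  [nat_lit 1],
  [],
  [nat_lit 1],
  [nat_lit 0, nat_lit 1]], [[],
  [],
  [],
  [],
  [nat_lit 0],
  [nat_lit 1],
  [nat_lit 1],
  [],
  [nat_lit 0]], [[],
  [],
  [],
  [],
  [nat_lit 0],
  [],
  [nat_lit 0, nat_lit 1],
  [nat_lit 0, nat_lit 1],
  [nat_lit 1]], [[],
  [],
  [],
  [],
  [],
  [nat_lit 1],
  [nat_lit 1, nat_lit 2, nat_lit 3],
  [nat_lit 0, nat_lit 4],
  [nat_lit 2, nat_lit 3, nat_lit 4]], [[],
  [],
  [],
  [],
  [],
  [],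
  [nat_lit 2],
  [nat_lit 4],
  [nat_lit 2, nat_lit 4]], [[],
  [],
  [],
  [],
  [],
  [],
  [],
  [nat_lit 3],
  [nat_lit 0, nat_lit 1, nat_lit 3]], [[],
  [],
  [],
  [],
  [],
  [],
  [],
  [],
  [nat_lit 0, nat_lit 1]]]
noncomputable def sye : List (List ℕ) := [[],
  [],
  [],
  [nat_lit 2, nat_lit 3, nat_lit 4],
  [],
  [nat_lit 2, nat_lit 3, nat_lit 4],
  [],
  [nat_lit 2, nat_lit 3, nat_lit 4],
  [],
  [],
  [nat_lit 1, nat_lit 2, nat_lit 4, nat_lit 6, nat_lit 7, nat_lit 8],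
  [nat_lit 1, nat_lit 2, nat_lit 6, nat_lit 7],
  [],
  [],
  [],
  [nat_lit 4, nat_lit 5, nat_lit 6, nat_lit 7],
  [nat_lit 6, nat_lit 7],
  [nat_lit 1, nat_lit 5, nat_lit 8],
  [nat_lit 2, nat_lit 3, nat_lit 4],
  [nat_lit 2, nat_lit 3, nat_lit 4, nat_lit 5],
  [nat_lit 1, nat_lit 2, nat_lit 6]]
noncomputable def syl0Dd : ℕ := nat_lit 0xa73e9a0bb532266d0c24a38fa5f34148943d29940843e1d8a0404f1d0a44a130a0442000
noncomputable def syl0D (u : ℕ) : ℕ := Nat.land (Nat.shiftRight syl0Dd (Nat.mul u (nat_lit 9))) (nat_lit 511)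
noncomputable def syl0Pd : ℕ := nat_lit 0x38735d1544dc7db4865a07902915d908f2550da10860b301
noncomputable def syl0P (u : ℕ) : ℕ := Nat.land (Nat.shiftRight syl0Pd (Nat.mul u (nat_lit 6))) (nat_lit 63)
noncomputable def syl0Qd : ℕ := nat_lit 0x12bc798b19836cd1acd5d057fa113d24f53653ac00
noncomputable def syl0Q (u : ℕ) : ℕ := Nat.land (Nat.shiftRight syl0Qd (Nat.mul u (nat_lit 5))) (nat_lit 31)
noncomputable def syl0 : Lev := ⟨32, 21, syl0D, syl0P, syl0Q⟩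
noncomputable def syl1Dd : ℕ := nat_lit 0xfbd60
noncomputable def syl1D (u : ℕ) : ℕ := Nat.land (Nat.shiftRight syl1Dd (Nat.mul u (nat_lit 5))) (nat_lit 31)
noncomputable def syl1Pd : ℕ := nat_lit 0xbac9
noncomputable def syl1P (u : ℕ) : ℕ := Nat.land (Nat.shiftRight syl1Pd (Nat.mul u (nat_lit 4))) (nat_lit 15)
noncomputable def syl1Qd : ℕ := nat_lit 0x1e00000
noncomputable def syl1Q (u : ℕ) : ℕ := Nat.land (Nat.shiftRight syl1Qd (Nat.mul u (nat_lit 2))) (nat_lit 3)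
noncomputable def syl1 : Lev := ⟨4, 16, syl1D, syl1P, syl1Q⟩
noncomputable def syl2Dd : ℕ := nat_lit 0xa0
noncomputable def syl2D (u : ℕ) : ℕ := Nat.land (Nat.shiftRight syl2Dd (Nat.mul u (nat_lit 4))) (nat_lit 15)
noncomputable def syl2Pd : ℕ := nat_lit 0x3d
noncomputable def syl2P (u : ℕ) : ℕ := Nat.land (Nat.shiftRight syl2Pd (Nat.mul u (nat_lit 3))) (nat_lit 7)
noncomputable def syl2Qd : ℕ := nat_lit 0x80
noncomputable def syl2Q (u : ℕ) : ℕ := Nat.land (Nat.shiftRight syl2Qd (Nat.mul u (nat_lit 1))) (nat_lit 1)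
noncomputable def syl2 : Lev := ⟨2, 11, syl2D, syl2P, syl2Q⟩
noncomputable def syl3Dd : ℕ := nat_lit 0xc
noncomputable def syl3D (u : ℕ) : ℕ := Nat.land (Nat.shiftRight syl3Dd (Nat.mul u (nat_lit 2))) (nat_lit 3)
noncomputable def syl3Pd : ℕ := nat_lit 0x251
noncomputable def syl3P (u : ℕ) : ℕ := Nat.land (Nat.shiftRight syl3Pd (Nat.mul u (nat_lit 5))) (nat_lit 31)
noncomputable def syl3Qd : ℕ := nat_lit 0x40000
noncomputable def syl3Q (u : ℕ) : ℕ := Nat.land (Nat.shiftRight syl3Qd (Nat.mul u (nat_lit 1))) (nat_lit 1)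
noncomputable def syl3 : Lev := ⟨2, 4, syl3D, syl3P, syl3Q⟩
noncomputable def ivr_W : List (List ℕ) := [[nat_lit 1, nat_lit 2, nat_lit 3, nat_lit 1, nat_lit 2, nat_lit 3, nat_lit 4, nat_lit 3, nat_lit 1, nat_lit 2, nat_lit 3, nat_lit 4, nat_lit 5, nat_lit 4, nat_lit 3, nat_lit 1, nat_lit 2, nat_lit 3, nat_lit 4, nat_lit 5, nat_lit 6, nat_lit 5, nat_lit 4, nat_lit 3, nat_lit 1, nat_lit 2, nat_lit 3, nat_lit 4, nat_lit 5, nat_lit 6],
  [nat_lit 1, nat_lit 4, nat_lit 6],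
  [nat_lit 0, nat_lit 1],
  [nat_lit 2, nat_lit 4, nat_lit 6]]
noncomputable def ivr_P : ℕ → ℕ → ℕ := wdsP P ivr_W
noncomputable def ivT0 : CT := (.split (.more (.split (.more (.split (.more (.split (.more (.split (.more (.split (.more (.split (.more (.split (.more (.split (.more .one (.more (.leaf (nat_lit 1) [nat_lit 0, nat_lit 2, nat_lit 0, nat_lit 3, nat_lit 1, nat_lit 2, nat_lit 3, nat_lit 4, nat_lit 3, nat_lit 5, nat_lit 4, nat_lit 3, nat_lit 1, nat_lit 2, nat_lit 0]) .one))) (.more (.fuse [nat_lit 6] [] (.leaf (nat_lit 2) [nat_lit 0, nat_lit 3, nat_lit 1, nat_lit 4, nat_lit 3, nat_lit 1, nat_lit 2, nat_lit 5, nat_lit 4, nat_lit 3, nat_lit 2, nat_lit 6, nat_lit 5, nat_lit 4, nat_lit 3, nat_lit 1, nat_lit 2])) .one))) (.more (.fuse [nat_lit 5] [] (.fuse [nat_lit 3] [] (.leaf (nat_lit 1) [nat_lit 0, nat_lit 1, nat_lit 2, nat_lit 0, nat_lit 3, nat_lit 1, nat_lit 2, nat_lit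 0, nat_lit 3, nat_lit 4, nat_lit 3, nat_lit 5, nat_lit 4, nat_lit 6]))) .one))) (.more (.split (.more (.fuse [nat_lit 5] [] (.fuse [nat_lit 2] [] (.leaf (nat_lit 2) [nat_lit 1, nat_lit 3, nat_lit 1, nat_lit 2, nat_lit 5, nat_lit 4, nat_lit 6, nat_lit 5, nat_lit 4, nat_lit 3, nat_lit 1, nat_lit 2, nat_lit 0, nat_lit 3, nat_lit 2, nat_lit 4, nat_lit 3, nat_lit 1, nat_lit 5]))) (.more (.fuse [nat_lit 6] [] (.fuse [nat_lit 2] [] (.prune (nat_lit 0) (nat_lit 1) []))) .one))) .one))) (.more (.split (.more (.split (.more (.fuse [nat_lit 6] [nat_lit 0] (.fuse [nat_lit 2] [] (.prune (nat_lit 0) (nat_lit 1) []))) (.more (.fuse [nat_lit 5] [] (.fuse [nat_lit 2] [] (.leaf (nat_lit 3) [nat_lit 1, nat_lit 2, nat_lit 3, nat_lit 1, nat_lit 2, nat_lit 0, nat_lit 4, nat_lit 3, nat_lit 1, nat_lit 5, nat_lit 4, nat_lit 3, nat_lit 1, nat_lit 6, nat_lit 5, nat_lit 4, nat_lit 3, nat_lit 1, nat_lit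 2, nat_lit 0, nat_lit 3, nat_lit 4]))) .one))) (.more (.split (.more (.fuse [nat_lit 5] [] (.fuse [nat_lit 3] [] (.leaf (nat_lit 2) [nat_lit 3, nat_lit 1, nat_lit 4, nat_lit 3, nat_lit 2, nat_lit 5, nat_lit 4, nat_lit 3, nat_lit 1, nat_lit 2, nat_lit 0, nat_lit 3, nat_lit 6, nat_lit 5]))) (.more (.split (.more (.fuse [nat_lit 6] [] (.leaf (nat_lit 1) [nat_lit 1, nat_lit 3, nat_lit 2, nat_lit 0, nat_lit 4, nat_lit 3, nat_lit 1, nat_lit 2, nat_lit 3, nat_lit 4, nat_lit 6, nat_lit 5, nat_lit 4, nat_lit 3, nat_lit 1, nat_lit 2, nat_lit 0, nat_lit 3, nat_lit 4])) (.more (.split (.more (.leaf (nat_lit 2) [nat_lit 4, nat_lit 3, nat_lit 1, nat_lit 2, nat_lit 0, nat_lit 5, nat_lit 4, nat_lit 3, nat_lit 1]) (.more (.leaf (nat_lit 0) [nat_lit 0, nat_lit 1, nat_lit 3, nat_lit 4, nat_lit 3, nat_lit 1, nat_lit 5, nat_lit 4, nat_lit 3, nat_lit 2, nat_lit 0, nat_lit 6, nat_lit 5, nat_lit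 4, nat_lit 3]) .one))) .one))) .one))) .one))) .one))) (.more (.fuse [nat_lit 7] [nat_lit 0] (.fuse [nat_lit 6] [nat_lit 1, nat_lit 2] (.split (.more (.fuse [nat_lit 2] [] (.prune (nat_lit 1) (nat_lit 1) [])) (.more (.fuse [nat_lit 2] [] (.fuse [nat_lit 2, nat_lit 3] [] (.leaf (nat_lit 3) [nat_lit 0, nat_lit 2, nat_lit 3, nat_lit 1, nat_lit 2, nat_lit 0, nat_lit 4, nat_lit 5, nat_lit 4, nat_lit 3, nat_lit 1, nat_lit 2, nat_lit 0, nat_lit 3, nat_lit 2, nat_lit 4, nat_lit 3, nat_lit 1, nat_lit 6, nat_lit 5]))) .one))))) .one))) (.more (.split (.more (.fuse [nat_lit 7] [nat_lit 1] (.fuse [nat_lit 5] [nat_lit 0, nat_lit 2] (.fuse [nat_lit 7, nat_lit 8] [nat_lit 1] (.prune (nat_lit 2) (nat_lit 1) [])))) (.more (.split (.more (.fuse [nat_lit 5] [nat_lit 0, nat_lit 2] (.prune (nat_lit 3) (nat_lit 1) [nat_lit 1])) (.more (.fuse [nat_lit 5] [nat_lit 0, nat_lit 2] (.prune (nat_lit 3)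 (nat_lit 1) [nat_lit 0])) .one))) .one))) .one))) (.more (.split (.more (.split (.more (.fuse [nat_lit 5] [nat_lit 1] (.fuse [nat_lit 8] [nat_lit 1] (.prune (nat_lit 3) (nat_lit 1) []))) (.more (.fuse [nat_lit 5] [nat_lit 1] (.prune (nat_lit 4) (nat_lit 1) [nat_lit 0, nat_lit 3])) .one))) (.more (.split (.more (.fuse [nat_lit 5] [nat_lit 2, nat_lit 3] (.prune (nat_lit 4) (nat_lit 1) [nat_lit 1, nat_lit 2, nat_lit 3])) (.more (.fuse [nat_lit 5] [nat_lit 2, nat_lit 3] (.split (.more (.split (.more (.fuse [nat_lit 5, nat_lit 6] [nat_lit 0] (.fuse [nat_lit 3] [] (.leaf (nat_lit 3) [nat_lit 1, nat_lit 2, nat_lit 3, nat_lit 2, nat_lit 5, nat_lit 4, nat_lit 3, nat_lit 1, nat_lit 2, nat_lit 0, nat_lit 3, nat_lit 6, nat_lit 5, nat_lit 4, nat_lit 3, nat_lit 2, nat_lit 0]))) (.more (.split (.more (.split (.more (.leaf (nat_lit 2) [nat_lit 1, nat_lit 2, nat_lit 3, nat_lit 1, nat_lit 2,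 nat_lit 0, nat_lit 5, nat_lit 4, nat_lit 3, nat_lit 1, nat_lit 2, nat_lit 0, nat_lit 3, nat_lit 6, nat_lit 5, nat_lit 4, nat_lit 3]) (.more (.leaf (nat_lit 0) [nat_lit 1, nat_lit 3, nat_lit 1, nat_lit 2, nat_lit 3, nat_lit 4, nat_lit 5, nat_lit 4, nat_lit 3, nat_lit 1, nat_lit 2, nat_lit 0, nat_lit 3, nat_lit 4, nat_lit 6, nat_lit 5, nat_lit 4, nat_lit 3, nat_lit 1, nat_lit 2, nat_lit 0, nat_lit 3]) .one))) (.more (.fuse [nat_lit 5, nat_lit 6] [] (.leaf (nat_lit 3) [nat_lit 0, nat_lit 1, nat_lit 2, nat_lit 3, nat_lit 1, nat_lit 2, nat_lit 4, nat_lit 3, nat_lit 1, nat_lit 2, nat_lit 5, nat_lit 4, nat_lit 3, nat_lit 2, nat_lit 0, nat_lit 6, nat_lit 5, nat_lit 4, nat_lit 3, nat_lit 2, nat_lit 0])) .one))) .one))) (.more (.split (.more (.fuse [nat_lit 5, nat_lit 6] [] (.fuse [nat_lit 2] [] (.prune (nat_lit 0) (nat_lit 1) []))) (.more (.split (.more (.fuse [nat_lit 2] [] (.leaf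 (nat_lit 1) [nat_lit 0, nat_lit 3, nat_lit 4, nat_lit 3, nat_lit 6, nat_lit 5, nat_lit 4, nat_lit 3, nat_lit 1, nat_lit 2, nat_lit 0, nat_lit 3, nat_lit 2, nat_lit 4, nat_lit 5])) (.more (.fuse [nat_lit 2] [] (.leaf (nat_lit 3) [nat_lit 4, nat_lit 3, nat_lit 1, nat_lit 2, nat_lit 5, nat_lit 4, nat_lit 3, nat_lit 1, nat_lit 2, nat_lit 0, nat_lit 6, nat_lit 5])) .one))) .one))) .one)))) .one))) .one))) .one))) (.more (.split (.more (.split (.more (.split (.more (.fuse [nat_lit 5] [nat_lit 2, nat_lit 3] (.fuse [nat_lit 5, nat_lit 6] [nat_lit 0] (.split (.more (.fuse [nat_lit 2] [nat_lit 0] (.prune (nat_lit 1) (nat_lit 1) [nat_lit 0])) (.more (.fuse [nat_lit 2] [nat_lit 0] (.split (.more (.leaf (nat_lit 2) [nat_lit 0, nat_lit 1, nat_lit 2, nat_lit 0, nat_lit 3, nat_lit 1, nat_lit 2, nat_lit 0, nat_lit 4, nat_lit 3, nat_lit 2, nat_lit 5, nat_lit 4, nat_lit 3]) (.more (.leaf (nat_lit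 3) [nat_lit 0, nat_lit 1, nat_lit 2, nat_lit 0, nat_lit 3, nat_lit 1, nat_lit 2, nat_lit 3, nat_lit 4, nat_lit 3, nat_lit 5, nat_lit 4, nat_lit 3, nat_lit 1, nat_lit 2, nat_lit 0, nat_lit 3, nat_lit 2, nat_lit 6]) .one)))) .one))))) (.more (.fuse [nat_lit 5] [nat_lit 2, nat_lit 3] (.prune (nat_lit 4) (nat_lit 1) [nat_lit 0, nat_lit 2, nat_lit 3])) .one))) (.more (.split (.more (.fuse [nat_lit 5] [nat_lit 0] (.prune (nat_lit 4) (nat_lit 1) [nat_lit 1])) (.more (.fuse [nat_lit 5] [nat_lit 0] (.fuse [nat_lit 5, nat_lit 6] [] (.split (.more (.split (.more (.fuse [nat_lit 1] [] (.leaf (nat_lit 2) [nat_lit 1, nat_lit 3, nat_lit 1, nat_lit 2, nat_lit 0, nat_lit 3, nat_lit 4, nat_lit 3, nat_lit 5, nat_lit 4, nat_lit 6, nat_lit 5, nat_lit 4, nat_lit 3, nat_lit 1, nat_lit 2, nat_lit 0, nat_lit 3, nat_lit 2, nat_lit 4, nat_lit 3, nat_lit 1])) (.more (.fuse [nat_lit 1] [] (.prune (nat_lit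 0) (nat_lit 1) [])) .one))) (.more (.split (.more (.fuse [nat_lit 1] [] (.leaf (nat_lit 3) [nat_lit 1, nat_lit 3, nat_lit 1, nat_lit 2, nat_lit 0, nat_lit 3, nat_lit 5, nat_lit 4, nat_lit 3, nat_lit 1, nat_lit 2, nat_lit 0, nat_lit 3, nat_lit 6, nat_lit 5, nat_lit 4, nat_lit 3, nat_lit 1, nat_lit 2, nat_lit 0, nat_lit 3, nat_lit 4, nat_lit 5])) (.more (.fuse [nat_lit 1] [] (.prune (nat_lit 0) (nat_lit 1) [])) .one))) .one))))) .one))) .one))) (.more (.split (.more (.split (.more (.split (.more (.fuse [nat_lit 5] [nat_lit 1, nat_lit 2] (.fuse [nat_lit 6] [nat_lit 0, nat_lit 1] (.split (.more (.fuse [nat_lit 1] [] (.prune (nat_lit 0) (nat_lit 1) [])) (.more (.fuse [nat_lit 1] [] (.leaf (nat_lit 1) [nat_lit 1, nat_lit 2, nat_lit 0, nat_lit 3, nat_lit 2, nat_lit 0, nat_lit 4, nat_lit 3, nat_lit 5, nat_lit 4, nat_lit 3, nat_lit 1, nat_lit 2, nat_lit 0, nat_lit 3, nat_lit 2, nat_lit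 4, nat_lit 5, nat_lit 6, nat_lit 5, nat_lit 4, nat_lit 3, nat_lit 1, nat_lit 2])) .one))))) (.more (.fuse [nat_lit 5] [nat_lit 1, nat_lit 2] (.fuse [nat_lit 6] [nat_lit 0] (.split (.more (.fuse [nat_lit 1] [] (.prune (nat_lit 0) (nat_lit 1) [])) (.more (.fuse [nat_lit 1] [] (.leaf (nat_lit 3) [nat_lit 3, nat_lit 1, nat_lit 4, nat_lit 3, nat_lit 1, nat_lit 2, nat_lit 0, nat_lit 3, nat_lit 4, nat_lit 5, nat_lit 4, nat_lit 3, nat_lit 1, nat_lit 2, nat_lit 0, nat_lit 3, nat_lit 4, nat_lit 5])) .one))))) .one))) (.more (.fuse [nat_lit 7] [nat_lit 0, nat_lit 3] (.fuse [nat_lit 5] [nat_lit 1, nat_lit 2] (.prune (nat_lit 3) (nat_lit 1) [nat_lit 0, nat_lit 2]))) .one))) (.more (.split (.more (.fuse [nat_lit 7] [nat_lit 1, nat_lit 3] (.split (.more (.fuse [nat_lit 6] [nat_lit 1] (.fuse [nat_lit 3] [] (.prune (nat_lit 1) (nat_lit 1) []))) (.more (.fuse [nat_lit 6] [nat_lit 0] (.fuse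 [nat_lit 3] [] (.split (.more (.leaf (nat_lit 2) [nat_lit 0, nat_lit 4, nat_lit 3, nat_lit 1, nat_lit 2, nat_lit 5, nat_lit 4, nat_lit 3, nat_lit 6, nat_lit 5]) (.more (.leaf (nat_lit 1) [nat_lit 1, nat_lit 2, nat_lit 0, nat_lit 3, nat_lit 2, nat_lit 0, nat_lit 6, nat_lit 5, nat_lit 4, nat_lit 3, nat_lit 1, nat_lit 2]) .one))))) .one)))) (.more (.split (.more (.fuse [nat_lit 6] [nat_lit 0, nat_lit 1] (.split (.more (.fuse [nat_lit 2] [nat_lit 0] (.split (.more (.leaf (nat_lit 3) [nat_lit 0, nat_lit 4, nat_lit 3, nat_lit 2, nat_lit 0, nat_lit 5, nat_lit 4, nat_lit 3, nat_lit 6, nat_lit 5, nat_lit 4, nat_lit 3, nat_lit 1, nat_lit 2, nat_lit 0, nat_lit 3]) (.more (.leaf (nat_lit 0) [nat_lit 0, nat_lit 3, nat_lit 5, nat_lit 6, nat_lit 5, nat_lit 4, nat_lit 3, nat_lit 1, nat_lit 2, nat_lit 0, nat_lit 3, nat_lit 2, nat_lit 4, nat_lit 3, nat_lit 5]) .one)))) (.more (.fuse [nat_lit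 2] [nat_lit 0] (.prune (nat_lit 1) (nat_lit 1) [nat_lit 0])) .one)))) (.more (.fuse [nat_lit 6] [nat_lit 0] (.split (.more (.fuse [nat_lit 2] [] (.prune (nat_lit 1) (nat_lit 1) [])) (.more (.fuse [nat_lit 2] [] (.split (.more (.leaf (nat_lit 2) [nat_lit 0, nat_lit 2, nat_lit 3, nat_lit 1, nat_lit 2, nat_lit 3, nat_lit 4, nat_lit 3, nat_lit 2, nat_lit 5, nat_lit 4, nat_lit 3, nat_lit 2, nat_lit 6, nat_lit 5, nat_lit 4, nat_lit 3, nat_lit 1, nat_lit 2, nat_lit 0]) (.more (.leaf (nat_lit 3) [nat_lit 0, nat_lit 2, nat_lit 3, nat_lit 1, nat_lit 4, nat_lit 5, nat_lit 4, nat_lit 3, nat_lit 1, nat_lit 2, nat_lit 0, nat_lit 3, nat_lit 4, nat_lit 5, nat_lit 6]) .one)))) .one)))) .one))) .one))) .one))) .one))) .one)))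
noncomputable def Tgd : ℕ := nat_lit 0xa000000e00000000000000600000000000000000000002000000000000000b00000000f0000000000000000700000000000000000000000030000000000000009000000d00000000000000500000000000000000000001000000000000000800000000c000000000000000040000000000000000000000000
noncomputable def Tg (u : ℕ) : ℕ := Nat.land (Nat.shiftRight Tgd (Nat.mul u (nat_lit 4))) (nat_lit 15)
noncomputable def wit (Px : ℕ → ℕ → ℕ) (r : ℕ) (A : List ℕ) (R H : List (List ℕ)) (c : List ℕ) (i : ℕ) : ℕ :=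
  force (nth 0 c i) fun c => orZ (eqL Px r BN (nth [] R i) A) (Nat.add
    (eqL Px r BN (nth [] H (2 * i) ++ ((nth [] H (2 * i)).reverse ++ nth [] R i ++ nth [] H (2 * i))) (nth [] R i ++ nth [] H (2 * i)))
    (cj3 P Px F_P 7 r 18 BN (nth [] H (2 * i + 1)) (rp (c / 2) A ++ (rp (c % 2) ((nth [] H (2 * i)).reverse ++ nth [] R i ++ nth [] H (2 * i)) ++ nth [] R i)) [2]))
noncomputable def cath_W : List (List ℕ) := [[nat_lit 2, nat_lit 3, nat_lit 2, nat_lit 4, nat_lit 3, nat_lit 2, nat_lit 5, nat_lit 4, nat_lit 3, nat_lit 1, nat_lit 2, nat_lit 3, nat_lit 4, nat_lit 5, nat_lit 6, nat_lit 5, nat_lit 4, nat_lit 3, nat_lit 1, nat_lit 2, nat_lit 3, nat_lit 4, nat_lit 5],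
  [nat_lit 1, nat_lit 3, nat_lit 1, nat_lit 4, nat_lit 3, nat_lit 1, nat_lit 6],
  [nat_lit 3],
  [nat_lit 1, nat_lit 3, nat_lit 4, nat_lit 5, nat_lit 4, nat_lit 6, nat_lit 5, nat_lit 4, nat_lit 3, nat_lit 1],
  [nat_lit 0, nat_lit 2, nat_lit 3, nat_lit 2, nat_lit 4, nat_lit 3, nat_lit 1, nat_lit 2, nat_lit 3, nat_lit 5, nat_lit 4, nat_lit 3, nat_lit 1, nat_lit 2, nat_lit 3, nat_lit 6, nat_lit 5, nat_lit 4, nat_lit 3, nat_lit 2, nat_lit 0],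
  [nat_lit 1, nat_lit 3, nat_lit 2, nat_lit 4, nat_lit 3, nat_lit 1, nat_lit 2, nat_lit 3, nat_lit 5, nat_lit 4, nat_lit 6, nat_lit 5, nat_lit 4, nat_lit 3, nat_lit 2],
  [nat_lit 3, nat_lit 1, nat_lit 4, nat_lit 3, nat_lit 1, nat_lit 2, nat_lit 6, nat_lit 5, nat_lit 4, nat_lit 3],
  [nat_lit 1, nat_lit 2, nat_lit 3, nat_lit 1, nat_lit 2, nat_lit 3, nat_lit 4, nat_lit 3, nat_lit 5, nat_lit 4, nat_lit 3, nat_lit 1, nat_lit 2, nat_lit 3, nat_lit 4, nat_lit 6, nat_lit 5, nat_lit 4, nat_lit 3],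
  [nat_lit 0],
  [nat_lit 1],
  [nat_lit 2],
  [nat_lit 4],
  [nat_lit 5],
  [nat_lit 6],
  [nat_lit 3, nat_lit 6, nat_lit 5, nat_lit 4, nat_lit 3, nat_lit 1, nat_lit 2, nat_lit 0, nat_lit 3, nat_lit 2, nat_lit 4, nat_lit 3, nat_lit 5, nat_lit 4]]
noncomputable def cath_P : ℕ → ℕ → ℕ := wdsP P cath_W
noncomputable def catl0Dd : ℕ := nat_lit 0x1892d6c538e11825c424588811c03676fec9d8c2fa39066ea436f668c998b98ca36df5b735f666b38e297d190ace0e3fe48c8dd0d0aa51ea016527148a8d90cbc251ceccfdac9574860e7b774fc6c5a5059676cb0fcaff5e07e0d003b308324c19ad33c5d0c119d03aad15289c2e42351e22d2e21f88610b38849c850fc20065ca91261f64207d0a320e250b509310a2484208801c20c478150cc2d8390650e20e8448620560a80e0290360680c81805e0800680c01602404000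
noncomputable def catl0D (u : ℕ) : ℕ := Nat.land (Nat.shiftRight catl0Dd (Nat.mul u (nat_lit 11))) (nat_lit 2047)
noncomputable def catl0Pd : ℕ := nat_lit 0x54457d8bad79104638146028fcbdb89f055ff95e6deccf643c8988ce2c42514424dc0fa8e9fa04b00e5bdadb5a6b0620967a189998699e07e5bb0b1ca7dd0db6cc010aaacd2a02833b19038a3430eb1df6f3e20ce7a5d6477074976609d7e0f5a2b3b591f0d0c3a043822608c280c17e6feeaf77be7362ff3f552e1537332290d1504181c04011
noncomputable def catl0P (u : ℕ) : ℕ := Nat.land (Nat.shiftRight catl0Pd (Nat.mul u (nat_lit 8))) (nat_lit 255)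
noncomputable def catl0Qd : ℕ := nat_lit 0xf00007a006174000036270035000022001500713800620032004e0000340028000049655b5c00002930000000000621706b42460000000000000000201a1802001279004d000078004724002500005f14008200004300634a0031000026001f77500000000053522c5600000000230700000000833b6d6c000000003f1d031900178400005581001300002d1100002e1600720059005100002b006f0010007c757300005d5a000000000d860000680500000000000000002f7f85671e6904010e00006e3e00007e0a00003a09000039000c006a0041007b001c0066000800570000374b00003d5400000b7d00000080645e48334c442a1b4f5876603c404500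
noncomputable def catl0Q (u : ℕ) : ℕ := Nat.land (Nat.shiftRight catl0Qd (Nat.mul u (nat_lit 8))) (nat_lit 255)
noncomputable def catl0 : Lev := ⟨135, 15, catl0D, catl0P, catl0Q⟩
noncomputable def catl1Dd : ℕ := nat_lit 0x27464870a0c1e587111228380
noncomputable def catl1D (u : ℕ) : ℕ := Nat.land (Nat.shiftRight catl1Dd (Nat.mul u (nat_lit 7))) (nat_lit 127)
noncomputable def catl1Pd : ℕ := nat_lit 0x4150d1c09081105140c1d0809101
noncomputable def catl1P (u : ℕ) : ℕ := Nat.land (Nat.shiftRight catl1Pd (Nat.mul u (nat_lit 8))) (nat_lit 255)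
noncomputable def catl1Qd : ℕ := nat_lit 0xb3000000000000004a000000000000000000000000000000000000000000000019000000000000008200000000000000000000000000000000000000000000006c00000000000000d50000000000000000000000000000000000000000000000070000000000000000
noncomputable def catl1Q (u : ℕ) : ℕ := Nat.land (Nat.shiftRight catl1Qd (Nat.mul u (nat_lit 4))) (nat_lit 15)
noncomputable def catl1 : Lev := ⟨14, 8, catl1D, catl1P, catl1Q⟩
noncomputable def catl2Dd : ℕ := nat_lit 0x8af9019242cd8f1024300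
noncomputable def catl2D (u : ℕ) : ℕ := Nat.land (Nat.shiftRight catl2Dd (Nat.mul u (nat_lit 7))) (nat_lit 127)
noncomputable def catl2Pd : ℕ := nat_lit 0x50418190c0d1519180d0c140
noncomputable def catl2P (u : ℕ) : ℕ := Nat.land (Nat.shiftRight catl2Pd (Nat.mul u (nat_lit 8))) (nat_lit 255)
noncomputable def catl2Qd : ℕ := nat_lit 0x620000000000000017000000000000000000000000000000000000000000000048000000000000009300000000000000000000000000000000000000000000005b00000000000000a00000000000000000000000000000000000000000000000000000000000000000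
noncomputable def catl2Q (u : ℕ) : ℕ := Nat.land (Nat.shiftRight catl2Qd (Nat.mul u (nat_lit 4))) (nat_lit 15)
noncomputable def catl2 : Lev := ⟨12, 7, catl2D, catl2P, catl2Q⟩
noncomputable def catl3Dd : ℕ := nat_lit 0x28
noncomputable def catl3D (u : ℕ) : ℕ := Nat.land (Nat.shiftRight catl3Dd (Nat.mul u (nat_lit 3))) (nat_lit 7)
noncomputable def catl3Pd : ℕ := nat_lit 0x2a4
noncomputable def catl3P (u : ℕ) : ℕ := Nat.land (Nat.shiftRight catl3Pd (Nat.mul u (nat_lit 5))) (nat_lit 31)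
noncomputable def catl3Qd : ℕ := nat_lit 0x200000
noncomputable def catl3Q (u : ℕ) : ℕ := Nat.land (Nat.shiftRight catl3Qd (Nat.mul u (nat_lit 1))) (nat_lit 1)
noncomputable def catl3 : Lev := ⟨2, 6, catl3D, catl3P, catl3Q⟩
noncomputable def catl4Dd : ℕ := nat_lit 0x9b92440c40
noncomputable def catl4D (u : ℕ) : ℕ := Nat.land (Nat.shiftRight catl4Dd (Nat.mul u (nat_lit 5))) (nat_lit 31)
noncomputable def catl4Pd : ℕ := nat_lit 0x7ff976ff4ef5aa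
noncomputable def catl4P (u : ℕ) : ℕ := Nat.land (Nat.shiftRight catl4Pd (Nat.mul u (nat_lit 7))) (nat_lit 127)
noncomputable def catl4Qd : ℕ := nat_lit 0x1800c0000000800200000000000000000000000000000000e00400000000140000000000000000000000000000000000
noncomputable def catl4Q (u : ℕ) : ℕ := Nat.land (Nat.shiftRight catl4Qd (Nat.mul u (nat_lit 3))) (nat_lit 7)
noncomputable def catl4 : Lev := ⟨8, 5, catl4D, catl4P, catl4Q⟩
noncomputable def catl5Dd : ℕ := nat_lit 2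
noncomputable def catl5D (u : ℕ) : ℕ := Nat.land (Nat.shiftRight catl5Dd (Nat.mul u (nat_lit 1))) (nat_lit 1)
noncomputable def catl5Pd : ℕ := nat_lit 0x2182
noncomputable def catl5P (u : ℕ) : ℕ := Nat.land (Nat.shiftRight catl5Pd (Nat.mul u (nat_lit 7))) (nat_lit 127)
noncomputable def catl5Qd : ℕ := nat_lit 0x80000000000000000
noncomputable def catl5Q (u : ℕ) : ℕ := Nat.land (Nat.shiftRight catl5Qd (Nat.mul u (nat_lit 1))) (nat_lit 1)
noncomputable def catl5 : Lev := ⟨2, 2, catl5D, catl5P, catl5Q⟩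
noncomputable def catl6Dd : ℕ := nat_lit 0
noncomputable def catl6D (u : ℕ) : ℕ := Nat.land (Nat.shiftRight catl6Dd (Nat.mul u (nat_lit 1))) (nat_lit 1)
noncomputable def catl6Pd : ℕ := nat_lit 0xc8
noncomputable def catl6P (u : ℕ) : ℕ := Nat.land (Nat.shiftRight catl6Pd (Nat.mul u (nat_lit 4))) (nat_lit 15)
noncomputable def catl6Qd : ℕ := nat_lit 0x1000
noncomputable def catl6Q (u : ℕ) : ℕ := Nat.land (Nat.shiftRight catl6Qd (Nat.mul u (nat_lit 1))) (nat_lit 1)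
noncomputable def catl6 : Lev := ⟨2, 1, catl6D, catl6P, catl6Q⟩
noncomputable def cae_W : List (List ℕ) := [[nat_lit 2, nat_lit 3, nat_lit 2, nat_lit 4, nat_lit 3, nat_lit 2, nat_lit 5, nat_lit 4, nat_lit 3, nat_lit 1, nat_lit 2, nat_lit 3, nat_lit 4, nat_lit 5, nat_lit 6, nat_lit 5, nat_lit 4, nat_lit 3, nat_lit 1, nat_lit 2, nat_lit 3, nat_lit 4, nat_lit 5],
  [nat_lit 1, nat_lit 3, nat_lit 1, nat_lit 4, nat_lit 3, nat_lit 1, nat_lit 6],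
  [nat_lit 3],
  [nat_lit 1, nat_lit 3, nat_lit 5, nat_lit 4, nat_lit 3, nat_lit 1, nat_lit 6, nat_lit 5],
  [nat_lit 2, nat_lit 3, nat_lit 1, nat_lit 2, nat_lit 4, nat_lit 3, nat_lit 2, nat_lit 5, nat_lit 4, nat_lit 3, nat_lit 1, nat_lit 2, nat_lit 3, nat_lit 4, nat_lit 5, nat_lit 6],
  [nat_lit 2, nat_lit 3, nat_lit 1, nat_lit 2, nat_lit 3, nat_lit 5, nat_lit 4, nat_lit 6, nat_lit 5],
  [nat_lit 3, nat_lit 1, nat_lit 4, nat_lit 3, nat_lit 6, nat_lit 5, nat_lit 4, nat_lit 3, nat_lit 1, nat_lit 2, nat_lit 3],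
  [nat_lit 1, nat_lit 2, nat_lit 3, nat_lit 4, nat_lit 3, nat_lit 1, nat_lit 2, nat_lit 3, nat_lit 4],
  [nat_lit 3, nat_lit 1, nat_lit 5, nat_lit 4, nat_lit 3, nat_lit 1, nat_lit 6, nat_lit 5, nat_lit 4]]
noncomputable def cae_P : ℕ → ℕ → ℕ := wdsP P cae_W
noncomputable def cac6Dd : ℕ := nat_lit 0
noncomputable def cac6D (u : ℕ) : ℕ := Nat.land (Nat.shiftRight cac6Dd (Nat.mul u (nat_lit 1))) (nat_lit 1)
noncomputable def cac6Pd : ℕ := nat_lit 0xc8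
noncomputable def cac6P (u : ℕ) : ℕ := Nat.land (Nat.shiftRight cac6Pd (Nat.mul u (nat_lit 4))) (nat_lit 15)
noncomputable def cac6Qd : ℕ := nat_lit 0x1000
noncomputable def cac6Q (u : ℕ) : ℕ := Nat.land (Nat.shiftRight cac6Qd (Nat.mul u (nat_lit 1))) (nat_lit 1)
noncomputable def cac6 : Lev := ⟨2, 1, cac6D, cac6P, cac6Q⟩
noncomputable def catn0Fd : ℕ := nat_lit 0
noncomputable def catn0F (u : ℕ) : ℕ := Nat.land (Nat.shiftRight catn0Fd (Nat.mul u (nat_lit 1))) (nat_lit 1)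
noncomputable def catn0 : Nd := ⟨catn0F, (nat_lit 2), (nat_lit 1), [], [((nat_lit 0), [])], []⟩
noncomputable def cac5Dd : ℕ := nat_lit 2
noncomputable def cac5D (u : ℕ) : ℕ := Nat.land (Nat.shiftRight cac5Dd (Nat.mul u (nat_lit 1))) (nat_lit 1)
noncomputable def cac5Pd : ℕ := nat_lit 0x2182
noncomputable def cac5P (u : ℕ) : ℕ := Nat.land (Nat.shiftRight cac5Pd (Nat.mul u (nat_lit 7))) (nat_lit 127)
noncomputable def cac5Qd : ℕ := nat_lit 0x80000000000000000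
noncomputable def cac5Q (u : ℕ) : ℕ := Nat.land (Nat.shiftRight cac5Qd (Nat.mul u (nat_lit 1))) (nat_lit 1)
noncomputable def cac5 : Lev := ⟨2, 2, cac5D, cac5P, cac5Q⟩
noncomputable def catn1Fd : ℕ := nat_lit 0
noncomputable def catn1F (u : ℕ) : ℕ := Nat.land (Nat.shiftRight catn1Fd (Nat.mul u (nat_lit 1))) (nat_lit 1)
noncomputable def catn1 : Nd := ⟨catn1F, (nat_lit 2), (nat_lit 2), [], [((nat_lit 0), [])], []⟩
noncomputable def cac4Dd : ℕ := nat_lit 0xed0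
noncomputable def cac4D (u : ℕ) : ℕ := Nat.land (Nat.shiftRight cac4Dd (Nat.mul u (nat_lit 3))) (nat_lit 7)
noncomputable def cac4Pd : ℕ := nat_lit 0x77eb5aa
noncomputable def cac4P (u : ℕ) : ℕ := Nat.land (Nat.shiftRight cac4Pd (Nat.mul u (nat_lit 7))) (nat_lit 127)
noncomputable def cac4Qd : ℕ := nat_lit 0x20000000400000000000000000000000c00000000000000000000000000000
noncomputable def cac4Q (u : ℕ) : ℕ := Nat.land (Nat.shiftRight cac4Qd (Nat.mul u (nat_lit 2))) (nat_lit 3)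
noncomputable def cac4 : Lev := ⟨4, 4, cac4D, cac4P, cac4Q⟩
noncomputable def catn2Fd : ℕ := nat_lit 0x7b610000
noncomputable def catn2F (u : ℕ) : ℕ := Nat.land (Nat.shiftRight catn2Fd (Nat.mul u (nat_lit 4))) (nat_lit 15)
noncomputable def catn2 : Nd := ⟨catn2F, (nat_lit 4), (nat_lit 4), [[nat_lit 0]], [((nat_lit 0), [])], []⟩
noncomputable def cac3Dd : ℕ := nat_lit 0x20
noncomputable def cac3D (u : ℕ) : ℕ := Nat.land (Nat.shiftRight cac3Dd (Nat.mul u (nat_lit 3))) (nat_lit 7)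
noncomputable def cac3Pd : ℕ := nat_lit 0x2a4
noncomputable def cac3P (u : ℕ) : ℕ := Nat.land (Nat.shiftRight cac3Pd (Nat.mul u (nat_lit 5))) (nat_lit 31)
noncomputable def cac3Qd : ℕ := nat_lit 0x200000
noncomputable def cac3Q (u : ℕ) : ℕ := Nat.land (Nat.shiftRight cac3Qd (Nat.mul u (nat_lit 1))) (nat_lit 1)
noncomputable def cac3 : Lev := ⟨2, 5, cac3D, cac3P, cac3Q⟩
noncomputable def catn3Fd : ℕ := nat_lit 0
noncomputable def catn3F (u : ℕ) : ℕ := Nat.land (Nat.shiftRight catn3Fd (Nat.mul u (nat_lit 1))) (nat_lit 1)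
noncomputable def catn3 : Nd := ⟨catn3F, (nat_lit 5), (nat_lit 5), [], [((nat_lit 0), [])], []⟩
noncomputable def cac2Dd : ℕ := nat_lit 0x22d3a0a0
noncomputable def cac2D (u : ℕ) : ℕ := Nat.land (Nat.shiftRight cac2Dd (Nat.mul u (nat_lit 5))) (nat_lit 31)
noncomputable def cac2Pd : ℕ := nat_lit 0x51c1d0809140
noncomputable def cac2P (u : ℕ) : ℕ := Nat.land (Nat.shiftRight cac2Pd (Nat.mul u (nat_lit 8))) (nat_lit 255)
noncomputable def cac2Qd : ℕ := nat_lit 0x3000000000020000000000000000000000000000000000008000000000002000000000000000000000000000000000028000000000000000000000000000000000000000000000000000000000000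
noncomputable def cac2Q (u : ℕ) : ℕ := Nat.land (Nat.shiftRight cac2Qd (Nat.mul u (nat_lit 3))) (nat_lit 7)
noncomputable def cac2 : Lev := ⟨6, 6, cac2D, cac2P, cac2Q⟩
noncomputable def catn4Fd : ℕ := nat_lit 0xbc5a74040000000
noncomputable def catn4F (u : ℕ) : ℕ := Nat.land (Nat.shiftRight catn4Fd (Nat.mul u (nat_lit 5))) (nat_lit 31)
noncomputable def catn4 : Nd := ⟨catn4F, (nat_lit 6), (nat_lit 6), [[nat_lit 0]], [((nat_lit 0), [])], []⟩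
noncomputable def cac1Dd : ℕ := nat_lit 0xeb729518e0
noncomputable def cac1D (u : ℕ) : ℕ := Nat.land (Nat.shiftRight cac1Dd (Nat.mul u (nat_lit 5))) (nat_lit 31)
noncomputable def cac1Pd : ℕ := nat_lit 0x5140c1d080109101
noncomputable def cac1P (u : ℕ) : ℕ := Nat.land (Nat.shiftRight cac1Pd (Nat.mul u (nat_lit 8))) (nat_lit 255)
noncomputable def cac1Qd : ℕ := nat_lit 0x4000000000028000000000000000000000000000000000008000000000003000000000000000000000000000000000038000000000006000000000000000000000000000000000002000000000000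
noncomputable def cac1Q (u : ℕ) : ℕ := Nat.land (Nat.shiftRight cac1Qd (Nat.mul u (nat_lit 3))) (nat_lit 7)
noncomputable def cac1 : Lev := ⟨8, 8, cac1D, cac1P, cac1Q⟩
noncomputable def catn5Fd : ℕ := nat_lit 0x1cd8a5410000000000
noncomputable def catn5F (u : ℕ) : ℕ := Nat.land (Nat.shiftRight catn5Fd (Nat.mul u (nat_lit 5))) (nat_lit 31)
noncomputable def catn5 : Nd := ⟨catn5F, (nat_lit 8), (nat_lit 8), [[nat_lit 0]], [((nat_lit 0), [])], []⟩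
noncomputable def cac0Dd : ℕ := nat_lit 0x11624980dd2c13498a8e182c400
noncomputable def cac0D (u : ℕ) : ℕ := Nat.land (Nat.shiftRight cac0Dd (Nat.mul u (nat_lit 7))) (nat_lit 127)
noncomputable def cac0Pd : ℕ := nat_lit 0x5041c0d1eebe8190af3fff7e6f2e11
noncomputable def cac0P (u : ℕ) : ℕ := Nat.land (Nat.shiftRight cac0Pd (Nat.mul u (nat_lit 8))) (nat_lit 255)
noncomputable def cac0Qd : ℕ := nat_lit 0x40000000000000000a0000000000000000000000000000b0000000000000000c090000000000000060000000000000000000000000000007000000000000008003000000000000002000000000000000000000000000000e00000000000000d05000000000000000010000000000000000000000000000000000000000000000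
noncomputable def cac0Q (u : ℕ) : ℕ := Nat.land (Nat.shiftRight cac0Qd (Nat.mul u (nat_lit 4))) (nat_lit 15)
noncomputable def cac0 : Lev := ⟨15, 9, cac0D, cac0P, cac0Q⟩
noncomputable def catn6Fd : ℕ := nat_lit 0x32c9cada7599deb209a78a2af55ddae28e9998beca5a799d66bb27a3ca9ba56efbdda59866ce3b2f76ac25ddcd78e25af78a9ab5be38f89a7a6682ed35befbaf9a0820895b3552686cb233a1426aa67afe115140000008c0ca5000d40fa6dee000000000040
noncomputable def catn6F (u : ℕ) : ℕ := Nat.land (Nat.shiftRight catn6Fd (Nat.mul u (nat_lit 6))) (nat_lit 63)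
noncomputable def catn6 : Nd := ⟨catn6F, (nat_lit 9), (nat_lit 9), [[nat_lit 0]], [((nat_lit 0), [])], []⟩
noncomputable def syat_W : List (List ℕ) := [[nat_lit 0, nat_lit 1, nat_lit 2, nat_lit 0, nat_lit 1, nat_lit 2, nat_lit 4, nat_lit 3, nat_lit 2, nat_lit 0, nat_lit 1, nat_lit 2, nat_lit 3, nat_lit 4],
  [nat_lit 4, nat_lit 3, nat_lit 2, nat_lit 0, nat_lit 1, nat_lit 2, nat_lit 3, nat_lit 4],
  [nat_lit 0, nat_lit 2, nat_lit 1, nat_lit 3, nat_lit 4, nat_lit 3, nat_lit 2, nat_lit 0],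
  [nat_lit 2, nat_lit 0, nat_lit 1, nat_lit 2, nat_lit 3, nat_lit 2, nat_lit 0, nat_lit 1, nat_lit 2, nat_lit 3, nat_lit 4, nat_lit 3, nat_lit 2, nat_lit 0, nat_lit 1, nat_lit 2, nat_lit 3, nat_lit 4, nat_lit 5, nat_lit 4, nat_lit 3, nat_lit 2, nat_lit 0, nat_lit 1, nat_lit 2, nat_lit 3, nat_lit 4, nat_lit 5],
  [nat_lit 3, nat_lit 2, nat_lit 0, nat_lit 1, nat_lit 2, nat_lit 3, nat_lit 5, nat_lit 4, nat_lit 3, nat_lit 2, nat_lit 0, nat_lit 1, nat_lit 2, nat_lit 3, nat_lit 4, nat_lit 5],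
  [nat_lit 0, nat_lit 1, nat_lit 2, nat_lit 0, nat_lit 3, nat_lit 4, nat_lit 3],
  [nat_lit 0, nat_lit 2, nat_lit 0, nat_lit 1, nat_lit 2, nat_lit 3, nat_lit 2, nat_lit 0, nat_lit 1, nat_lit 2, nat_lit 3, nat_lit 4, nat_lit 3, nat_lit 5, nat_lit 4],
  [nat_lit 0, nat_lit 1, nat_lit 2, nat_lit 1, nat_lit 3, nat_lit 2, nat_lit 0, nat_lit 1, nat_lit 2, nat_lit 3, nat_lit 4, nat_lit 3, nat_lit 5, nat_lit 4, nat_lit 3, nat_lit 2, nat_lit 0, nat_lit 1, nat_lit 2, nat_lit 3],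
  [nat_lit 3, nat_lit 2, nat_lit 0, nat_lit 1, nat_lit 2, nat_lit 3, nat_lit 4, nat_lit 5, nat_lit 4]]
noncomputable def syat_P : ℕ → ℕ → ℕ := wdsP (rl [nat_lit 1, nat_lit 2, nat_lit 3, nat_lit 4, nat_lit 5, nat_lit 6] P) syat_W
noncomputable def syaPd : List ℕ := [nat_lit 0xcb933e6c3831e2b976f5fb362ddaa956b57a3429d2952e4499d3e64d2e488942658a90183450b1e384884e890a446992a03e78d1b3874c986ec98b466d9ab05eb952b58b54a88f0a0c4871a2c076e9f3f78f5cb80e182840608080,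
  nat_lit 0xc7630dacf4b2d0973e54ea3929e699226c9b38ade0bd72ad7bf76a563029faf322df2e8b0491660d13a3126d53a10695bb890132262d499772b4e0e70b0e8f28410a56cca1c750f069f52f461e4090a918519bb30c1c205040c001,
  nat_lit 0xa74a8d0b362ddabd7ee5dc3831e2ad5ea55cf9b2e4972a4c89f3a6cc81163438906147142c60d102470f68c593760d5b333260e9c3668f9e4885127409532352a16ac56a97ae2054b13284491770e5e3d7cfdd3b0e18205040c080,
  nat_lit 0xaf72a5f993e4cac94a866912e6cecf469e5ab7ab5dc562ce3b5830db504a29f3308aae7e3453c40d1ba372890ba10c988f290169b56749c7129928e70d9abb884151c586a197305a0af531889e6091f0c16f53b300041030814307,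
  nat_lit 0xc76b0d8cf432d29d2a7cba39a9e499226c9b382de2bb7ead7b97aa56126d5bb106953a62d51268900b933029f2e322dfaf60d0b128b051a750f061e52f469f4090a918d099b772b4e8f70b0e0e28410a564da3c30c1c205040c001,
  nat_lit 0xc947353b18ed619b26648c16f159973e54ea196967af56f5cad52fdd38e472d3ae07ac68c13a32c4a2c17e6178a7c6570b64da1c720510a518a4f3d1aa0fbc4c8a2402e4dab15621d9a5425d1b851902466dc8950e181820814001,
  nat_lit 0xa12294dc533049b3973dbcd5b255bb2e75eb152d57c74efcfa38655c1c288935eb5ab77e7632670620205cb0a971e2d8b332e612238fa2243cf12c7766e0a352246ab6c58a3474690c33ef62a710a150c644883006083070004284,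
  nat_lit 0x95327c9bd5aed5cb4e8e7bf5ee54a19b2529736748b786c62c76705a2cbd4918c78c41865e21038a8d2c643dca144e84317e35a2046dc53c4c39c356cec4a518f93b36091e8b84b9445247cc955676393805169b02002050608307,
  nat_lit 0xb77acdda37e9dca16ac52c72b0cf915ea4dcb2f3cec98a4d6c19aacc610459880c4d8884d869c6f0cf8e88d45196914d098ecc61d6518f0f28456a94885eb92e8c92654fd73b40956282055e384e4d11656f97ba08143860200103]
noncomputable def syaP (k u : ℕ) : ℕ := Nat.land (Nat.shiftRight (nth (nat_lit 0) syaPd k) (Nat.mul u (nat_lit 7))) (nat_lit 127)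
noncomputable def syaEd : ℕ := nat_lit 0xfaf6ebe7bbb6aaa7999889887a776b66555445443b372a261918151409080504fcf9f5f0ece9e5e0dbdad7d6cfcec3c2bdb8b5b0ada8a5a09f9e97968b8a83827d7974706d6964605f5e5b5a474643423c3834302c2824200f0e0b0a07060302d0c1918051401001
noncomputable def syaE (u : ℕ) : ℕ := Nat.land (Nat.shiftRight syaEd (Nat.mul u (nat_lit 8))) (nat_lit 255)
noncomputable def syaId : ℕ := nat_lit 0x47019e300019a28000000440000043ca02100c802080000004000000007ef80007af0000000000776e80000000000000000072e03000001b80c6000360189a80000003400019800184032c00188000000305eb80000002fde5ab00000000280000000056aaedc000000052a00040001380016d300b40002500000240001180b201100016002100000203e780003a700000002bd6000018000000000000000366aad432600020000017a600016a40001500000140000013014401201400110000010000000000027ce00026cc00000011e380001a325ca162a4c81220000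
noncomputable def syaI (u : ℕ) : ℕ := Nat.land (Nat.shiftRight syaId (Nat.mul u (nat_lit 7))) (nat_lit 127)
noncomputable def syaB : List ℕ := [nat_lit 0, nat_lit 8, nat_lit 72, nat_lit 74, nat_lit 1, nat_lit 16, nat_lit 2, nat_lit 4]
noncomputable def syaC : List (List (List ℕ)) := [[[],
  [],
  [],
  [],
  [],
  [],
  [],
  [],
  []], [[],
  [],
  [],
  [],
  [],
  [nat_lit 0],
  [nat_lit 0],
  [nat_lit 0],
  []], [[],
  [],
  [],
  [nat_lit 0],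
  [],
  [],
  [nat_lit 0, nat_lit 1],
  [nat_lit 0],
  [nat_lit 1]], [[],
  [],
  [],
  [],
  [],
  [nat_lit 1],
  [],
  [nat_lit 1],
  []], [[],
  [],
  [],
  [],
  [],
  [],
  [],
  [],
  []], [[],
  [],
  [],
  [],
  [],
  [nat_lit 2],
  [nat_lit 2, nat_lit 3, nat_lit 4],
  [nat_lit 1],
  [nat_lit 0, nat_lit 3, nat_lit 4]], [[],
  [],
  [],
  [],
  [],
  [],
  [nat_lit 3],
  [nat_lit 2, nat_lit 3],
  [nat_lit 0, nat_lit 3, nat_lit 4]], [[],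
  [],
  [],
  [],
  [],
  [],
  [],
  [nat_lit 1, nat_lit 2],
  [nat_lit 0, nat_lit 3]], [[],
  [],
  [],
  [],
  [],
  [],
  [],
  [],
  [nat_lit 4]]]
noncomputable def syae : List (List ℕ) := [[],
  [nat_lit 0, nat_lit 1, nat_lit 4],
  [nat_lit 0],
  [nat_lit 0, nat_lit 1, nat_lit 4],
  [nat_lit 1, nat_lit 4],
  [nat_lit 0],
  [nat_lit 0],
  [],
  [nat_lit 0],
  [nat_lit 0],
  [],
  [nat_lit 0],
  [],
  [],
  [],
  [],
  [],
  [nat_lit 0],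
  [nat_lit 0],
  [nat_lit 1, nat_lit 4],
  [],
  [],
  [],
  [nat_lit 0],
  [nat_lit 0],
  [],
  [nat_lit 1, nat_lit 3, nat_lit 5, nat_lit 7],
  [nat_lit 0, nat_lit 1, nat_lit 4],
  [nat_lit 3, nat_lit 4, nat_lit 6, nat_lit 7, nat_lit 8],
  [nat_lit 2, nat_lit 3, nat_lit 4, nat_lit 6, nat_lit 8],
  [nat_lit 0, nat_lit 1, nat_lit 8]]
noncomputable def syal0Dd : ℕ := nat_lit 0xb7797b5c3c3d1e00
noncomputable def syal0D (u : ℕ) : ℕ := Nat.land (Nat.shiftRight syal0Dd (Nat.mul u (nat_lit 8))) (nat_lit 255)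
noncomputable def syal0Pd : ℕ := nat_lit 0xf72858
noncomputable def syal0P (u : ℕ) : ℕ := Nat.land (Nat.shiftRight syal0Pd (Nat.mul u (nat_lit 3))) (nat_lit 7)
noncomputable def syal0Qd : ℕ := nat_lit 0xf73310
noncomputable def syal0Q (u : ℕ) : ℕ := Nat.land (Nat.shiftRight syal0Qd (Nat.mul u (nat_lit 3))) (nat_lit 7)
noncomputable def syal0 : Lev := ⟨8, 31, syal0D, syal0P, syal0Q⟩
noncomputable def syal1Dd : ℕ := nat_lit 0xb2e8e80
noncomputable def syal1D (u : ℕ) : ℕ := Nat.land (Nat.shiftRight syal1Dd (Nat.mul u (nat_lit 7))) (nat_lit 127)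
noncomputable def syal1Pd : ℕ := nat_lit 0x72a
noncomputable def syal1P (u : ℕ) : ℕ := Nat.land (Nat.shiftRight syal1Pd (Nat.mul u (nat_lit 3))) (nat_lit 7)
noncomputable def syal1Qd : ℕ := nat_lit 0x6c0
noncomputable def syal1Q (u : ℕ) : ℕ := Nat.land (Nat.shiftRight syal1Qd (Nat.mul u (nat_lit 2))) (nat_lit 3)
noncomputable def syal1 : Lev := ⟨4, 30, syal1D, syal1P, syal1Q⟩
noncomputable def syal2Dd : ℕ := nat_lit 0x380
noncomputable def syal2D (u : ℕ) : ℕ := Nat.land (Nat.shiftRight syal2Dd (Nat.mul u (nat_lit 5))) (nat_lit 31)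
noncomputable def syal2Pd : ℕ := nat_lit 0x2c
noncomputable def syal2P (u : ℕ) : ℕ := Nat.land (Nat.shiftRight syal2Pd (Nat.mul u (nat_lit 3))) (nat_lit 7)
noncomputable def syal2Qd : ℕ := nat_lit 0x20
noncomputable def syal2Q (u : ℕ) : ℕ := Nat.land (Nat.shiftRight syal2Qd (Nat.mul u (nat_lit 1))) (nat_lit 1)
noncomputable def syal2 : Lev := ⟨2, 29, syal2D, syal2P, syal2Q⟩
noncomputable def syal3Dd : ℕ := nat_lit 0xd741a9a0210100
noncomputable def syal3D (u : ℕ) : ℕ := Nat.land (Nat.shiftRight syal3Dd (Nat.mul u (nat_lit 7))) (nat_lit 127)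
noncomputable def syal3Pd : ℕ := nat_lit 0x279628a59e08
noncomputable def syal3P (u : ℕ) : ℕ := Nat.land (Nat.shiftRight syal3Pd (Nat.mul u (nat_lit 6))) (nat_lit 63)
noncomputable def syal3Qd : ℕ := nat_lit 0x3100000000001c000000000015000000000038000000
noncomputable def syal3Q (u : ℕ) : ℕ := Nat.land (Nat.shiftRight syal3Qd (Nat.mul u (nat_lit 3))) (nat_lit 7)
noncomputable def syal3 : Lev := ⟨8, 27, syal3D, syal3P, syal3Q⟩
noncomputable def cvar_W : List (List ℕ) := [[nat_lit 0, nat_lit 1, nat_lit 2, nat_lit 0, nat_lit 1, nat_lit 2, nat_lit 4, nat_lit 3, nat_lit 2, nat_lit 0, nat_lit 1, nat_lit 2, nat_lit 3, nat_lit 4],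
  [nat_lit 4, nat_lit 3, nat_lit 2, nat_lit 0, nat_lit 1, nat_lit 2, nat_lit 3, nat_lit 4],
  [nat_lit 0, nat_lit 2, nat_lit 1, nat_lit 3, nat_lit 4, nat_lit 3, nat_lit 2, nat_lit 0],
  [nat_lit 1, nat_lit 2, nat_lit 1, nat_lit 3, nat_lit 2, nat_lit 0, nat_lit 1, nat_lit 2, nat_lit 4, nat_lit 3, nat_lit 2, nat_lit 1, nat_lit 5, nat_lit 4, nat_lit 3, nat_lit 2, nat_lit 0, nat_lit 1, nat_lit 2, nat_lit 3, nat_lit 4, nat_lit 5],
  [nat_lit 0, nat_lit 1, nat_lit 2, nat_lit 0, nat_lit 1, nat_lit 2, nat_lit 3, nat_lit 2, nat_lit 0, nat_lit 1, nat_lit 2, nat_lit 3, nat_lit 4, nat_lit 3, nat_lit 2, nat_lit 0, nat_lit 1, nat_lit 2, nat_lit 3, nat_lit 4, nat_lit 5, nat_lit 4, nat_lit 3, nat_lit 2, nat_lit 0, nat_lit 1, nat_lit 2, nat_lit 3, nat_lit 4, nat_lit 5],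
  [nat_lit 0, nat_lit 2, nat_lit 1, nat_lit 3, nat_lit 2, nat_lit 0, nat_lit 1, nat_lit 2, nat_lit 4, nat_lit 3, nat_lit 2, nat_lit 1, nat_lit 5, nat_lit 4, nat_lit 3, nat_lit 2, nat_lit 0, nat_lit 1, nat_lit 2, nat_lit 3, nat_lit 4, nat_lit 5],
  [nat_lit 1, nat_lit 2, nat_lit 1, nat_lit 3, nat_lit 4, nat_lit 3, nat_lit 2, nat_lit 0],
  [nat_lit 0, nat_lit 1, nat_lit 2, nat_lit 0, nat_lit 3, nat_lit 4, nat_lit 3],
  [nat_lit 0, nat_lit 1, nat_lit 2, nat_lit 0, nat_lit 3, nat_lit 2, nat_lit 0, nat_lit 1, nat_lit 2, nat_lit 4, nat_lit 3, nat_lit 2, nat_lit 0, nat_lit 1, nat_lit 2, nat_lit 5, nat_lit 4, nat_lit 3, nat_lit 2, nat_lit 0, nat_lit 1, nat_lit 2, nat_lit 3, nat_lit 4, nat_lit 5],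
  [nat_lit 0, nat_lit 2, nat_lit 0, nat_lit 1, nat_lit 2, nat_lit 3, nat_lit 2, nat_lit 0, nat_lit 1, nat_lit 2, nat_lit 3, nat_lit 4, nat_lit 3, nat_lit 5, nat_lit 4],
  [nat_lit 1, nat_lit 2, nat_lit 3, nat_lit 2, nat_lit 0, nat_lit 1, nat_lit 2, nat_lit 3, nat_lit 4, nat_lit 3, nat_lit 2, nat_lit 1, nat_lit 5, nat_lit 4],
  [nat_lit 0, nat_lit 1, nat_lit 2, nat_lit 1, nat_lit 3, nat_lit 2, nat_lit 0, nat_lit 1, nat_lit 2, nat_lit 3, nat_lit 4, nat_lit 3, nat_lit 5, nat_lit 4, nat_lit 3, nat_lit 2, nat_lit 0, nat_lit 1, nat_lit 2, nat_lit 3],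
  [nat_lit 0, nat_lit 1, nat_lit 2, nat_lit 1, nat_lit 4, nat_lit 3, nat_lit 5, nat_lit 4],
  [nat_lit 0, nat_lit 1, nat_lit 3, nat_lit 2, nat_lit 0, nat_lit 1, nat_lit 2, nat_lit 3, nat_lit 4, nat_lit 5, nat_lit 4, nat_lit 3, nat_lit 2, nat_lit 0, nat_lit 1, nat_lit 2, nat_lit 3],
  [nat_lit 0, nat_lit 2, nat_lit 1, nat_lit 4, nat_lit 3, nat_lit 2, nat_lit 0, nat_lit 5, nat_lit 4],
  [nat_lit 1, nat_lit 2, nat_lit 0, nat_lit 4, nat_lit 3, nat_lit 2, nat_lit 1, nat_lit 5, nat_lit 4],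
  [nat_lit 4, nat_lit 5, nat_lit 4],
  [nat_lit 0, nat_lit 1, nat_lit 2, nat_lit 0, nat_lit 1, nat_lit 2, nat_lit 4, nat_lit 3, nat_lit 2, nat_lit 0, nat_lit 1, nat_lit 2, nat_lit 3, nat_lit 5, nat_lit 4],
  [nat_lit 2, nat_lit 0, nat_lit 1, nat_lit 4, nat_lit 3, nat_lit 2, nat_lit 0, nat_lit 1, nat_lit 2, nat_lit 3, nat_lit 4, nat_lit 5, nat_lit 4, nat_lit 3, nat_lit 2, nat_lit 0, nat_lit 1, nat_lit 2, nat_lit 3, nat_lit 4, nat_lit 5],
  [nat_lit 0, nat_lit 1, nat_lit 2, nat_lit 5, nat_lit 4, nat_lit 3, nat_lit 2, nat_lit 0, nat_lit 1, nat_lit 2, nat_lit 3, nat_lit 4, nat_lit 5]]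
noncomputable def cvar_P : ℕ → ℕ → ℕ := wdsP (rl [nat_lit 1, nat_lit 2, nat_lit 3, nat_lit 4, nat_lit 5, nat_lit 6] P) cvar_W
noncomputable def cvaT0 : CT := (.split (.more (.split (.more (.split (.more (.split (.more (.split (.more (.split (.more (.split (.more (.split (.more (.split (.more .one (.more (.leaf (nat_lit 0) []) .one))) (.more (.fuse [nat_lit 5] [] (.leaf (nat_lit 1) [])) .one))) (.more (.fuse [nat_lit 6] [nat_lit 0] (.fuse [nat_lit 3] [] (.leaf (nat_lit 2) []))) .one))) (.more (.split (.more (.fuse [nat_lit 5] [] (.fuse [nat_lit 2] [] (.leaf (nat_lit 0) [nat_lit 0, nat_lit 2, nat_lit 0, nat_lit 3, nat_lit 2, nat_lit 4, nat_lit 5, nat_lit 4, nat_lit 3, nat_lit 2, nat_lit 0]))) (.more (.fuse [nat_lit 5] [] (.fuse [nat_lit 2] [] (.leaf (nat_lit 3) []))) .one))) .one))) (.more (.split (.more (.split (.more (.split (.more (.split (.more (.leaf (nat_lit 1) [nat_lit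 0, nat_lit 2, nat_lit 0, nat_lit 3, nat_lit 2, nat_lit 0, nat_lit 5]) (.more (.leaf (nat_lit 4) []) .one))) (.more (.fuse [nat_lit 5] [] (.leaf (nat_lit 0) [nat_lit 2, nat_lit 3, nat_lit 2, nat_lit 0, nat_lit 1, nat_lit 4, nat_lit 3, nat_lit 2, nat_lit 0, nat_lit 1, nat_lit 5])) .one))) (.more (.fuse [nat_lit 6] [nat_lit 0] (.fuse [nat_lit 3] [] (.leaf (nat_lit 5) []))) .one))) (.more (.split (.more (.fuse [nat_lit 5] [] (.fuse [nat_lit 2] [] (.leaf (nat_lit 1) [nat_lit 2, nat_lit 0]))) (.more (.fuse [nat_lit 5] [] (.fuse [nat_lit 2] [] (.leaf (nat_lit 6) []))) .one))) .one))) .one))) (.more (.fuse [nat_lit 6] [nat_lit 0, nat_lit 1, nat_lit 2, nat_lit 3] (.split (.more (.fuse [nat_lit 6, nat_lit 8] [nat_lit 0, nat_lit 1] (.fuse [nat_lit 3] [nat_lit 0] (.fuse [nat_lit 1] [] (.leaf (nat_lit 7) [])))) (.more (.fuse [nat_lit 6, nat_lit 8] [nat_lit 1] (.fuse [nat_lit 3] [nat_lit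 0] (.fuse [nat_lit 1] [] (.leaf (nat_lit 8) [])))) .one)))) .one))) (.more (.split (.more (.fuse [nat_lit 5] [nat_lit 0, nat_lit 1, nat_lit 2, nat_lit 3] (.fuse [nat_lit 7] [nat_lit 1, nat_lit 2] (.fuse [nat_lit 5, nat_lit 8] [] (.fuse [nat_lit 2] [] (.fuse [nat_lit 1] [] (.leaf (nat_lit 9) [])))))) (.more (.fuse [nat_lit 5] [nat_lit 0, nat_lit 2, nat_lit 3] (.fuse [nat_lit 7] [nat_lit 0, nat_lit 1, nat_lit 2] (.split (.more (.fuse [nat_lit 2] [nat_lit 0] (.split (.more (.leaf (nat_lit 3) [nat_lit 0, nat_lit 2, nat_lit 0, nat_lit 3, nat_lit 2, nat_lit 0, nat_lit 5]) (.more (.leaf (nat_lit 6) [nat_lit 0, nat_lit 2, nat_lit 3, nat_lit 2, nat_lit 0, nat_lit 5]) .one)))) (.more (.fuse [nat_lit 2] [nat_lit 0] (.fuse [nat_lit 2, nat_lit 3] [] (.leaf (nat_lit 10) []))) .one))))) .one))) .one))) (.more (.split (.more (.split (.more (.split (.more (.fuse [nat_lit 6] [nat_lit 0, nat_lit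 1, nat_lit 2] (.fuse [nat_lit 6, nat_lit 8] [nat_lit 0, nat_lit 1] (.fuse [nat_lit 3] [nat_lit 0] (.fuse [nat_lit 1] [] (.leaf (nat_lit 11) []))))) (.more (.fuse [nat_lit 6] [nat_lit 0, nat_lit 1, nat_lit 2] (.fuse [nat_lit 6, nat_lit 8] [nat_lit 0, nat_lit 1] (.fuse [nat_lit 3] [nat_lit 0] (.fuse [nat_lit 1] [] (.leaf (nat_lit 12) []))))) .one))) (.more (.fuse [nat_lit 6] [nat_lit 0, nat_lit 1] (.split (.more (.split (.more (.fuse [nat_lit 5] [] (.fuse [nat_lit 2] [] (.leaf (nat_lit 9) [nat_lit 0, nat_lit 2, nat_lit 1, nat_lit 3, nat_lit 2, nat_lit 1, nat_lit 4, nat_lit 3, nat_lit 5, nat_lit 4, nat_lit 3, nat_lit 2]))) (.more (.fuse [nat_lit 5] [] (.fuse [nat_lit 2] [] (.leaf (nat_lit 13) []))) .one))) (.more (.split (.more (.split (.more (.fuse [nat_lit 3] [] (.leaf (nat_lit 14) [])) (.more (.fuse [nat_lit 3] [] (.leaf (nat_lit 15) [])) .one))) (.more (.split (.more (.split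 (.more (.leaf (nat_lit 16) []) (.more (.leaf (nat_lit 17) []) .one))) (.more (.fuse [nat_lit 5] [] (.leaf (nat_lit 13) [nat_lit 2, nat_lit 3, nat_lit 2, nat_lit 0, nat_lit 1, nat_lit 2, nat_lit 4, nat_lit 3, nat_lit 2, nat_lit 1])) .one))) .one))) .one)))) .one))) (.more (.split (.more (.fuse [nat_lit 5] [nat_lit 0, nat_lit 2, nat_lit 3] (.fuse [nat_lit 6] [nat_lit 2] (.split (.more (.fuse [nat_lit 2] [nat_lit 0] (.fuse [nat_lit 2, nat_lit 3] [] (.leaf (nat_lit 13) [nat_lit 0, nat_lit 2, nat_lit 0, nat_lit 5, nat_lit 4, nat_lit 3, nat_lit 2, nat_lit 1]))) (.more (.fuse [nat_lit 2] [nat_lit 0] (.split (.more (.leaf (nat_lit 18) []) (.more (.leaf (nat_lit 19) []) .one)))) .one))))) (.more (.fuse [nat_lit 5] [nat_lit 1, nat_lit 2, nat_lit 3] (.fuse [nat_lit 5, nat_lit 6] [nat_lit 0, nat_lit 2] (.fuse [nat_lit 5, nat_lit 6, nat_lit 8] [nat_lit 1] (.fuse [nat_lit 2] [] (.fuse [nat_lit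 1] [] (.leaf (nat_lit 10) [nat_lit 2, nat_lit 3, nat_lit 2, nat_lit 0, nat_lit 4, nat_lit 3, nat_lit 2, nat_lit 0, nat_lit 5, nat_lit 4, nat_lit 3, nat_lit 2])))))) .one))) .one))) .one))) (.more (.split (.more (.split (.more (.split (.more (.fuse [nat_lit 5] [nat_lit 0, nat_lit 3] (.fuse [nat_lit 7] [nat_lit 0] (.split (.more (.fuse [nat_lit 2] [] (.split (.more (.leaf (nat_lit 19) [nat_lit 0, nat_lit 2, nat_lit 0, nat_lit 1, nat_lit 3, nat_lit 2, nat_lit 4, nat_lit 3, nat_lit 5, nat_lit 4, nat_lit 3]) (.more (.leaf (nat_lit 18) [nat_lit 1, nat_lit 3, nat_lit 2, nat_lit 0, nat_lit 1, nat_lit 5, nat_lit 4, nat_lit 3]) .one)))) (.more (.fuse [nat_lit 2] [] (.fuse [nat_lit 3] [] (.leaf (nat_lit 9) [nat_lit 0, nat_lit 2, nat_lit 0, nat_lit 4, nat_lit 3, nat_lit 5, nat_lit 4, nat_lit 3, nat_lit 2, nat_lit 0, nat_lit 1, nat_lit 2, nat_lit 3]))) .one))))) (.more (.fuse [nat_lit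 5] [nat_lit 1, nat_lit 3] (.fuse [nat_lit 7] [nat_lit 0] (.fuse [nat_lit 6] [nat_lit 0] (.fuse [nat_lit 2] [nat_lit 0] (.fuse [nat_lit 1] [] (.prune (nat_lit 0) (nat_lit 1) [])))))) .one))) (.more (.split (.more (.fuse [nat_lit 6] [nat_lit 0, nat_lit 3] (.split (.more (.fuse [nat_lit 5] [nat_lit 1] (.split (.more (.fuse [nat_lit 1] [] (.leaf (nat_lit 3) [nat_lit 2, nat_lit 0])) (.more (.fuse [nat_lit 1] [] (.leaf (nat_lit 5) [nat_lit 1, nat_lit 2, nat_lit 4, nat_lit 3, nat_lit 2, nat_lit 5, nat_lit 4, nat_lit 3, nat_lit 2, nat_lit 0, nat_lit 1, nat_lit 2, nat_lit 3])) .one)))) (.more (.fuse [nat_lit 5] [nat_lit 0] (.split (.more (.fuse [nat_lit 1] [] (.leaf (nat_lit 6) [nat_lit 1, nat_lit 2, nat_lit 0, nat_lit 1, nat_lit 3, nat_lit 4, nat_lit 3, nat_lit 2, nat_lit 0, nat_lit 1, nat_lit 2])) (.more (.fuse [nat_lit 1] [] (.leaf (nat_lit 2) [nat_lit 2, nat_lit 0])) .one)))) .one))))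 (.more (.split (.more (.split (.more (.fuse [nat_lit 5] [nat_lit 0, nat_lit 1] (.fuse [nat_lit 3] [nat_lit 0] (.fuse [nat_lit 2] [] (.leaf (nat_lit 18) [nat_lit 1, nat_lit 2, nat_lit 5, nat_lit 4, nat_lit 3, nat_lit 2, nat_lit 0])))) (.more (.fuse [nat_lit 5] [] (.fuse [nat_lit 3] [nat_lit 0] (.split (.more (.leaf (nat_lit 16) [nat_lit 2, nat_lit 0, nat_lit 1, nat_lit 3, nat_lit 4, nat_lit 3, nat_lit 2, nat_lit 5, nat_lit 4, nat_lit 3]) (.more (.leaf (nat_lit 13) [nat_lit 0, nat_lit 1, nat_lit 3, nat_lit 2, nat_lit 4, nat_lit 3, nat_lit 2, nat_lit 0, nat_lit 1, nat_lit 5]) .one))))) .one))) (.more (.split (.more (.fuse [nat_lit 5] [nat_lit 0, nat_lit 1] (.fuse [nat_lit 3] [nat_lit 0] (.fuse [nat_lit 2] [] (.leaf (nat_lit 19) [nat_lit 1, nat_lit 2, nat_lit 0, nat_lit 3, nat_lit 2, nat_lit 0, nat_lit 5])))) (.more (.fuse [nat_lit 5] [] (.fuse [nat_lit 3] [nat_lit 0] (.split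 (.more (.leaf (nat_lit 13) [nat_lit 0, nat_lit 3, nat_lit 2, nat_lit 0, nat_lit 4, nat_lit 3, nat_lit 2, nat_lit 0, nat_lit 1, nat_lit 5, nat_lit 4, nat_lit 3, nat_lit 2]) (.more (.leaf (nat_lit 17) [nat_lit 2, nat_lit 3, nat_lit 2, nat_lit 0, nat_lit 1, nat_lit 4, nat_lit 3, nat_lit 5]) .one))))) .one))) .one))) .one))) .one))) (.more (.split (.more (.split (.more (.fuse [nat_lit 5] [nat_lit 0, nat_lit 3] (.fuse [nat_lit 5, nat_lit 6] [nat_lit 0, nat_lit 2] (.fuse [nat_lit 5, nat_lit 6, nat_lit 7] [] (.fuse [nat_lit 2] [] (.fuse [nat_lit 1] [] (.prune (nat_lit 0) (nat_lit 1) [])))))) (.more (.fuse [nat_lit 5] [nat_lit 1, nat_lit 3] (.fuse [nat_lit 6] [nat_lit 0, nat_lit 1] (.split (.more (.fuse [nat_lit 2] [nat_lit 0] (.fuse [nat_lit 3] [] (.leaf (nat_lit 10) [nat_lit 1, nat_lit 3, nat_lit 2, nat_lit 1, nat_lit 4, nat_lit 3, nat_lit 2, nat_lit 0, nat_lit 5, nat_lit 4, nat_lit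 3]))) (.more (.fuse [nat_lit 2] [nat_lit 0] (.split (.more (.leaf (nat_lit 1) [nat_lit 0, nat_lit 1, nat_lit 2, nat_lit 0, nat_lit 1, nat_lit 3, nat_lit 2, nat_lit 0, nat_lit 4, nat_lit 3]) (.more (.leaf (nat_lit 0) [nat_lit 2, nat_lit 3]) .one)))) .one))))) .one))) (.more (.split (.more (.fuse [nat_lit 6] [nat_lit 0, nat_lit 1, nat_lit 2] (.split (.more (.fuse [nat_lit 5] [nat_lit 1] (.fuse [nat_lit 3] [] (.fuse [nat_lit 2] [] (.leaf (nat_lit 10) [nat_lit 0, nat_lit 2, nat_lit 0, nat_lit 5, nat_lit 4, nat_lit 3, nat_lit 2, nat_lit 0])))) (.more (.fuse [nat_lit 5] [nat_lit 0] (.fuse [nat_lit 3] [] (.split (.more (.leaf (nat_lit 2) [nat_lit 0, nat_lit 3, nat_lit 2, nat_lit 0, nat_lit 4, nat_lit 3, nat_lit 2, nat_lit 1, nat_lit 5, nat_lit 4, nat_lit 3]) (.more (.leaf (nat_lit 5) [nat_lit 2, nat_lit 0, nat_lit 1, nat_lit 3, nat_lit 2, nat_lit 0, nat_lit 4, nat_lit 3, nat_lit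 2, nat_lit 5]) .one))))) .one)))) (.more (.split (.more (.fuse [nat_lit 6] [] (.fuse [nat_lit 5] [nat_lit 0, nat_lit 1] (.split (.more (.fuse [nat_lit 1] [] (.leaf (nat_lit 14) [nat_lit 1, nat_lit 2, nat_lit 0, nat_lit 1, nat_lit 3, nat_lit 2, nat_lit 5, nat_lit 4, nat_lit 3, nat_lit 2])) (.more (.fuse [nat_lit 1] [] (.leaf (nat_lit 9) [nat_lit 2, nat_lit 1, nat_lit 3, nat_lit 2, nat_lit 1, nat_lit 4, nat_lit 5, nat_lit 4, nat_lit 3, nat_lit 2, nat_lit 1])) .one))))) (.more (.fuse [nat_lit 6] [] (.fuse [nat_lit 5] [nat_lit 0, nat_lit 1] (.split (.more (.fuse [nat_lit 1] [] (.leaf (nat_lit 15) [nat_lit 2, nat_lit 0])) (.more (.fuse [nat_lit 1] [] (.leaf (nat_lit 9) [nat_lit 0, nat_lit 2, nat_lit 0, nat_lit 3, nat_lit 2, nat_lit 0, nat_lit 4, nat_lit 5, nat_lit 4, nat_lit 3, nat_lit 2, nat_lit 0])) .one))))) .one))) .one))) .one))) .one))) .one)))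
noncomputable def Ha : List (List ℕ) := [[],
  [nat_lit 1, nat_lit 4, nat_lit 3, nat_lit 2, nat_lit 0, nat_lit 5, nat_lit 6, nat_lit 5, nat_lit 4, nat_lit 3, nat_lit 2],
  [],
  [nat_lit 3, nat_lit 1, nat_lit 2, nat_lit 0, nat_lit 3, nat_lit 5, nat_lit 4, nat_lit 3, nat_lit 1, nat_lit 2, nat_lit 0],
  [],
  [nat_lit 0, nat_lit 1, nat_lit 2, nat_lit 3, nat_lit 1, nat_lit 2, nat_lit 5, nat_lit 4, nat_lit 3, nat_lit 6, nat_lit 5],
  [nat_lit 2, nat_lit 4, nat_lit 3, nat_lit 2, nat_lit 5, nat_lit 4],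
  [nat_lit 1, nat_lit 2, nat_lit 3, nat_lit 2, nat_lit 5, nat_lit 6, nat_lit 5, nat_lit 4, nat_lit 3, nat_lit 1, nat_lit 2, nat_lit 0, nat_lit 3, nat_lit 2, nat_lit 4, nat_lit 3, nat_lit 1, nat_lit 5, nat_lit 4, nat_lit 3],
  [],
  [],
  [],
  [nat_lit 0, nat_lit 2, nat_lit 0, nat_lit 3, nat_lit 1, nat_lit 2, nat_lit 0, nat_lit 5, nat_lit 4, nat_lit 3, nat_lit 1],
  [nat_lit 2, nat_lit 4, nat_lit 3, nat_lit 2, nat_lit 5, nat_lit 4],
  [nat_lit 1, nat_lit 2, nat_lit 0, nat_lit 3, nat_lit 4, nat_lit 3, nat_lit 1, nat_lit 2, nat_lit 0, nat_lit 3, nat_lit 2, nat_lit 4, nat_lit 3, nat_lit 1, nat_lit 5, nat_lit 4, nat_lit 3, nat_lit 6],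
  [nat_lit 1, nat_lit 2, nat_lit 3, nat_lit 4, nat_lit 3, nat_lit 2, nat_lit 1],
  [nat_lit 0, nat_lit 1, nat_lit 4, nat_lit 3, nat_lit 1, nat_lit 6, nat_lit 5, nat_lit 4, nat_lit 3, nat_lit 1, nat_lit 2],
  [nat_lit 1, nat_lit 2, nat_lit 3, nat_lit 4, nat_lit 3, nat_lit 2, nat_lit 1],
  [nat_lit 3, nat_lit 1, nat_lit 4, nat_lit 3, nat_lit 2, nat_lit 0, nat_lit 6, nat_lit 5, nat_lit 4, nat_lit 3, nat_lit 2],
  [nat_lit 3, nat_lit 4, nat_lit 3, nat_lit 5, nat_lit 4],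
  [nat_lit 2, nat_lit 0, nat_lit 3, nat_lit 2, nat_lit 0, nat_lit 4, nat_lit 3, nat_lit 2, nat_lit 0, nat_lit 5, nat_lit 4, nat_lit 3, nat_lit 1, nat_lit 6, nat_lit 5, nat_lit 4, nat_lit 3],
  [nat_lit 0, nat_lit 1, nat_lit 2, nat_lit 5],
  [nat_lit 0, nat_lit 4, nat_lit 3, nat_lit 1, nat_lit 2, nat_lit 3, nat_lit 5, nat_lit 4, nat_lit 3, nat_lit 2, nat_lit 0, nat_lit 6, nat_lit 5, nat_lit 4, nat_lit 3, nat_lit 1, nat_lit 2, nat_lit 3, nat_lit 4],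
  [nat_lit 0, nat_lit 2, nat_lit 0, nat_lit 1, nat_lit 2, nat_lit 3, nat_lit 4, nat_lit 3, nat_lit 5, nat_lit 4, nat_lit 3, nat_lit 2],
  [nat_lit 2, nat_lit 3, nat_lit 2, nat_lit 4, nat_lit 3, nat_lit 1, nat_lit 2, nat_lit 0, nat_lit 3, nat_lit 2, nat_lit 4, nat_lit 3, nat_lit 1, nat_lit 6, nat_lit 5, nat_lit 4, nat_lit 3],
  [nat_lit 1, nat_lit 2, nat_lit 3, nat_lit 4, nat_lit 3, nat_lit 2, nat_lit 5, nat_lit 4, nat_lit 3],
  [nat_lit 0, nat_lit 2, nat_lit 0, nat_lit 3, nat_lit 5, nat_lit 4, nat_lit 3, nat_lit 2, nat_lit 6, nat_lit 5, nat_lit 4, nat_lit 3, nat_lit 1, nat_lit 2, nat_lit 3, nat_lit 4],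
  [nat_lit 2, nat_lit 4, nat_lit 3, nat_lit 2, nat_lit 5, nat_lit 4],
  [nat_lit 2, nat_lit 0, nat_lit 3, nat_lit 5, nat_lit 4, nat_lit 3, nat_lit 2, nat_lit 6],
  [nat_lit 2, nat_lit 4, nat_lit 3, nat_lit 2, nat_lit 5, nat_lit 4],
  [nat_lit 0, nat_lit 1, nat_lit 3, nat_lit 1, nat_lit 2, nat_lit 0, nat_lit 3, nat_lit 5, nat_lit 4, nat_lit 3, nat_lit 1, nat_lit 2, nat_lit 3, nat_lit 4, nat_lit 5],
  [nat_lit 2, nat_lit 4, nat_lit 3, nat_lit 2, nat_lit 5, nat_lit 4],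
  [nat_lit 0, nat_lit 1, nat_lit 4, nat_lit 3, nat_lit 1, nat_lit 2, nat_lit 0, nat_lit 3, nat_lit 2, nat_lit 4, nat_lit 3, nat_lit 5, nat_lit 4, nat_lit 3, nat_lit 1, nat_lit 2, nat_lit 3, nat_lit 4, nat_lit 5],
  [],
  [nat_lit 0, nat_lit 2, nat_lit 0, nat_lit 3, nat_lit 4, nat_lit 5, nat_lit 4, nat_lit 3, nat_lit 1, nat_lit 2, nat_lit 0, nat_lit 3, nat_lit 2, nat_lit 4, nat_lit 3, nat_lit 1, nat_lit 6, nat_lit 5, nat_lit 4, nat_lit 3, nat_lit 2],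
  [],
  [nat_lit 0, nat_lit 2, nat_lit 0, nat_lit 3, nat_lit 1, nat_lit 2, nat_lit 0, nat_lit 4, nat_lit 3, nat_lit 1, nat_lit 2, nat_lit 0, nat_lit 3, nat_lit 2, nat_lit 4, nat_lit 3, nat_lit 1, nat_lit 5, nat_lit 4, nat_lit 3, nat_lit 2, nat_lit 6, nat_lit 5, nat_lit 4, nat_lit 3, nat_lit 2],
  [nat_lit 0, nat_lit 1, nat_lit 2, nat_lit 5],
  [nat_lit 2, nat_lit 0, nat_lit 3, nat_lit 2, nat_lit 5, nat_lit 4],
  [nat_lit 0, nat_lit 1, nat_lit 2, nat_lit 5],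
  [nat_lit 0, nat_lit 4, nat_lit 3, nat_lit 1, nat_lit 2, nat_lit 5]]
noncomputable def cbth_W : List (List ℕ) := [[nat_lit 0, nat_lit 2, nat_lit 3, nat_lit 1, nat_lit 2, nat_lit 3, nat_lit 4, nat_lit 3, nat_lit 1, nat_lit 2, nat_lit 0, nat_lit 3, nat_lit 2, nat_lit 5, nat_lit 4, nat_lit 3, nat_lit 1, nat_lit 2, nat_lit 3, nat_lit 4, nat_lit 5, nat_lit 6, nat_lit 5, nat_lit 4, nat_lit 3, nat_lit 1, nat_lit 2, nat_lit 3, nat_lit 4, nat_lit 5],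
  [nat_lit 0, nat_lit 3, nat_lit 1, nat_lit 4, nat_lit 3, nat_lit 2, nat_lit 5, nat_lit 4, nat_lit 3, nat_lit 1, nat_lit 2, nat_lit 3, nat_lit 4, nat_lit 5, nat_lit 6, nat_lit 5, nat_lit 4, nat_lit 3, nat_lit 1, nat_lit 2, nat_lit 0, nat_lit 3, nat_lit 2, nat_lit 4, nat_lit 3, nat_lit 1, nat_lit 5, nat_lit 4, nat_lit 3, nat_lit 2],
  [nat_lit 2, nat_lit 0, nat_lit 3, nat_lit 4, nat_lit 6, nat_lit 5, nat_lit 4, nat_lit 3, nat_lit 1, nat_lit 2, nat_lit 0, nat_lit 3, nat_lit 4],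
  [nat_lit 1, nat_lit 3, nat_lit 1, nat_lit 2, nat_lit 0, nat_lit 3, nat_lit 2, nat_lit 4, nat_lit 3, nat_lit 1, nat_lit 2, nat_lit 3, nat_lit 5, nat_lit 4, nat_lit 3, nat_lit 6, nat_lit 5, nat_lit 4],
  [nat_lit 0, nat_lit 1, nat_lit 3, nat_lit 1, nat_lit 2, nat_lit 3, nat_lit 4, nat_lit 3, nat_lit 1, nat_lit 2, nat_lit 0, nat_lit 3, nat_lit 2, nat_lit 5, nat_lit 4, nat_lit 3],
  [nat_lit 0],
  [nat_lit 1],
  [nat_lit 2],
  [nat_lit 3],
  [nat_lit 4],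
  [nat_lit 5],
  [nat_lit 6],
  [nat_lit 0, nat_lit 3, nat_lit 2, nat_lit 4, nat_lit 3, nat_lit 1, nat_lit 2, nat_lit 3, nat_lit 4, nat_lit 6, nat_lit 5, nat_lit 4, nat_lit 3, nat_lit 1, nat_lit 2, nat_lit 3, nat_lit 4]]
noncomputable def cbth_P : ℕ → ℕ → ℕ := wdsP P cbth_W
noncomputable def cbtl0Dd : ℕ := nat_lit 0x835261f8c97892ef1d1b1682aa89a42fb1d837d4a28718ab7d302533f22456f2125088a8ef1d10d40ad4e1b7322675479f52ee939071ce36a63c2e9cd2ea53c281812b65088784331846c7410d1e839c6702919a3005981c14c2644688001e3905887f1c63285e8a41161f8390ef1782283e8950e0220378650b21e82b84b07e0f81904907a0c4180240300ec178170740880b02102a0b00a0130160280480800e01802800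
noncomputable def cbtl0D (u : ℕ) : ℕ := Nat.land (Nat.shiftRight cbtl0Dd (Nat.mul u (nat_lit 11))) (nat_lit 2047)
noncomputable def cbtl0Pd : ℕ := nat_lit 0x59391fc9b11e7161584e27d9879572d38fe49da3e1524b847c4ae6f13a25b7a965216abf7bfdde56f71b1ae8c8efc578356ed492f28dea67327ff89be3aec69a5c13b4d8b2d276cb9368ac57ca4fa42bed6375bcf45da69c8e8c3d2f294cba94863e2dfedfc7d517b9ab3653492331a16c4d8516c4fb4812
noncomputable def cbtl0P (u : ℕ) : ℕ := Nat.land (Nat.shiftRight cbtl0Pd (Nat.mul u (nat_lit 8))) (nat_lit 255)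
noncomputable def cbtl0Qd : ℕ := nat_lit 0x52900040003d9e00023010ee009401380010404c017406676031802744000000363400008c5d0c8000000000060afa4b24e64830000000a8000240064780b20003500cf98000e802d1c02c000084029c80040000032a078e000000035185f10000ce7e11e0000000d65c2e000000007c0005fa60004800c528001a78800118007015402e8002b804c0380000011370003bef5940000198800055b831ac378581000000000000000058e80016fb00003638000fc4803800a805000d80da02d001402b00ebc80009d3400020100006c000000000000000000000000000000000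
noncomputable def cbtl0Q (u : ℕ) : ℕ := Nat.land (Nat.shiftRight cbtl0Qd (Nat.mul u (nat_lit 7))) (nat_lit 127)
noncomputable def cbtl0 : Lev := ⟨120, 13, cbtl0D, cbtl0P, cbtl0Q⟩
noncomputable def cbtl1Dd : ℕ := nat_lit 0xc099bb865655467f2e706d636b665d58534e611f5c575240301a36194831143910342c211c252018121b13160605110d0e08090c07030400
noncomputable def cbtl1D (u : ℕ) : ℕ := Nat.land (Nat.shiftRight cbtl1Dd (Nat.mul u (nat_lit 8))) (nat_lit 255)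
noncomputable def cbtl1Pd : ℕ := nat_lit 0xa64b5db18fb9a3cbd586633d58d831876e3567f1b49c75cac72ffd4af48e5ce378f8e671c62794d42b7cae6aefbc59ab9dea9539d94f4e23
noncomputable def cbtl1P (u : ℕ) : ℕ := Nat.land (Nat.shiftRight cbtl1Pd (Nat.mul u (nat_lit 8))) (nat_lit 255)
noncomputable def cbtl1Qd : ℕ := nat_lit 0x74000001600001b0009002c00000060000150006000000000000000ea000bd0000000000000c200007d300000000000000a000c80000023000d0000d000200000037000c400000001e2000000000151000000cda000000000a2e00000000000000e00001700084000050002700000c000940000b40000000d5900026b000000000000081000d9c000000000000000000b00000100000980000a407800003c0000480000000000000000000000000000000000000000000000000000000000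
noncomputable def cbtl1Q (u : ℕ) : ℕ := Nat.land (Nat.shiftRight cbtl1Qd (Nat.mul u (nat_lit 6))) (nat_lit 63)
noncomputable def cbtl1 : Lev := ⟨56, 5, cbtl1D, cbtl1P, cbtl1Q⟩
noncomputable def cbtl2Dd : ℕ := nat_lit 0xc58417ce112f58a4c984c80e8c2e24a111c2c2031014100
noncomputable def cbtl2D (u : ℕ) : ℕ := Nat.land (Nat.shiftRight cbtl2Dd (Nat.mul u (nat_lit 7))) (nat_lit 127)
noncomputable def cbtl2Pd : ℕ := nat_lit 0xd4b1879ca6c7943d35756eeaf18fae4bfdb958cbd8e65c716a394f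
noncomputable def cbtl2P (u : ℕ) : ℕ := Nat.land (Nat.shiftRight cbtl2Pd (Nat.mul u (nat_lit 8))) (nat_lit 255)
noncomputable def cbtl2Qd : ℕ := nat_lit 0x1400000000000001c00000003c00014000000000000000060001a000000000038000a8000000000000000120000000032003000000000580000000000170000000014000006800000000c0000000000000000000002200006004000008000000000000000040000800000000000000058000000000000000260000200024000000000000000000000000000000000000000000000000000000000000000000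
noncomputable def cbtl2Q (u : ℕ) : ℕ := Nat.land (Nat.shiftRight cbtl2Qd (Nat.mul u (nat_lit 5))) (nat_lit 31)
noncomputable def cbtl2 : Lev := ⟨27, 3, cbtl2D, cbtl2P, cbtl2Q⟩
noncomputable def cbtl3Dd : ℕ := nat_lit 0xfa3440
noncomputable def cbtl3D (u : ℕ) : ℕ := Nat.land (Nat.shiftRight cbtl3Dd (Nat.mul u (nat_lit 3))) (nat_lit 7)
noncomputable def cbtl3Pd : ℕ := nat_lit 0x3764bb2c96a0f301
noncomputable def cbtl3P (u : ℕ) : ℕ := Nat.land (Nat.shiftRight cbtl3Pd (Nat.mul u (nat_lit 8))) (nat_lit 255)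
noncomputable def cbtl3Qd : ℕ := nat_lit 0x200000000000000000000000000000000000000000a000000000000000000020000000c0000000000000000000000000000000000006000000000000000000000000000000000e00000004000000000000000000000000000000000
noncomputable def cbtl3Q (u : ℕ) : ℕ := Nat.land (Nat.shiftRight cbtl3Qd (Nat.mul u (nat_lit 3))) (nat_lit 7)
noncomputable def cbtl3 : Lev := ⟨8, 2, cbtl3D, cbtl3P, cbtl3Q⟩
noncomputable def cbe_W : List (List ℕ) := [[nat_lit 1, nat_lit 4, nat_lit 6],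
  [nat_lit 0, nat_lit 2, nat_lit 0, nat_lit 3, nat_lit 1, nat_lit 4, nat_lit 3, nat_lit 5, nat_lit 4, nat_lit 3, nat_lit 1, nat_lit 2, nat_lit 3, nat_lit 4, nat_lit 5, nat_lit 6, nat_lit 5, nat_lit 4, nat_lit 3, nat_lit 1, nat_lit 2, nat_lit 0, nat_lit 3, nat_lit 2, nat_lit 4, nat_lit 3, nat_lit 1, nat_lit 5, nat_lit 4, nat_lit 3],
  [nat_lit 2, nat_lit 3, nat_lit 1, nat_lit 4, nat_lit 3, nat_lit 5, nat_lit 4, nat_lit 3, nat_lit 1, nat_lit 2, nat_lit 3, nat_lit 4, nat_lit 5, nat_lit 6, nat_lit 5, nat_lit 4, nat_lit 3, nat_lit 1, nat_lit 2, nat_lit 0, nat_lit 3, nat_lit 2, nat_lit 4, nat_lit 3, nat_lit 1, nat_lit 5, nat_lit 4, nat_lit 3, nat_lit 2, nat_lit 0],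
  [nat_lit 2, nat_lit 3, nat_lit 1, nat_lit 2, nat_lit 3, nat_lit 4, nat_lit 3, nat_lit 1, nat_lit 2, nat_lit 0, nat_lit 3, nat_lit 5, nat_lit 4, nat_lit 3, nat_lit 1, nat_lit 6, nat_lit 5, nat_lit 4, nat_lit 3, nat_lit 2],
  [nat_lit 1, nat_lit 2, nat_lit 3, nat_lit 1, nat_lit 4, nat_lit 3, nat_lit 1, nat_lit 2, nat_lit 0, nat_lit 5, nat_lit 4, nat_lit 3, nat_lit 1, nat_lit 6, nat_lit 5, nat_lit 4, nat_lit 3, nat_lit 1, nat_lit 2, nat_lit 0],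
  [nat_lit 1, nat_lit 2, nat_lit 5, nat_lit 4, nat_lit 3, nat_lit 1, nat_lit 2, nat_lit 3, nat_lit 6, nat_lit 5, nat_lit 4, nat_lit 3, nat_lit 1, nat_lit 2, nat_lit 0, nat_lit 3],
  [nat_lit 0, nat_lit 1, nat_lit 3, nat_lit 1, nat_lit 4, nat_lit 3, nat_lit 2, nat_lit 5, nat_lit 4, nat_lit 3, nat_lit 1, nat_lit 2, nat_lit 3, nat_lit 6, nat_lit 5, nat_lit 4, nat_lit 3, nat_lit 1, nat_lit 2, nat_lit 3, nat_lit 4]]
noncomputable def cbe_P : ℕ → ℕ → ℕ := wdsP P cbe_W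
noncomputable def cbc3Dd : ℕ := nat_lit 0xa8542100
noncomputable def cbc3D (u : ℕ) : ℕ := Nat.land (Nat.shiftRight cbc3Dd (Nat.mul u (nat_lit 4))) (nat_lit 15)
noncomputable def cbc3Pd : ℕ := nat_lit 0xa037f3bb642c9601
noncomputable def cbc3P (u : ℕ) : ℕ := Nat.land (Nat.shiftRight cbc3Pd (Nat.mul u (nat_lit 8))) (nat_lit 255)
noncomputable def cbc3Qd : ℕ := nat_lit 0xa00000000000000000000000000000000000000000800000000000000000007000000040000000000000000000000000000000000003000000000000000000000000000000000c00000002000000000000000000000000000000000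
noncomputable def cbc3Q (u : ℕ) : ℕ := Nat.land (Nat.shiftRight cbc3Qd (Nat.mul u (nat_lit 3))) (nat_lit 7)
noncomputable def cbc3 : Lev := ⟨8, 3, cbc3D, cbc3P, cbc3Q⟩
noncomputable def cbtn0Fd : ℕ := nat_lit 0
noncomputable def cbtn0F (u : ℕ) : ℕ := Nat.land (Nat.shiftRight cbtn0Fd (Nat.mul u (nat_lit 1))) (nat_lit 1)
noncomputable def cbtn0 : Nd := ⟨cbtn0F, (nat_lit 3), (nat_lit 3), [], [((nat_lit 0), [])], []⟩
noncomputable def cbc2Dd : ℕ := nat_lit 0x1d8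
noncomputable def cbc2D (u : ℕ) : ℕ := Nat.land (Nat.shiftRight cbc2Dd (Nat.mul u (nat_lit 3))) (nat_lit 7)
noncomputable def cbc2Pd : ℕ := nat_lit 0xd8a64f
noncomputable def cbc2P (u : ℕ) : ℕ := Nat.land (Nat.shiftRight cbc2Pd (Nat.mul u (nat_lit 8))) (nat_lit 255)
noncomputable def cbc2Qd : ℕ := nat_lit 0x2000000000000000000000000100000000000000000000000000000000000000000000000000000000000000000000000000000000000
noncomputable def cbc2Q (u : ℕ) : ℕ := Nat.land (Nat.shiftRight cbc2Qd (Nat.mul u (nat_lit 2))) (nat_lit 3)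
noncomputable def cbc2 : Lev := ⟨3, 4, cbc2D, cbc2P, cbc2Q⟩
noncomputable def cbtn1Fd : ℕ := nat_lit 0x2dae5816f3c54d745a4915e93012a52420
noncomputable def cbtn1F (u : ℕ) : ℕ := Nat.land (Nat.shiftRight cbtn1Fd (Nat.mul u (nat_lit 5))) (nat_lit 31)
noncomputable def cbtn1 : Nd := ⟨cbtn1F, (nat_lit 4), (nat_lit 4), [[nat_lit 0]], [((nat_lit 0), [])], []⟩
noncomputable def cbc1Dd : ℕ := nat_lit 0xdd62a490a0
noncomputable def cbc1D (u : ℕ) : ℕ := Nat.land (Nat.shiftRight cbc1Dd (Nat.mul u (nat_lit 5))) (nat_lit 31)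
noncomputable def cbc1Pd : ℕ := nat_lit 0xb4a6ca5d4f31d823
noncomputable def cbc1P (u : ℕ) : ℕ := Nat.land (Nat.shiftRight cbc1Pd (Nat.mul u (nat_lit 8))) (nat_lit 255)
noncomputable def cbc1Qd : ℕ := nat_lit 0x1000000000140000000000000007000000000180000000000000000000000000000000000000000000000000000020000000000600000000000000000000010000000000000000000000000000000000000
noncomputable def cbc1Q (u : ℕ) : ℕ := Nat.land (Nat.shiftRight cbc1Qd (Nat.mul u (nat_lit 3))) (nat_lit 7)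
noncomputable def cbc1 : Lev := ⟨8, 6, cbc1D, cbc1P, cbc1Q⟩
noncomputable def cbtn2Fd : ℕ := nat_lit 0x5c14a42ad5bcf0980117c53305b80b3e976be737d60a74676436ceabaf16de7030020
noncomputable def cbtn2F (u : ℕ) : ℕ := Nat.land (Nat.shiftRight cbtn2Fd (Nat.mul u (nat_lit 5))) (nat_lit 31)
noncomputable def cbtn2 : Nd := ⟨cbtn2F, (nat_lit 6), (nat_lit 6), [[nat_lit 0]], [((nat_lit 0), [])], []⟩
noncomputable def cbc0Dd : ℕ := nat_lit 0xdf7ec507d1181d20893282884911122068b1430300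
noncomputable def cbc0D (u : ℕ) : ℕ := Nat.land (Nat.shiftRight cbc0Dd (Nat.mul u (nat_lit 7))) (nat_lit 127)
noncomputable def cbc0Pd : ℕ := nat_lit 0x85ca316cb4c4a636655d4f23fbdf8ca153bad8481bf22d12
noncomputable def cbc0P (u : ℕ) : ℕ := Nat.land (Nat.shiftRight cbc0Pd (Nat.mul u (nat_lit 8))) (nat_lit 255)
noncomputable def cbc0Qd : ℕ := nat_lit 0x5800000000008000000000000000000000050000000050000000000000000580000012000000000001800000130000000000000000440000100000000000000000000000000900000002e000000000000000000000000000001400000001e000000001c000000000003800068000000040000000000000000000004000002a0000200000000000600000000018000000000000000000000000000000000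
noncomputable def cbc0Q (u : ℕ) : ℕ := Nat.land (Nat.shiftRight cbc0Qd (Nat.mul u (nat_lit 5))) (nat_lit 31)
noncomputable def cbc0 : Lev := ⟨24, 7, cbc0D, cbc0P, cbc0Q⟩
noncomputable def cbtn3Fd : ℕ := nat_lit 0x6dd68f64f5d381f51865b81a6da6df3d96d26d88226132170196d149451358044a81449b89b84b01076869175951688f6590003105a068725300051b6da898840022840862697021590011022598a5b00034000001b001000000
noncomputable def cbtn3F (u : ℕ) : ℕ := Nat.land (Nat.shiftRight cbtn3Fd (Nat.mul u (nat_lit 6))) (nat_lit 63)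
noncomputable def cbtn3 : Nd := ⟨cbtn3F, (nat_lit 7), (nat_lit 7), [[nat_lit 0]], [((nat_lit 0), [])], []⟩
noncomputable def sybt_W : List (List ℕ) := [[nat_lit 1, nat_lit 2, nat_lit 3],
  [nat_lit 4, nat_lit 5, nat_lit 6, nat_lit 4, nat_lit 6, nat_lit 5],
  [nat_lit 3, nat_lit 4, nat_lit 6, nat_lit 4, nat_lit 0, nat_lit 5, nat_lit 6, nat_lit 4, nat_lit 5, nat_lit 6, nat_lit 4, nat_lit 0, nat_lit 5],
  [nat_lit 1, nat_lit 2],
  [nat_lit 4, nat_lit 6, nat_lit 4, nat_lit 6],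
  [nat_lit 0, nat_lit 1, nat_lit 3, nat_lit 5, nat_lit 6, nat_lit 4, nat_lit 5, nat_lit 6, nat_lit 4, nat_lit 0, nat_lit 5, nat_lit 6],
  [nat_lit 0, nat_lit 2, nat_lit 4, nat_lit 6, nat_lit 4, nat_lit 0, nat_lit 5, nat_lit 6, nat_lit 4],
  [nat_lit 1, nat_lit 6, nat_lit 4, nat_lit 5, nat_lit 6],
  [nat_lit 0, nat_lit 1, nat_lit 2, nat_lit 3, nat_lit 4, nat_lit 0, nat_lit 6, nat_lit 4, nat_lit 0, nat_lit 6]]
noncomputable def sybt_P : ℕ → ℕ → ℕ := wdsP (rl [nat_lit 11, nat_lit 12, nat_lit 13, nat_lit 14, nat_lit 15, nat_lit 16, nat_lit 17] F_P) sybt_W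
noncomputable def sybPd : List ℕ := [nat_lit 0xa956b57b166d5bb976f5f81061438916347912654b993674fa1469533e20e8a04043052444a171a68c8e1e60d8c2c54813081c003167049e7e81ea25ac98ae68ad53550ddb295ec19ac46f10be4ce5c2748edd25,
  nat_lit 0x8916bd69b323c6bb7274fa54e851a956dda93225cab362f5f850e041162848872e1dba54ad4a83064d1b183470f6cddab448953273e78e9c46890a060c593326449102e54b1458b572f7ef9ebc00080830818287,
  nat_lit 0x8d6a9c18956f4fa502ccdad72548b71efcea10a8c38b526589726bdd681883b1471f201c6049f2c9803706d8aa766b5ea318698af26e9a852ee1481541d2917e34da116c171d48495845008a396420f2c1ef1119,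
  nat_lit 0x8916e5d9b323c6ad5e74f83021c2a956dda952e449b362f5fa3429d27a89fa00a180822c5499060bd63364b57312444b94000c20742f91bc3a28f88303c61b52ddb286aad5343434719127859c48e9da54ce1ca7,
  nat_lit 0xb3368c38b52fcea10a35a932eed79962f4fa5029c18956dc7b95a44a2e094b91079e225acc49f6c980150659ba73039ea358c8c8f50e0a0168e8805241d2ab7eb9821166c69d48a88842619abb3428e0c5ef9031,
  nat_lit 0x8502cc7915aecb996a9d1ab16a4487064d7b11a6dbb92a9509f7e75e7e19e8214884201cb9a9756698921ed8aac666c828089802416e84b83e14e8154c8c91683569426c0c295edcb0c46ed0b90ef8f2706f0e25,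
  nat_lit 0x85062de975ee48ab3a95199666d88702556897ea4fbb269d0b71ad471c0c68458697997e25b125288f177cd498a3a8cb2a04e82b95a99725600198750710146ef45912a7d0ab10d083c369cc24023d8bb0c31938,
  nat_lit 0x991a54bab7ea5e91266c7a3420c0b36e744bb72bd69f16c5aa74a1c2408de3f2e509904e99cb8326c70c306878d4a91dba2c549114485f3d3c745095eb58320a0018602103825cb18b3387c40b54a14ab6cd1ab7,
  nat_lit 0x8346f45b92e4579d561528f6a6d88142ecaa93e25f935a1d3b71accc38404147a2d09f1ec433800619a7361d2306431d812aac8b740d1e28444df1706b86a60a6963974bcc825a1128e3cd45292c25faa24751b6]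
noncomputable def sybP (k u : ℕ) : ℕ := Nat.land (Nat.shiftRight (nth (nat_lit 0) sybPd k) (Nat.mul u (nat_lit 7))) (nat_lit 127)
noncomputable def sybEd : ℕ := nat_lit 0xfff6dcdbcec0beb0a5a288817d7a74736f665e5045423c3b2e2018110d0a0403faf9f3f0ecebe5e2dddad7d0cfccc2c1bbb8b6b5adaaa7a09f9896918a8983806d6964605f5b555147444340373433302c2826221d1914100f0c0b0806050201
noncomputable def sybE (u : ℕ) : ℕ := Nat.land (Nat.shiftRight sybEd (Nat.mul u (nat_lit 8))) (nat_lit 255)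
noncomputable def sybId : ℕ := nat_lit 0xbe0000000fdf0001780007a0003c000003b74000000001c8000e00000001bddb8d80006a000000000034676c0320000000000000000c585a01640005e0002e00b56000000058000158000a80005202b8001580284e000000000026009400000012000000000008d15500000004202a20000298001480000000051a0000009e00f800000f00013801d000001c373400034000000000c800000c4c000000000000002e025962b280140000049900000026000122200010011c00f000000e0034000003004600005800000545000000900022080e021860b08004000c1418004000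
noncomputable def sybI (u : ℕ) : ℕ := Nat.land (Nat.shiftRight sybId (Nat.mul u (nat_lit 7))) (nat_lit 127)
noncomputable def sybB : List ℕ := [nat_lit 0, nat_lit 1, nat_lit 65, nat_lit 4, nat_lit 8, nat_lit 70, nat_lit 20, nat_lit 32]
noncomputable def sybC : List (List (List ℕ)) := [[[],
  [],
  [],
  [],
  [],
  [],
  [],
  [],
  []], [[],
  [],
  [],
  [],
  [],
  [nat_lit 0],
  [nat_lit 0],
  [],
  [nat_lit 0]], [[],
  [],
  [nat_lit 0],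
  [],
  [nat_lit 0],
  [nat_lit 0],
  [],
  [nat_lit 0],
  [nat_lit 0, nat_lit 1]], [[],
  [],
  [],
  [],
  [],
  [],
  [],
  [],
  []], [[],
  [],
  [],
  [],
  [],
  [nat_lit 0],
  [nat_lit 1],
  [nat_lit 1],
  []], [[],
  [],
  [],
  [],
  [],
  [],
  [nat_lit 2],
  [nat_lit 2],
  [nat_lit 1, nat_lit 4]], [[],
  [],
  [],
  [],
  [],
  [],
  [nat_lit 2],
  [nat_lit 2, nat_lit 3],
  [nat_lit 1, nat_lit 2, nat_lit 3, nat_lit 4]], [[],
  [],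
  [],
  [],
  [],
  [],
  [],
  [nat_lit 3],
  [nat_lit 2, nat_lit 3]], [[],
  [],
  [],
  [],
  [],
  [],
  [],
  [],
  [nat_lit 4]]]
noncomputable def sybe : List (List ℕ) := [[],
  [],
  [],
  [],
  [],
  [],
  [],
  [],
  [],
  [],
  [],
  [],
  [],
  [],
  [],
  [],
  [],
  [],
  [],
  [],
  [],
  [],
  [],
  [],
  [],
  [],
  [],
  [],
  [nat_lit 2, nat_lit 3, nat_lit 5, nat_lit 7, nat_lit 8],
  [nat_lit 0, nat_lit 5],
  [nat_lit 1, nat_lit 6],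
  [nat_lit 0, nat_lit 2, nat_lit 7]]
noncomputable def sybl0Dd : ℕ := nat_lit 0xdbfafe9e57fa7f1721e57e97b27e3fc7e5b8efdbfa5c478ef9bf33d63cafd4fa7f4387f0ee29e4fc7fcef9bf3fc778ee99d2fe4fc6e0bc2fc5f49f13d13837c5f8de17a27c3f85c13c2741e05f0bc1741f83e07a07c0f000
noncomputable def sybl0D (u : ℕ) : ℕ := Nat.land (Nat.shiftRight sybl0Dd (Nat.mul u (nat_lit 11))) (nat_lit 2047)
noncomputable def sybl0Pd : ℕ := nat_lit 0xc2f64eca3dd6d87c77841aff21dedb91ff65e9566e08339c35cd28f4a9095cc856acf94a162ceeb182726b4d904d880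
noncomputable def sybl0P (u : ℕ) : ℕ := Nat.land (Nat.shiftRight sybl0Pd (Nat.mul u (nat_lit 6))) (nat_lit 63)
noncomputable def sybl0Qd : ℕ := nat_lit 0xa51f6fecb823b6879a75529fc2bb1219998f2245fc6c1b89d73e16dd31369ce95015ca98e4c0a137a1e2d31532ffe0c0
noncomputable def sybl0Q (u : ℕ) : ℕ := Nat.land (Nat.shiftRight sybl0Qd (Nat.mul u (nat_lit 6))) (nat_lit 63)
noncomputable def sybl0 : Lev := ⟨64, 32, sybl0D, sybl0P, sybl0Q⟩
noncomputable def sybl1Dd : ℕ := nat_lit 0xb2e8e80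
noncomputable def sybl1D (u : ℕ) : ℕ := Nat.land (Nat.shiftRight sybl1Dd (Nat.mul u (nat_lit 7))) (nat_lit 127)
noncomputable def sybl1Pd : ℕ := nat_lit 0x160881
noncomputable def sybl1P (u : ℕ) : ℕ := Nat.land (Nat.shiftRight sybl1Pd (Nat.mul u (nat_lit 6))) (nat_lit 63)
noncomputable def sybl1Qd : ℕ := nat_lit 0x120000000000000c00
noncomputable def sybl1Q (u : ℕ) : ℕ := Nat.land (Nat.shiftRight sybl1Qd (Nat.mul u (nat_lit 2))) (nat_lit 3)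
noncomputable def sybl1 : Lev := ⟨4, 30, sybl1D, sybl1P, sybl1Q⟩
noncomputable def sybl2Dd : ℕ := nat_lit 0x380
noncomputable def sybl2D (u : ℕ) : ℕ := Nat.land (Nat.shiftRight sybl2Dd (Nat.mul u (nat_lit 5))) (nat_lit 31)
noncomputable def sybl2Pd : ℕ := nat_lit 0xa8
noncomputable def sybl2P (u : ℕ) : ℕ := Nat.land (Nat.shiftRight sybl2Pd (Nat.mul u (nat_lit 4))) (nat_lit 15)
noncomputable def sybl2Qd : ℕ := nat_lit 0x400
noncomputable def sybl2Q (u : ℕ) : ℕ := Nat.land (Nat.shiftRight sybl2Qd (Nat.mul u (nat_lit 1))) (nat_lit 1)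
noncomputable def sybl2 : Lev := ⟨2, 29, sybl2D, sybl2P, sybl2Q⟩
noncomputable def cvbr_W : List (List ℕ) := [[nat_lit 1, nat_lit 2, nat_lit 3],
  [nat_lit 4, nat_lit 5, nat_lit 6, nat_lit 4, nat_lit 6, nat_lit 5],
  [nat_lit 3, nat_lit 4, nat_lit 6, nat_lit 4, nat_lit 0, nat_lit 5, nat_lit 6, nat_lit 4, nat_lit 5, nat_lit 6, nat_lit 4, nat_lit 0, nat_lit 5],
  [nat_lit 1, nat_lit 2],
  [nat_lit 3],
  [nat_lit 1, nat_lit 2, nat_lit 4, nat_lit 5, nat_lit 6, nat_lit 4, nat_lit 6, nat_lit 5],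
  [nat_lit 0, nat_lit 4, nat_lit 5, nat_lit 6, nat_lit 4, nat_lit 0, nat_lit 5, nat_lit 6, nat_lit 4, nat_lit 5, nat_lit 6, nat_lit 4],
  [nat_lit 1, nat_lit 2, nat_lit 4, nat_lit 6, nat_lit 4, nat_lit 6],
  [nat_lit 0, nat_lit 1, nat_lit 2, nat_lit 3, nat_lit 4, nat_lit 0, nat_lit 5, nat_lit 6, nat_lit 4, nat_lit 0, nat_lit 5],
  [nat_lit 1, nat_lit 2, nat_lit 3, nat_lit 6, nat_lit 4, nat_lit 0, nat_lit 6, nat_lit 4, nat_lit 5, nat_lit 6, nat_lit 4, nat_lit 0, nat_lit 5],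
  [nat_lit 6, nat_lit 4, nat_lit 0, nat_lit 6, nat_lit 4, nat_lit 5, nat_lit 6, nat_lit 4, nat_lit 0, nat_lit 5],
  [nat_lit 1, nat_lit 6, nat_lit 4, nat_lit 5, nat_lit 6],
  [nat_lit 1, nat_lit 4, nat_lit 5, nat_lit 6, nat_lit 5],
  [nat_lit 2, nat_lit 3, nat_lit 4, nat_lit 5, nat_lit 6, nat_lit 5],
  [nat_lit 0, nat_lit 1, nat_lit 2, nat_lit 3, nat_lit 4, nat_lit 0, nat_lit 6, nat_lit 4, nat_lit 0, nat_lit 6],
  [nat_lit 0, nat_lit 3, nat_lit 5, nat_lit 6, nat_lit 4, nat_lit 5, nat_lit 6, nat_lit 4, nat_lit 0, nat_lit 5, nat_lit 6, nat_lit 4],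
  [nat_lit 2, nat_lit 3, nat_lit 4],
  [nat_lit 1, nat_lit 4],
  [nat_lit 0, nat_lit 1, nat_lit 3, nat_lit 4, nat_lit 5, nat_lit 6, nat_lit 4, nat_lit 0, nat_lit 5],
  [nat_lit 0, nat_lit 2, nat_lit 4, nat_lit 5, nat_lit 6, nat_lit 4, nat_lit 0, nat_lit 5],
  [nat_lit 1, nat_lit 4, nat_lit 6, nat_lit 4, nat_lit 5, nat_lit 6],
  [nat_lit 0, nat_lit 4, nat_lit 6, nat_lit 4, nat_lit 0, nat_lit 5, nat_lit 6],
  [nat_lit 0, nat_lit 4, nat_lit 0, nat_lit 5, nat_lit 6, nat_lit 4, nat_lit 0, nat_lit 6, nat_lit 4, nat_lit 6, nat_lit 5],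
  [nat_lit 6, nat_lit 4, nat_lit 0, nat_lit 6, nat_lit 4, nat_lit 5, nat_lit 6, nat_lit 4, nat_lit 0, nat_lit 5, nat_lit 6, nat_lit 4, nat_lit 6],
  [nat_lit 5, nat_lit 6, nat_lit 4, nat_lit 6, nat_lit 5],
  [nat_lit 1, nat_lit 2, nat_lit 3, nat_lit 5, nat_lit 6, nat_lit 4, nat_lit 6, nat_lit 5],
  [nat_lit 3, nat_lit 6, nat_lit 4, nat_lit 0, nat_lit 5, nat_lit 6, nat_lit 4, nat_lit 5, nat_lit 6, nat_lit 4, nat_lit 0, nat_lit 5]]
noncomputable def cvbr_P : ℕ → ℕ → ℕ := wdsP (rl [nat_lit 11, nat_lit 12, nat_lit 13, nat_lit 14, nat_lit 15, nat_lit 16, nat_lit 17] F_P) cvbr_W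
noncomputable def cvbT0 : CT := (.split (.more (.split (.more (.split (.more (.split (.more (.split (.more (.split (.more (.split (.more (.split (.more (.split (.more .one (.more (.leaf (nat_lit 0) []) .one))) (.more (.fuse [nat_lit 5] [] (.leaf (nat_lit 1) [])) .one))) (.more (.fuse [nat_lit 8] [nat_lit 0] (.fuse [nat_lit 4] [] (.leaf (nat_lit 2) []))) .one))) (.more (.split (.more (.split (.more (.split (.more (.leaf (nat_lit 3) []) (.more (.leaf (nat_lit 4) []) .one))) (.more (.fuse [nat_lit 5] [] (.leaf (nat_lit 5) [])) .one))) (.more (.fuse [nat_lit 8] [nat_lit 0] (.fuse [nat_lit 4] [] (.leaf (nat_lit 6) []))) .one))) .one))) (.more (.split (.more (.split (.more (.fuse [nat_lit 6] [] (.fuse [nat_lit 2] [] (.leaf (nat_lit 1) [nat_lit 5]))) (.more (.fuse [nat_lit 6] [] (.fuse [nat_lit 2] [] (.leaf (nat_lit 5) [nat_lit 0]))) .one))) (.more (.split (.more (.fuse [nat_lit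 6] [] (.fuse [nat_lit 2] [] (.leaf (nat_lit 7) []))) (.more (.fuse [nat_lit 6] [] (.fuse [nat_lit 2] [] (.leaf (nat_lit 1) [nat_lit 0]))) .one))) .one))) .one))) (.more (.fuse [nat_lit 8] [nat_lit 1] (.split (.more (.fuse [nat_lit 6] [nat_lit 0] (.split (.more (.fuse [nat_lit 1] [] (.leaf (nat_lit 5) [nat_lit 0, nat_lit 1, nat_lit 2, nat_lit 3, nat_lit 6])) (.more (.fuse [nat_lit 1] [] (.leaf (nat_lit 2) [nat_lit 1, nat_lit 3, nat_lit 4, nat_lit 5, nat_lit 6, nat_lit 4])) .one)))) (.more (.fuse [nat_lit 6] [nat_lit 0] (.split (.more (.fuse [nat_lit 1] [] (.leaf (nat_lit 7) [nat_lit 0, nat_lit 2, nat_lit 6, nat_lit 4, nat_lit 5])) (.more (.fuse [nat_lit 1] [] (.leaf (nat_lit 2) [nat_lit 1, nat_lit 6, nat_lit 4, nat_lit 0, nat_lit 5])) .one)))) .one)))) .one))) (.more (.split (.more (.fuse [nat_lit 8] [nat_lit 2, nat_lit 3] (.fuse [nat_lit 7] [nat_lit 2] (.fuse [nat_lit 5] [nat_lit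 0] (.fuse [nat_lit 4] [nat_lit 0] (.fuse [nat_lit 1] [] (.prune (nat_lit 0) (nat_lit 1) [])))))) (.more (.split (.more (.fuse [nat_lit 7] [nat_lit 0] (.fuse [nat_lit 5] [] (.fuse [nat_lit 4] [nat_lit 0] (.fuse [nat_lit 2] [] (.leaf (nat_lit 8) []))))) (.more (.fuse [nat_lit 7] [nat_lit 0, nat_lit 1] (.fuse [nat_lit 5] [] (.fuse [nat_lit 4] [nat_lit 0] (.split (.more (.leaf (nat_lit 9) []) (.more (.leaf (nat_lit 10) []) .one)))))) .one))) .one))) .one))) (.more (.split (.more (.split (.more (.split (.more (.fuse [nat_lit 6] [nat_lit 2] (.fuse [nat_lit 5] [] (.fuse [nat_lit 4] [] (.fuse [nat_lit 2] [] (.leaf (nat_lit 11) []))))) (.more (.fuse [nat_lit 6] [nat_lit 0, nat_lit 1, nat_lit 2] (.fuse [nat_lit 5] [] (.fuse [nat_lit 4] [] (.split (.more (.leaf (nat_lit 12) []) (.more (.leaf (nat_lit 13) []) .one)))))) .one))) (.more (.fuse [nat_lit 8] [nat_lit 0, nat_lit 1, nat_lit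 2, nat_lit 3] (.fuse [nat_lit 6] [nat_lit 0] (.fuse [nat_lit 5] [nat_lit 0] (.fuse [nat_lit 4] [] (.fuse [nat_lit 1] [] (.prune (nat_lit 0) (nat_lit 1) [])))))) .one))) (.more (.split (.more (.fuse [nat_lit 8] [nat_lit 0] (.fuse [nat_lit 6] [nat_lit 2] (.split (.more (.split (.more (.fuse [nat_lit 1] [] (.leaf (nat_lit 6) [nat_lit 0, nat_lit 1, nat_lit 2, nat_lit 4, nat_lit 6, nat_lit 4])) (.more (.fuse [nat_lit 1] [] (.leaf (nat_lit 1) [nat_lit 0, nat_lit 2, nat_lit 5, nat_lit 6, nat_lit 4, nat_lit 0, nat_lit 6])) .one))) (.more (.split (.more (.fuse [nat_lit 1] [] (.leaf (nat_lit 2) [nat_lit 0, nat_lit 2, nat_lit 6, nat_lit 4, nat_lit 6])) (.more (.fuse [nat_lit 1] [] (.leaf (nat_lit 7) [nat_lit 1, nat_lit 2, nat_lit 4, nat_lit 6, nat_lit 4, nat_lit 0, nat_lit 5, nat_lit 6])) .one))) .one))))) (.more (.split (.more (.fuse [nat_lit 6] [nat_lit 0] (.split (.more (.fuse [nat_lit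 8] [] (.fuse [nat_lit 4] [] (.leaf (nat_lit 2) [nat_lit 0, nat_lit 1, nat_lit 2, nat_lit 4, nat_lit 6]))) (.more (.split (.more (.fuse [nat_lit 5] [] (.leaf (nat_lit 7) [nat_lit 0, nat_lit 2, nat_lit 3, nat_lit 4, nat_lit 6, nat_lit 4, nat_lit 0, nat_lit 6, nat_lit 5])) (.more (.split (.more (.leaf (nat_lit 4) [nat_lit 5]) (.more (.leaf (nat_lit 3) [nat_lit 5]) .one))) .one))) .one)))) (.more (.fuse [nat_lit 6] [nat_lit 0, nat_lit 1] (.split (.more (.fuse [nat_lit 8] [] (.fuse [nat_lit 2] [] (.leaf (nat_lit 7) [nat_lit 6, nat_lit 4, nat_lit 0, nat_lit 5, nat_lit 6, nat_lit 5]))) (.more (.split (.more (.fuse [nat_lit 2] [] (.leaf (nat_lit 7) [nat_lit 6, nat_lit 5])) (.more (.fuse [nat_lit 2] [] (.leaf (nat_lit 5) [nat_lit 1, nat_lit 4, nat_lit 6, nat_lit 4, nat_lit 5])) .one))) .one)))) .one))) .one))) .one))) .one))) (.more (.split (.more (.split (.more (.split (.more (.fuse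 [nat_lit 5] [nat_lit 0, nat_lit 1] (.fuse [nat_lit 5, nat_lit 6] [nat_lit 2] (.split (.more (.fuse [nat_lit 2] [] (.fuse [nat_lit 1] [] (.leaf (nat_lit 14) []))) (.more (.fuse [nat_lit 2] [] (.fuse [nat_lit 1] [] (.leaf (nat_lit 15) []))) .one))))) (.more (.fuse [nat_lit 5] [nat_lit 0, nat_lit 1] (.fuse [nat_lit 5, nat_lit 6] [nat_lit 0] (.split (.more (.fuse [nat_lit 2] [] (.fuse [nat_lit 4] [] (.leaf (nat_lit 15) [nat_lit 6]))) (.more (.fuse [nat_lit 2] [] (.split (.more (.leaf (nat_lit 16) []) (.more (.leaf (nat_lit 17) []) .one)))) .one))))) .one))) (.more (.split (.more (.fuse [nat_lit 5] [nat_lit 2] (.fuse [nat_lit 5, nat_lit 6] [] (.split (.more (.fuse [nat_lit 2] [nat_lit 0] (.split (.more (.leaf (nat_lit 18) []) (.more (.leaf (nat_lit 19) []) .one)))) (.more (.fuse [nat_lit 2] [nat_lit 0] (.fuse [nat_lit 2, nat_lit 4] [] (.leaf (nat_lit 20) []))) .one))))) (.more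 (.fuse [nat_lit 5] [nat_lit 2] (.fuse [nat_lit 5, nat_lit 6] [nat_lit 0, nat_lit 2] (.fuse [nat_lit 7] [nat_lit 0, nat_lit 1] (.fuse [nat_lit 2] [nat_lit 0] (.fuse [nat_lit 1] [] (.leaf (nat_lit 21) [])))))) .one))) .one))) (.more (.split (.more (.split (.more (.fuse [nat_lit 5] [nat_lit 0, nat_lit 2] (.fuse [nat_lit 7] [nat_lit 1, nat_lit 2] (.fuse [nat_lit 5, nat_lit 6] [] (.fuse [nat_lit 2] [nat_lit 0] (.fuse [nat_lit 1] [] (.leaf (nat_lit 20) [nat_lit 0, nat_lit 1, nat_lit 3, nat_lit 4, nat_lit 6, nat_lit 4, nat_lit 5, nat_lit 6, nat_lit 4, nat_lit 0])))))) (.more (.fuse [nat_lit 5] [nat_lit 0, nat_lit 2] (.fuse [nat_lit 7] [nat_lit 1] (.split (.more (.fuse [nat_lit 2] [nat_lit 0] (.fuse [nat_lit 2, nat_lit 4] [] (.leaf (nat_lit 21) [nat_lit 0, nat_lit 1, nat_lit 5, nat_lit 6, nat_lit 5]))) (.more (.fuse [nat_lit 2] [nat_lit 0] (.split (.more (.leaf (nat_lit 22) []) (.more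 (.leaf (nat_lit 23) []) .one)))) .one))))) .one))) (.more (.split (.more (.fuse [nat_lit 5] [nat_lit 1] (.split (.more (.split (.more (.fuse [nat_lit 2] [] (.split (.more (.leaf (nat_lit 24) []) (.more (.leaf (nat_lit 25) []) .one)))) (.more (.fuse [nat_lit 2] [] (.fuse [nat_lit 4] [] (.leaf (nat_lit 26) []))) .one))) (.more (.split (.more (.fuse [nat_lit 2] [] (.split (.more (.leaf (nat_lit 16) [nat_lit 1, nat_lit 4, nat_lit 5, nat_lit 6]) (.more (.leaf (nat_lit 17) [nat_lit 2, nat_lit 3, nat_lit 6, nat_lit 4, nat_lit 5, nat_lit 6, nat_lit 5]) .one)))) (.more (.fuse [nat_lit 2] [] (.fuse [nat_lit 4] [] (.leaf (nat_lit 14) [nat_lit 0, nat_lit 1, nat_lit 4, nat_lit 6, nat_lit 4, nat_lit 0, nat_lit 6, nat_lit 5]))) .one))) .one)))) (.more (.fuse [nat_lit 5] [nat_lit 1] (.split (.more (.fuse [nat_lit 5, nat_lit 6] [nat_lit 0] (.fuse [nat_lit 2] [] (.fuse [nat_lit 1] [] (.leaf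 (nat_lit 26) [nat_lit 0, nat_lit 2, nat_lit 4, nat_lit 0, nat_lit 6, nat_lit 4, nat_lit 0, nat_lit 6, nat_lit 4, nat_lit 6])))) (.more (.fuse [nat_lit 5, nat_lit 6] [nat_lit 0] (.fuse [nat_lit 2] [] (.fuse [nat_lit 1] [] (.leaf (nat_lit 15) [nat_lit 0, nat_lit 2, nat_lit 4, nat_lit 0, nat_lit 6, nat_lit 4, nat_lit 0, nat_lit 6, nat_lit 5])))) .one)))) .one))) .one))) .one))) .one)))
noncomputable def Hb : List (List ℕ) := [[],
  [],
  [],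
  [nat_lit 3, nat_lit 1, nat_lit 2, nat_lit 0, nat_lit 3, nat_lit 2, nat_lit 5, nat_lit 4, nat_lit 3, nat_lit 1, nat_lit 2, nat_lit 0, nat_lit 3, nat_lit 2, nat_lit 4, nat_lit 3, nat_lit 6, nat_lit 5, nat_lit 4, nat_lit 3],
  [nat_lit 0, nat_lit 2],
  [nat_lit 2, nat_lit 0, nat_lit 3, nat_lit 2, nat_lit 0, nat_lit 4, nat_lit 3, nat_lit 2, nat_lit 5, nat_lit 4, nat_lit 3, nat_lit 1, nat_lit 2, nat_lit 0, nat_lit 3, nat_lit 2, nat_lit 4, nat_lit 6, nat_lit 5, nat_lit 4, nat_lit 3],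
  [],
  [nat_lit 0, nat_lit 2, nat_lit 3, nat_lit 1, nat_lit 2, nat_lit 0, nat_lit 3, nat_lit 2, nat_lit 4, nat_lit 5, nat_lit 4, nat_lit 3, nat_lit 1, nat_lit 6, nat_lit 5, nat_lit 4, nat_lit 3],
  [],
  [nat_lit 3, nat_lit 1, nat_lit 2, nat_lit 0, nat_lit 3, nat_lit 2, nat_lit 5, nat_lit 4, nat_lit 3, nat_lit 1, nat_lit 6, nat_lit 5, nat_lit 4, nat_lit 3],
  [nat_lit 0, nat_lit 2],
  [nat_lit 2, nat_lit 0, nat_lit 3, nat_lit 1, nat_lit 2, nat_lit 0, nat_lit 3, nat_lit 4, nat_lit 5, nat_lit 4, nat_lit 3, nat_lit 1, nat_lit 2, nat_lit 3, nat_lit 6, nat_lit 5, nat_lit 4, nat_lit 3, nat_lit 1, nat_lit 2, nat_lit 3],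
  [nat_lit 0, nat_lit 2],
  [nat_lit 0, nat_lit 2, nat_lit 0, nat_lit 3, nat_lit 2, nat_lit 0, nat_lit 4, nat_lit 3, nat_lit 2, nat_lit 5, nat_lit 4, nat_lit 3, nat_lit 1, nat_lit 2, nat_lit 0, nat_lit 3, nat_lit 2, nat_lit 6, nat_lit 5, nat_lit 4, nat_lit 3],
  [nat_lit 0, nat_lit 2],
  [nat_lit 0, nat_lit 2, nat_lit 0, nat_lit 3, nat_lit 2, nat_lit 4, nat_lit 3, nat_lit 6, nat_lit 5, nat_lit 4, nat_lit 3, nat_lit 1, nat_lit 2, nat_lit 0, nat_lit 3, nat_lit 2, nat_lit 4, nat_lit 3, nat_lit 1, nat_lit 5, nat_lit 4, nat_lit 3, nat_lit 6],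
  [nat_lit 2, nat_lit 6, nat_lit 4, nat_lit 5, nat_lit 6, nat_lit 4],
  [nat_lit 0, nat_lit 4, nat_lit 3, nat_lit 1, nat_lit 2, nat_lit 0, nat_lit 3, nat_lit 2, nat_lit 5, nat_lit 4, nat_lit 3, nat_lit 1, nat_lit 6, nat_lit 5, nat_lit 4, nat_lit 3, nat_lit 1],
  [nat_lit 2, nat_lit 6, nat_lit 4, nat_lit 5, nat_lit 6, nat_lit 4],
  [nat_lit 2, nat_lit 4, nat_lit 3, nat_lit 1, nat_lit 2, nat_lit 0, nat_lit 3, nat_lit 2, nat_lit 4, nat_lit 3, nat_lit 1, nat_lit 5, nat_lit 4, nat_lit 3, nat_lit 1, nat_lit 6, nat_lit 5, nat_lit 4, nat_lit 3, nat_lit 1],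
  [nat_lit 2, nat_lit 6, nat_lit 4, nat_lit 5, nat_lit 6, nat_lit 4],
  [nat_lit 2, nat_lit 3, nat_lit 1, nat_lit 2, nat_lit 0, nat_lit 3, nat_lit 2, nat_lit 4, nat_lit 5, nat_lit 4, nat_lit 3, nat_lit 1, nat_lit 6, nat_lit 5, nat_lit 4, nat_lit 3],
  [nat_lit 2, nat_lit 3, nat_lit 6, nat_lit 4, nat_lit 5, nat_lit 6],
  [nat_lit 0, nat_lit 4, nat_lit 3, nat_lit 1, nat_lit 2, nat_lit 0, nat_lit 3, nat_lit 2, nat_lit 5, nat_lit 4, nat_lit 3, nat_lit 1, nat_lit 6, nat_lit 5, nat_lit 4, nat_lit 3],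
  [nat_lit 2, nat_lit 3, nat_lit 6, nat_lit 4, nat_lit 5, nat_lit 6],
  [nat_lit 2, nat_lit 0, nat_lit 3, nat_lit 1, nat_lit 2, nat_lit 0, nat_lit 3, nat_lit 2, nat_lit 4, nat_lit 3, nat_lit 5, nat_lit 4, nat_lit 3, nat_lit 1, nat_lit 6, nat_lit 5, nat_lit 4, nat_lit 3],
  [nat_lit 2, nat_lit 3, nat_lit 6, nat_lit 4, nat_lit 5, nat_lit 6],
  [nat_lit 0, nat_lit 2, nat_lit 0, nat_lit 3, nat_lit 1, nat_lit 2, nat_lit 0, nat_lit 3, nat_lit 2, nat_lit 5, nat_lit 4, nat_lit 3, nat_lit 1, nat_lit 6, nat_lit 5, nat_lit 4, nat_lit 3],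
  [nat_lit 2, nat_lit 5, nat_lit 6, nat_lit 4, nat_lit 6],
  [nat_lit 2, nat_lit 3, nat_lit 2, nat_lit 0, nat_lit 4, nat_lit 3, nat_lit 1, nat_lit 2, nat_lit 0, nat_lit 3, nat_lit 4, nat_lit 5, nat_lit 4, nat_lit 6, nat_lit 5, nat_lit 4, nat_lit 3, nat_lit 1, nat_lit 2, nat_lit 0, nat_lit 3, nat_lit 2, nat_lit 4, nat_lit 3, nat_lit 1],
  [nat_lit 2, nat_lit 5, nat_lit 6, nat_lit 4, nat_lit 6],
  [nat_lit 1, nat_lit 2, nat_lit 3, nat_lit 2, nat_lit 0, nat_lit 4, nat_lit 3, nat_lit 2, nat_lit 5, nat_lit 4, nat_lit 3, nat_lit 1, nat_lit 6, nat_lit 5, nat_lit 4, nat_lit 3],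
  [],
  [nat_lit 0, nat_lit 2, nat_lit 0, nat_lit 3, nat_lit 1, nat_lit 5, nat_lit 4, nat_lit 3, nat_lit 1, nat_lit 6, nat_lit 5, nat_lit 4, nat_lit 3],
  [],
  [nat_lit 0, nat_lit 1, nat_lit 2, nat_lit 5, nat_lit 4, nat_lit 3, nat_lit 2, nat_lit 0, nat_lit 6, nat_lit 5, nat_lit 4, nat_lit 3, nat_lit 1, nat_lit 2, nat_lit 3, nat_lit 4, nat_lit 5],
  [nat_lit 0, nat_lit 2],
  [nat_lit 2, nat_lit 0, nat_lit 4, nat_lit 3, nat_lit 1, nat_lit 2, nat_lit 0, nat_lit 3, nat_lit 2, nat_lit 4, nat_lit 5, nat_lit 4, nat_lit 3, nat_lit 1, nat_lit 2, nat_lit 0, nat_lit 3, nat_lit 2, nat_lit 6, nat_lit 5, nat_lit 4, nat_lit 3],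
  [nat_lit 0, nat_lit 2],
  [nat_lit 2, nat_lit 0, nat_lit 4, nat_lit 3, nat_lit 1, nat_lit 2, nat_lit 0, nat_lit 3, nat_lit 2, nat_lit 5, nat_lit 4, nat_lit 3, nat_lit 1, nat_lit 2, nat_lit 0, nat_lit 3, nat_lit 2, nat_lit 4, nat_lit 6, nat_lit 5, nat_lit 4, nat_lit 3],
  [nat_lit 2, nat_lit 4, nat_lit 0],
  [nat_lit 1, nat_lit 3, nat_lit 2, nat_lit 0, nat_lit 4, nat_lit 3, nat_lit 1, nat_lit 2, nat_lit 3, nat_lit 5, nat_lit 4, nat_lit 3, nat_lit 1, nat_lit 2, nat_lit 0, nat_lit 3, nat_lit 2, nat_lit 4, nat_lit 6, nat_lit 5, nat_lit 4, nat_lit 3],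
  [nat_lit 0, nat_lit 3, nat_lit 6, nat_lit 4, nat_lit 5, nat_lit 6],
  [nat_lit 3, nat_lit 2, nat_lit 0, nat_lit 4, nat_lit 3, nat_lit 1, nat_lit 2, nat_lit 3, nat_lit 5, nat_lit 4, nat_lit 3, nat_lit 1, nat_lit 2, nat_lit 0, nat_lit 3, nat_lit 2, nat_lit 4, nat_lit 6, nat_lit 5, nat_lit 4, nat_lit 3, nat_lit 1],
  [],
  [nat_lit 4, nat_lit 3, nat_lit 1, nat_lit 2, nat_lit 0, nat_lit 3, nat_lit 2, nat_lit 4, nat_lit 3, nat_lit 1, nat_lit 5, nat_lit 4, nat_lit 3, nat_lit 1, nat_lit 2, nat_lit 3, nat_lit 4, nat_lit 6, nat_lit 5, nat_lit 4, nat_lit 3],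
  [],
  [nat_lit 2, nat_lit 3, nat_lit 1, nat_lit 2, nat_lit 0, nat_lit 3, nat_lit 2, nat_lit 4, nat_lit 3, nat_lit 1, nat_lit 5, nat_lit 4, nat_lit 3, nat_lit 1, nat_lit 2, nat_lit 6, nat_lit 5, nat_lit 4, nat_lit 3],
  [nat_lit 4, nat_lit 5, nat_lit 6],
  [nat_lit 1, nat_lit 3, nat_lit 1, nat_lit 2, nat_lit 0, nat_lit 3, nat_lit 2, nat_lit 5, nat_lit 4, nat_lit 6, nat_lit 5, nat_lit 4, nat_lit 3, nat_lit 1, nat_lit 2, nat_lit 0, nat_lit 3, nat_lit 2, nat_lit 4, nat_lit 3, nat_lit 1],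
  [nat_lit 4, nat_lit 5, nat_lit 6],
  [nat_lit 2, nat_lit 3, nat_lit 1, nat_lit 2, nat_lit 0, nat_lit 3, nat_lit 5, nat_lit 4, nat_lit 3, nat_lit 1, nat_lit 2, nat_lit 3, nat_lit 6, nat_lit 5, nat_lit 4, nat_lit 3, nat_lit 1, nat_lit 2, nat_lit 0, nat_lit 3, nat_lit 4],
  [nat_lit 2, nat_lit 6, nat_lit 4, nat_lit 5, nat_lit 6, nat_lit 4],
  [nat_lit 3, nat_lit 1, nat_lit 2, nat_lit 0, nat_lit 3, nat_lit 5, nat_lit 4, nat_lit 3, nat_lit 1, nat_lit 2, nat_lit 3, nat_lit 4, nat_lit 6, nat_lit 5, nat_lit 4, nat_lit 3, nat_lit 1, nat_lit 2, nat_lit 3, nat_lit 4]]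
noncomputable def L_W : List (List ℕ) := [[nat_lit 2, nat_lit 3],
  [nat_lit 3, nat_lit 2],
  [nat_lit 0, nat_lit 2],
  [nat_lit 2, nat_lit 0],
  [nat_lit 1, nat_lit 3],
  [nat_lit 3, nat_lit 1],
  [nat_lit 3, nat_lit 4],
  [nat_lit 4, nat_lit 3],
  [nat_lit 4, nat_lit 5],
  [nat_lit 5, nat_lit 4],
  [nat_lit 5, nat_lit 6],
  [nat_lit 6, nat_lit 5]]
noncomputable def L_Pd : List ℕ := [nat_lit 0x505d5954575a5e53565b5f52515c58558c8185888b86828f8a87838e8d808489c8c5c1cccfc2c6cbcec3c7cac9c4c0cd14191d10131e1a17121f1b1615181c11232e2a2724292d2025282c21222f2b26fff2f6fbf8f5f1fcf9f4f0fdfef3f7fabbb6b2bfbcb1b5b8bdb0b4b9bab7b3be676a6e63606d6964616c6865666b6f62323f3b3635383c3134393d30333e3a37eee3e7eae9e4e0ede8e5e1ecefe2e6ebaaa7a3aeada0a4a9aca1a5a8aba6a2af767b7f72717c7875707d7974777a7e73414c4845464b4f42474a4e43404d49449d9094999a97939e9b96929f9c919598d9d4d0ddded3d7dadfd2d6dbd8d5d1dc05080c01020f0b06030e0a0704090d00,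
  nat_lit 0xafa3a4a8aca0a7aba1adaaa6a2aea9a5636f6864606c6b676d61666a6e626569171b1c1014181f131915121e1a16111ddbd7d0dcd8d4d3dfd5d9ded2d6daddd19c90979b9f939498929e9995919d9a96505c5b57535f58545e5255595d51565a24282f23272b2c202a26212d2925222ee8e4e3efebe7e0ece6eaede1e5e9eee24d41464a4e424549434f4844404c4b47818d8a86828e89858f8384888c80878bf5f9fef2f6fafdf1fbf7f0fcf8f4f3ff3935323e3a36313d373b3c3034383f337e7275797d71767a707c7b77737f7874b2beb9b5b1bdbab6bcb0b7bbbfb3b4b8c6cacdc1c5c9cec2c8c4c3cfcbc7c0cc0a06010d0905020e04080f03070b0c00,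
  nat_lit 0xaaa9aba8a6a5a7a4aeadafaca2a1a3a09a999b98969597949e9d9f9c92919390bab9bbb8b6b5b7b4bebdbfbcb2b1b3b08a898b88868587848e8d8f8c828183806a696b68666567646e6d6f6c626163605a595b58565557545e5d5f5c525153507a797b78767577747e7d7f7c727173704a494b48464547444e4d4f4c42414340eae9ebe8e6e5e7e4eeedefece2e1e3e0dad9dbd8d6d5d7d4dedddfdcd2d1d3d0faf9fbf8f6f5f7f4fefdfffcf2f1f3f0cac9cbc8c6c5c7c4cecdcfccc2c1c3c02a292b28262527242e2d2f2c222123201a191b18161517141e1d1f1c121113103a393b38363537343e3d3f3c323133300a090b08060507040e0d0f0c02010300,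
  nat_lit 0x555756545d5f5e5c595b5a5851535250757776747d7f7e7c797b7a7871737270656766646d6f6e6c696b6a6861636260454746444d4f4e4c494b4a4841434240d5d7d6d4dddfdedcd9dbdad8d1d3d2d0f5f7f6f4fdfffefcf9fbfaf8f1f3f2f0e5e7e6e4edefeeece9ebeae8e1e3e2e0c5c7c6c4cdcfceccc9cbcac8c1c3c2c0959796949d9f9e9c999b9a9891939290b5b7b6b4bdbfbebcb9bbbab8b1b3b2b0a5a7a6a4adafaeaca9abaaa8a1a3a2a0858786848d8f8e8c898b8a8881838280151716141d1f1e1c191b1a1811131210353736343d3f3e3c393b3a3831333230252726242d2f2e2c292b2a2821232220050706040d0f0e0c090b0a0801030200,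
  nat_lit 0x504c362a160a706cc6daa0bc809ce6fa9d81fbe7dbc7bda10b176d714d512b37766a100c302c564ae0fc869aa6bac0dcbba7ddc1fde19b872d314b576b770d11322e54487468120ea4b8c2dee2fe8498ffe39985b9a5dfc369750f132f3349551408726e524e3428829ee4f8c4d8a2bed9c5bfa39f83f9e54f53293509156f73233f45596579031fb5a9d3cff3ef9589eef28894a8b4ced278641e023e2258440519637f435f2539938ff5e9d5c9b3afc8d4aeb28e92e8f45e42382418047e62415d273b071b617dd7cbb1ad918df7eb8c90eaf6cad6acb01a067c605c403a26677b011d213d475bf1ed978bb7abd1cdaab6ccd0ecf08a963c205a467a661c00,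
  nat_lit 0xafb2cbd6edf08994312c5548736e170a726f160b302d5449ecf18895aeb3cad7a9b4cdd0ebf68f92372a534e7568110c7469100d362b524feaf78e93a8b5ccd18d90e9f4cfd2abb6130e776a514c3528504d3429120f766bced3aab78c91e8f58b96eff2c9d4adb01508716c574a332e564b322f1409706dc8d5acb18a97eef35c4138251e037a67c2dfa6bb809de4f9819ce5f8c3dea7ba1f027b665d4039245a473e2318057c61c4d9a0bd869be2ff879ae3fec5d8a1bc19047d605b463f227e631a073c215845e0fd8499a2bfc6dba3bec7dae1fc85983d2059447f621b0678651c013a275e43e6fb829fa4b9c0dda5b8c1dce7fa839e3b265f4279641d00,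
  nat_lit 0xd1d9ded6d2daddd5d8d0d7dfdbd3d4dc5850575f5b53545c51595e56525a5d552b23242c2820272f222a2d2521292e26a2aaada5a1a9aea6aba3a4aca8a0a7afe6eee9e1e5edeae2efe7e0e8ece4e3eb6f6760686c64636b666e6961656d6a621c14131b1f171018151d1a12161e1911959d9a92969e99919c94939b9f9790984941464e4a42454d40484f47434b4c44c0c8cfc7c3cbccc4c9c1c6cecac2c5cdb3bbbcb4b0b8bfb7bab2b5bdb9b1b6be3a32353d3931363e333b3c3430383f377e7671797d75727a777f7870747c7b73f7fff8f0f4fcfbf3fef6f1f9fdf5f2fa848c8b83878f88808d85828a8e8681890d05020a0e060109040c0b03070f0800,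
  nat_lit 0x2e27232a2920242d2f26222b2821252cb7bebab3b0b9bdb4b6bfbbb2b1b8bcb5f4fdf9f0f3fafef7f5fcf8f1f2fbfff66d6460696a63676e6c6561686b62666f5950545d5e57535a5851555c5f56525bc0c9cdc4c7cecac3c1c8ccc5c6cfcbc2838a8e87848d8980828b8f86858c88811a13171e1d1410191b12161f1c151118363f3b3231383c35373e3a3330393d34afa6a2aba8a1a5acaea7a3aaa9a0a4adece5e1e8ebe2e6efede4e0e9eae3e7ee757c7871727b7f76747d7970737a7e7741484c45464f4b4240494d44474e4a43d8d1d5dcdfd6d2dbd9d0d4ddded7d3da9b92969f9c9591989a93979e9d949099020b0f06050c0801030a0e07040d0900,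
  nat_lit 0x909293919c9e9f9d94969795989a9b99bcbebfbdb0b2b3b1b8babbb9b4b6b7b5a4a6a7a5a8aaaba9a0a2a3a1acaeafad888a8b89848687858c8e8f8d80828381525051535e5c5d5f565455575a58595b7e7c7d7f727071737a78797b76747577666465676a68696b626061636e6c6d6f4a48494b464445474e4c4d4f42404143d3d1d0d2dfdddcded7d5d4d6dbd9d8dafffdfcfef3f1f0f2fbf9f8faf7f5f4f6e7e5e4e6ebe9e8eae3e1e0e2efedeceecbc9c8cac7c5c4c6cfcdcccec3c1c0c2111312101d1f1e1c15171614191b1a183d3f3e3c31333230393b3a383537363425272624292b2a28212322202d2f2e2c090b0a08050706040d0f0e0c01030200,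
  nat_lit 0x6f6c6e6d67646665636062616b686a69535052515b585a595f5c5e5d575456557b787a7973707271777476757f7c7e7d474446454f4c4e4d4b484a4943404241edeeecefe5e6e4e7e1e2e0e3e9eae8ebd1d2d0d3d9dad8dbdddedcdfd5d6d4d7f9faf8fbf1f2f0f3f5f6f4f7fdfefcffc5c6c4c7cdcecccfc9cac8cbc1c2c0c3acafadaea4a7a5a6a0a3a1a2a8aba9aa90939192989b999a9c9f9d9e94979596b8bbb9bab0b3b1b2b4b7b5b6bcbfbdbe848785868c8f8d8e888b898a808381822e2d2f2c26252724222123202a292b28121113101a191b181e1d1f1c161517143a393b3832313330363537343e3d3f3c060507040e0d0f0c0a090b0802010300,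
  nat_lit 0xc0854a0fd4915e1be8ad6227fcb97633c4814e0bd0955a1feca96623f8bd7237c88d4207dc995613e0a56a2ff4b17e3bcc894603d89d5217e4a16e2bf0b57a3fd5905f1ac1844b0efdb87732e9ac6326d1945b1ec5804f0af9bc7336eda86722dd985712c98c4306f5b07f3ae1a46b2ed99c5316cd884702f1b47b3ee5a06f2aeaaf6025febb7431c287480dd6935c19eeab6421fabf7035c6834c09d297581de2a7682df6b37c39ca8f4005de9b5411e6a36c29f2b7783dce8b4401da9f5015ffba7530ebae6124d7925d18c386490cfbbe7134efaa6520d396591cc7824d08f7b27d38e3a6692cdf9a5510cb8e4104f3b6793ce7a26d28db9e5114cf8a4500,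
  nat_lit 0x3f7bb7f32f6ba7e31f5b97d30f4b87c32b6fa3e73b7fb3f70b4f83c71b5f93d717539fdb07438fcb3773bffb2763afeb03478bcf13579bdf2367abef3377bbff6a2ee2a67a3ef2b64a0ec2865a1ed2967e3af6b26e2ae6a25e1ad6924e0ac6824206ca8e5216da9e6226eaae7236fabe5612de9a4602ce8a7632feba6622eeaa95d11d5985c10d49b5f13d79a5e12d6981c5094d91d5195da1e5296db1f5397dbdf93571ade925619dd915518dc90541a9ed2165b9fd317589cd014599dd1155c084480cd094581ce0a4682cf0b4783cd4905c18c4804c08f4b07c38e4a06c28e8ac6024f8bc7034c88c4004d89c5014fcb87430eca86420dc985410cc884400]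
noncomputable def L_P (k u : ℕ) : ℕ := Nat.land (Nat.shiftRight (nth (nat_lit 0) L_Pd k) (Nat.mul u (nat_lit 8))) (nat_lit 255)
noncomputable def R0 : List (List ℕ) := [[nat_lit 0, nat_lit 1],
  [nat_lit 1, nat_lit 0],
  [nat_lit 2, nat_lit 3],
  [nat_lit 3, nat_lit 2],
  [nat_lit 4, nat_lit 5],
  [nat_lit 5, nat_lit 4],
  [nat_lit 6, nat_lit 7],
  [nat_lit 7, nat_lit 6],
  [nat_lit 8, nat_lit 9],
  [nat_lit 9, nat_lit 8],
  [nat_lit 10, nat_lit 11],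
  [nat_lit 11, nat_lit 10],
  [nat_lit 0, nat_lit 0, nat_lit 0],
  [nat_lit 2, nat_lit 2, nat_lit 2],
  [nat_lit 4, nat_lit 4, nat_lit 4],
  [nat_lit 6, nat_lit 6, nat_lit 6],
  [nat_lit 8, nat_lit 8, nat_lit 8],
  [nat_lit 10, nat_lit 10, nat_lit 10]]
noncomputable def PP : List (List ℕ) := [[nat_lit 2, nat_lit 0],
  [nat_lit 4, nat_lit 1],
  [nat_lit 2, nat_lit 0, nat_lit 5],
  [nat_lit 4, nat_lit 6],
  [nat_lit 0, nat_lit 6],
  [nat_lit 2, nat_lit 0, nat_lit 6],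
  [nat_lit 6, nat_lit 8],
  [nat_lit 4, nat_lit 6, nat_lit 8],
  [nat_lit 0, nat_lit 6, nat_lit 8],
  [nat_lit 2, nat_lit 0, nat_lit 6, nat_lit 8],
  [nat_lit 8, nat_lit 10],
  [nat_lit 6, nat_lit 8, nat_lit 10],
  [nat_lit 4, nat_lit 6, nat_lit 8, nat_lit 10],
  [nat_lit 0, nat_lit 6, nat_lit 8, nat_lit 10],
  [nat_lit 2, nat_lit 0, nat_lit 6, nat_lit 8, nat_lit 10]]
noncomputable def RE : List (List ℕ) := R0 ++ PP.map (rp 2)
noncomputable def HP : List (List ℕ) := [[nat_lit 1, nat_lit 3, nat_lit 1, nat_lit 6, nat_lit 5, nat_lit 4],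
  [nat_lit 0, nat_lit 1, nat_lit 2],
  [nat_lit 0, nat_lit 4, nat_lit 5, nat_lit 4, nat_lit 6, nat_lit 5],
  [nat_lit 2, nat_lit 0, nat_lit 6, nat_lit 5, nat_lit 4, nat_lit 3, nat_lit 1, nat_lit 2, nat_lit 0, nat_lit 3, nat_lit 2, nat_lit 4, nat_lit 3, nat_lit 1, nat_lit 5, nat_lit 4, nat_lit 3, nat_lit 6],
  [nat_lit 0, nat_lit 2, nat_lit 0, nat_lit 3, nat_lit 1, nat_lit 4, nat_lit 3, nat_lit 1, nat_lit 5, nat_lit 4, nat_lit 6],
  [nat_lit 1, nat_lit 3, nat_lit 1, nat_lit 4, nat_lit 3, nat_lit 1, nat_lit 6],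
  [nat_lit 0, nat_lit 2, nat_lit 0, nat_lit 3, nat_lit 1, nat_lit 2, nat_lit 4, nat_lit 3, nat_lit 1, nat_lit 5, nat_lit 4, nat_lit 3, nat_lit 6, nat_lit 5],
  [nat_lit 1, nat_lit 3, nat_lit 1, nat_lit 2, nat_lit 0, nat_lit 3, nat_lit 2, nat_lit 4, nat_lit 3, nat_lit 1, nat_lit 5, nat_lit 4, nat_lit 3, nat_lit 6, nat_lit 5, nat_lit 4],
  [nat_lit 0, nat_lit 1, nat_lit 2, nat_lit 0, nat_lit 3, nat_lit 4, nat_lit 3, nat_lit 1, nat_lit 5, nat_lit 4, nat_lit 3, nat_lit 1],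
  [nat_lit 1, nat_lit 4, nat_lit 3, nat_lit 1, nat_lit 5, nat_lit 4, nat_lit 3, nat_lit 1, nat_lit 6, nat_lit 5],
  [nat_lit 0, nat_lit 1, nat_lit 3, nat_lit 2, nat_lit 0, nat_lit 4, nat_lit 3, nat_lit 2, nat_lit 5, nat_lit 4, nat_lit 3, nat_lit 1, nat_lit 6, nat_lit 5, nat_lit 4, nat_lit 3],
  [nat_lit 0, nat_lit 2, nat_lit 0, nat_lit 3, nat_lit 1, nat_lit 2, nat_lit 4, nat_lit 3, nat_lit 5, nat_lit 4, nat_lit 3, nat_lit 1, nat_lit 6, nat_lit 5, nat_lit 4, nat_lit 3],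
  [nat_lit 0, nat_lit 3, nat_lit 1, nat_lit 2, nat_lit 0, nat_lit 3, nat_lit 2, nat_lit 4, nat_lit 3, nat_lit 5, nat_lit 4, nat_lit 3, nat_lit 1, nat_lit 6, nat_lit 5, nat_lit 4, nat_lit 3],
  [nat_lit 0, nat_lit 2, nat_lit 3, nat_lit 5, nat_lit 4, nat_lit 3, nat_lit 1, nat_lit 6, nat_lit 5, nat_lit 4, nat_lit 3, nat_lit 1],
  [nat_lit 1, nat_lit 4, nat_lit 5, nat_lit 4, nat_lit 3, nat_lit 1, nat_lit 6, nat_lit 5, nat_lit 4, nat_lit 3]]
noncomputable def TE2d : List ℕ := [nat_lit 0x30d1,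
  nat_lit 0x2592]
noncomputable def TE2 (k u : ℕ) : ℕ := Nat.land (Nat.shiftRight (nth (nat_lit 0) TE2d k) (Nat.mul u (nat_lit 5))) (nat_lit 31)
noncomputable def IE2d : List ℕ := [nat_lit 1,
  nat_lit 0x24]
noncomputable def IE2 (k u : ℕ) : ℕ := Nat.land (Nat.shiftRight (nth (nat_lit 0) IE2d k) (Nat.mul u (nat_lit 2))) (nat_lit 3)
noncomputable def DE2d : ℕ := nat_lit 0x980
noncomputable def DE2 (u : ℕ) : ℕ := Nat.land (Nat.shiftRight DE2d (Nat.mul u (nat_lit 4))) (nat_lit 15)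
noncomputable def EE2 (_ : ℕ) : ℕ := nat_lit 0
noncomputable def JE2 (_ : ℕ) : ℕ := nat_lit 0
noncomputable def WE2 (_ : ℕ) : ℕ := nat_lit 0
noncomputable def RLE2 : List (List Rule) := [[.rel (nat_lit 0) (nat_lit 0) [nat_lit 1], .defn],
  [.defn, .rel (nat_lit 0) (nat_lit 1) [nat_lit 0], .rel (nat_lit 25) (nat_lit 0) [nat_lit 1, nat_lit 1]]]
noncomputable def cE2 : TCert2 := ⟨3, 3, 3, 2, 3, 7, 0, TE2, IE2, DE2, EE2, JE2, WE2, [], RLE2⟩
noncomputable def TE4d : List ℕ := [nat_lit 0xaadd8,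
  nat_lit 0x74778,
  nat_lit 0x3d1d9,
  nat_lit 0x5c69a]
noncomputable def TE4 (k u : ℕ) : ℕ := Nat.land (Nat.shiftRight (nth (nat_lit 0) TE4d k) (Nat.mul u (nat_lit 5))) (nat_lit 31)
noncomputable def IE4d : List ℕ := [nat_lit 1,
  nat_lit 0xb4,
  nat_lit 1,
  nat_lit 0xe4]
noncomputable def IE4 (k u : ℕ) : ℕ := Nat.land (Nat.shiftRight (nth (nat_lit 0) IE4d k) (Nat.mul u (nat_lit 2))) (nat_lit 3)
noncomputable def DE4d : ℕ := nat_lit 0x8a8d100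
noncomputable def DE4 (u : ℕ) : ℕ := Nat.land (Nat.shiftRight DE4d (Nat.mul u (nat_lit 7))) (nat_lit 127)
noncomputable def EE4 (_ : ℕ) : ℕ := nat_lit 0
noncomputable def JE4 (_ : ℕ) : ℕ := nat_lit 0
noncomputable def WE4 (_ : ℕ) : ℕ := nat_lit 0
noncomputable def RLE4 : List (List Rule) := [[.rel (nat_lit 0) (nat_lit 0) [nat_lit 1], .sub (nat_lit 0) [] []],
  [.sub (nat_lit 2) [] [], .defn, .rel (nat_lit 25) (nat_lit 0) [nat_lit 1, nat_lit 1], .rel (nat_lit 37) (nat_lit 0) [nat_lit 3, nat_lit 1, nat_lit 3]],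
  [.rel (nat_lit 4) (nat_lit 0) [nat_lit 3], .defn],
  [.defn, .rel (nat_lit 4) (nat_lit 1) [nat_lit 2], .rel (nat_lit 27) (nat_lit 0) [nat_lit 3, nat_lit 3], .rel (nat_lit 37) (nat_lit 1) [nat_lit 1, nat_lit 3, nat_lit 1]]]
noncomputable def cE4 : TCert2 := ⟨4, 4, 4, 4, 3, 31, 0, TE4, IE4, DE4, EE4, JE4, WE4, [[nat_lit 0],
  [nat_lit 1]], RLE4⟩
noncomputable def TE6d : List ℕ := [nat_lit 0x1475069d0,
  nat_lit 0x1c92cdd50,
  nat_lit 0x4938e99d0,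
  nat_lit 0x2352caa50,
  nat_lit 0x145721d51,
  nat_lit 0xc6706452]
noncomputable def TE6 (k u : ℕ) : ℕ := Nat.land (Nat.shiftRight (nth (nat_lit 0) TE6d k) (Nat.mul u (nat_lit 7))) (nat_lit 127)
noncomputable def IE6d : List ℕ := [nat_lit 0x2708,
  nat_lit 0x2001,
  nat_lit 0xd1,
  nat_lit 0x3011,
  nat_lit 0x2001,
  nat_lit 0x681]
noncomputable def IE6 (k u : ℕ) : ℕ := Nat.land (Nat.shiftRight (nth (nat_lit 0) IE6d k) (Nat.mul u (nat_lit 3))) (nat_lit 7)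
noncomputable def DE6d : ℕ := nat_lit 0x498c95200
noncomputable def DE6 (u : ℕ) : ℕ := Nat.land (Nat.shiftRight DE6d (Nat.mul u (nat_lit 7))) (nat_lit 127)
noncomputable def EE6 (_ : ℕ) : ℕ := nat_lit 0
noncomputable def JE6 (_ : ℕ) : ℕ := nat_lit 0
noncomputable def WE6 (_ : ℕ) : ℕ := nat_lit 0
noncomputable def RLE6 : List (List Rule) := [[.sub (nat_lit 0) [] [], .defn, .rel (nat_lit 0) (nat_lit 0) [nat_lit 1], .rel (nat_lit 24) (nat_lit 0) [nat_lit 0, nat_lit 0], .rel (nat_lit 39) (nat_lit 0) [nat_lit 5, nat_lit 0, nat_lit 5]],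
  [.rel (nat_lit 0) (nat_lit 1) [nat_lit 0], .sub (nat_lit 2) [] [], .rel (nat_lit 37) (nat_lit 0) [nat_lit 3, nat_lit 1, nat_lit 3]],
  [.rel (nat_lit 4) (nat_lit 0) [nat_lit 3], .sub (nat_lit 4) [] [], .rel (nat_lit 36) (nat_lit 0) [nat_lit 0, nat_lit 2, nat_lit 0], .rel (nat_lit 40) (nat_lit 0) [nat_lit 0, nat_lit 5, nat_lit 2, nat_lit 0, nat_lit 5]],
  [.rel (nat_lit 4) (nat_lit 1) [nat_lit 2], .sub (nat_lit 6) [] [], .defn, .rel (nat_lit 27) (nat_lit 0) [nat_lit 3, nat_lit 3]],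
  [.rel (nat_lit 8) (nat_lit 0) [nat_lit 5], .defn, .rel (nat_lit 41) (nat_lit 0) [nat_lit 1, nat_lit 3, nat_lit 4, nat_lit 1, nat_lit 3]],
  [.rel (nat_lit 8) (nat_lit 1) [nat_lit 4], .defn, .rel (nat_lit 29) (nat_lit 0) [nat_lit 5, nat_lit 5], .rel (nat_lit 39) (nat_lit 1) [nat_lit 0, nat_lit 5, nat_lit 0]]]
noncomputable def cE6 : TCert2 := ⟨5, 5, 5, 6, 7, 31, 0, TE6, IE6, DE6, EE6, JE6, WE6, [[nat_lit 0],
  [nat_lit 1],
  [nat_lit 2],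
  [nat_lit 3]], RLE6⟩
noncomputable def TE8d : List ℕ := [nat_lit 0x2797518ce55be134a97235d8b0690bce0530,
  nat_lit 0x1fb70dc7d5da2570ea63451aad7814466730,
  nat_lit 0x178f8d89b3ea252d24544ea44d76ab8de330,
  nat_lit 0xf938d65d46498f4b7622a5c738794d60330,
  nat_lit 0x9697cdc8c5d9e970c591c1e73219b3d20530,
  nat_lit 0x371f67e7c65a2a4aa98b48d71029bc466930,
  nat_lit 0x27caa1c99934f5513c65b5d6ae471c820531,
  nat_lit 0x2fc7655286bcf91899734ed8af479c464132]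
noncomputable def TE8 (k u : ℕ) : ℕ := Nat.land (Nat.shiftRight (nth (nat_lit 0) TE8d k) (Nat.mul u (nat_lit 9))) (nat_lit 511)
noncomputable def IE8d : List ℕ := [nat_lit 0x428108440003,
  nat_lit 0x502180f046c,
  nat_lit 0x40ea40102003,
  nat_lit 0x4000305a2ac,
  nat_lit 0x501c008202,
  nat_lit 0x4c87404022cc,
  nat_lit 0x2059000001,
  nat_lit 0x68044066b881]
noncomputable def IE8 (k u : ℕ) : ℕ := Nat.land (Nat.shiftRight (nth (nat_lit 0) IE8d k) (Nat.mul u (nat_lit 3))) (nat_lit 7)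
noncomputable def DE8d : ℕ := nat_lit 0xcdb55eab44686f0c99632363ac7109a0d41241c83000
noncomputable def DE8 (u : ℕ) : ℕ := Nat.land (Nat.shiftRight DE8d (Nat.mul u (nat_lit 11))) (nat_lit 2047)
noncomputable def EE8 (_ : ℕ) : ℕ := nat_lit 0
noncomputable def JE8 (_ : ℕ) : ℕ := nat_lit 0
noncomputable def WE8 (_ : ℕ) : ℕ := nat_lit 0
noncomputable def RLE8 : List (List Rule) := [[.rel (nat_lit 0) (nat_lit 0) [nat_lit 1], .rel (nat_lit 24) (nat_lit 0) [nat_lit 0, nat_lit 0], .rel (nat_lit 39) (nat_lit 0) [nat_lit 5, nat_lit 0, nat_lit 5], .sub (nat_lit 0) [] [], .rel (nat_lit 36) (nat_lit 1) [nat_lit 2, nat_lit 0, nat_lit 2], .rel (nat_lit 44) (nat_lit 0) [nat_lit 6, nat_lit 0, nat_lit 6]],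
  [.rel (nat_lit 0) (nat_lit 1) [nat_lit 0], .rel (nat_lit 45) (nat_lit 1) [nat_lit 7, nat_lit 1, nat_lit 7], .rel (nat_lit 25) (nat_lit 0) [nat_lit 1, nat_lit 1], .rel (nat_lit 38) (nat_lit 1) [nat_lit 4, nat_lit 1, nat_lit 4], .sub (nat_lit 2) [] [], .defn, .rel (nat_lit 37) (nat_lit 0) [nat_lit 3, nat_lit 1, nat_lit 3]],
  [.rel (nat_lit 4) (nat_lit 0) [nat_lit 3], .rel (nat_lit 26) (nat_lit 0) [nat_lit 2, nat_lit 2], .rel (nat_lit 40) (nat_lit 0) [nat_lit 0, nat_lit 5, nat_lit 2, nat_lit 0, nat_lit 5], .sub (nat_lit 4) [] [], .defn, .rel (nat_lit 36) (nat_lit 0) [nat_lit 0, nat_lit 2, nat_lit 0], .rel (nat_lit 46) (nat_lit 0) [nat_lit 0, nat_lit 6, nat_lit 2, nat_lit 0, nat_lit 6]],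
  [.rel (nat_lit 4) (nat_lit 1) [nat_lit 2], .rel (nat_lit 37) (nat_lit 1) [nat_lit 1, nat_lit 3, nat_lit 1], .defn, .rel (nat_lit 27) (nat_lit 0) [nat_lit 3, nat_lit 3], .sub (nat_lit 6) [] [], .rel (nat_lit 47) (nat_lit 2) [nat_lit 7, nat_lit 1, nat_lit 3, nat_lit 7, nat_lit 1]],
  [.rel (nat_lit 8) (nat_lit 0) [nat_lit 5], .defn, .sub (nat_lit 8) [] [], .rel (nat_lit 28) (nat_lit 0) [nat_lit 4, nat_lit 4], .rel (nat_lit 41) (nat_lit 0) [nat_lit 1, nat_lit 3, nat_lit 4, nat_lit 1, nat_lit 3], .rel (nat_lit 42) (nat_lit 0) [nat_lit 6, nat_lit 4, nat_lit 6]],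
  [.rel (nat_lit 8) (nat_lit 1) [nat_lit 4], .defn, .rel (nat_lit 29) (nat_lit 0) [nat_lit 5, nat_lit 5], .rel (nat_lit 43) (nat_lit 1) [nat_lit 7, nat_lit 5, nat_lit 7], .sub (nat_lit 10) [] [], .rel (nat_lit 39) (nat_lit 1) [nat_lit 0, nat_lit 5, nat_lit 0]],
  [.rel (nat_lit 12) (nat_lit 0) [nat_lit 7], .defn, .rel (nat_lit 30) (nat_lit 0) [nat_lit 6, nat_lit 6], .rel (nat_lit 42) (nat_lit 1) [nat_lit 4, nat_lit 6, nat_lit 4]],
  [.rel (nat_lit 12) (nat_lit 1) [nat_lit 6], .defn, .rel (nat_lit 31) (nat_lit 0) [nat_lit 7, nat_lit 7], .rel (nat_lit 43) (nat_lit 0) [nat_lit 5, nat_lit 7, nat_lit 5], .rel (nat_lit 45) (nat_lit 0) [nat_lit 1, nat_lit 7, nat_lit 1], .rel (nat_lit 47) (nat_lit 0) [nat_lit 1, nat_lit 3, nat_lit 7, nat_lit 1, nat_lit 3]]]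
noncomputable def cE8 : TCert2 := ⟨16, 16, 16, 8, 15, 255, 0, TE8, IE8, DE8, EE8, JE8, WE8, [[nat_lit 0],
  [nat_lit 1],
  [nat_lit 2],
  [nat_lit 3],
  [nat_lit 4],
  [nat_lit 5]], RLE8⟩
noncomputable def TE10d : List ℕ := [nat_lit 0x7aedcd93e1564d5b46c9cf7422ef4ef18b66cd264b9aae5b22a6d9fa2c1323d07c0,
  nat_lit 0x9a3e117f653655594ebd93c39f16ca108368c8aa89caea7e16c6b2323d0bc4d87c0,
  nat_lit 0x3b8268b935d36455745cd8f645ee7b64c6ca108aa47e9669f2fa3b22c6b9302c87c0,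
  nat_lit 0xb9363da3dd164d55454d8d6c5ec5c9d073e2ee9e0ba22a59aae4f2703f1b22d07c0,
  nat_lit 0x7a365174d7b2f63b055973751f173e2e8b68c82e89a9ba4da3cae8bc7c1723d07c0,
  nat_lit 0x5a2e7b53e17355df164bd6843d46be0e836ac8afa69ab87e9289c8fc8d0bc5d87c0,
  nat_lit 0x5a2e7565617754db46cb75eaf717be4a937a7f4269f3aacb2286b96e4e8743d8bc0,
  nat_lit 0x7a3653765b38e49d45d593e43ab73fa98b6c8f462e92ae7f32a6c1704d8b81f0fc0,
  nat_lit 0x3a26538ed177ec5964d5f064e0b83a2a9b287f4bcf926a8f3666b16c4c8fa0d8bc1,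
  nat_lit 0x5a2e518659b454fd75c7abf55d2ea9efe9e4d7c20e8a6c8ab286b96e4d0f81e83c2]
noncomputable def TE10 (k u : ℕ) : ℕ := Nat.land (Nat.shiftRight (nth (nat_lit 0) TE10d k) (Nat.mul u (nat_lit 10))) (nat_lit 1023)
noncomputable def IE10d : List ℕ := [nat_lit 0x822c7a18c42200004,
  nat_lit 0x15380800a0010c074233e,
  nat_lit 0xc3441f92200a18004,
  nat_lit 0xcac200080000182d153d,
  nat_lit 0xf20080009e0098041005,
  nat_lit 0x9a859003802011675,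
  nat_lit 0x3400c008a02c8000005,
  nat_lit 0x1a882320800140359d317,
  nat_lit 0x300009d4d0260200001,
  nat_lit 0x1a84d100800000399d881]
noncomputable def IE10 (k u : ℕ) : ℕ := Nat.land (Nat.shiftRight (nth (nat_lit 0) IE10d k) (Nat.mul u (nat_lit 3))) (nat_lit 7)
noncomputable def DE10d : ℕ := nat_lit 0x43ce1ceed6768b2e5966ca564b29d94eaa74536218109c84d4242100c6a62d31618848324152088824410000
noncomputable def DE10 (u : ℕ) : ℕ := Nat.land (Nat.shiftRight DE10d (Nat.mul u (nat_lit 13))) (nat_lit 8191)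
noncomputable def EE10 (_ : ℕ) : ℕ := nat_lit 0
noncomputable def JE10 (_ : ℕ) : ℕ := nat_lit 0
noncomputable def WE10 (_ : ℕ) : ℕ := nat_lit 0
noncomputable def RLE10 : List (List Rule) := [[.rel (nat_lit 0) (nat_lit 0) [nat_lit 1], .rel (nat_lit 24) (nat_lit 0) [nat_lit 0, nat_lit 0], .rel (nat_lit 39) (nat_lit 0) [nat_lit 5, nat_lit 0, nat_lit 5], .rel (nat_lit 52) (nat_lit 0) [nat_lit 6, nat_lit 8, nat_lit 0, nat_lit 6, nat_lit 8], .sub (nat_lit 0) [] [], .defn, .rel (nat_lit 36) (nat_lit 1) [nat_lit 2, nat_lit 0, nat_lit 2], .rel (nat_lit 44) (nat_lit 0) [nat_lit 6, nat_lit 0, nat_lit 6]],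
  [.rel (nat_lit 0) (nat_lit 1) [nat_lit 0], .rel (nat_lit 45) (nat_lit 1) [nat_lit 7, nat_lit 1, nat_lit 7], .rel (nat_lit 25) (nat_lit 0) [nat_lit 1, nat_lit 1], .rel (nat_lit 38) (nat_lit 1) [nat_lit 4, nat_lit 1, nat_lit 4], .defn, .rel (nat_lit 37) (nat_lit 0) [nat_lit 3, nat_lit 1, nat_lit 3], .sub (nat_lit 2) [] [], .rel (nat_lit 53) (nat_lit 2) [nat_lit 9, nat_lit 7, nat_lit 1, nat_lit 9, nat_lit 7]],
  [.rel (nat_lit 4) (nat_lit 0) [nat_lit 3], .rel (nat_lit 26) (nat_lit 0) [nat_lit 2, nat_lit 2], .rel (nat_lit 36) (nat_lit 0) [nat_lit 0, nat_lit 2, nat_lit 0], .rel (nat_lit 40) (nat_lit 0) [nat_lit 0, nat_lit 5, nat_lit 2, nat_lit 0, nat_lit 5], .sub (nat_lit 4) [] [], .defn, .rel (nat_lit 46) (nat_lit 0) [nat_lit 0, nat_lit 6, nat_lit 2, nat_lit 0, nat_lit 6], .rel (nat_lit 54) (nat_lit 0) [nat_lit 0, nat_lit 6, nat_lit 8, nat_lit 2, nat_lit 0, nat_lit 6, nat_lit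 8]],
  [.rel (nat_lit 4) (nat_lit 1) [nat_lit 2], .rel (nat_lit 37) (nat_lit 1) [nat_lit 1, nat_lit 3, nat_lit 1], .defn, .rel (nat_lit 27) (nat_lit 0) [nat_lit 3, nat_lit 3], .rel (nat_lit 47) (nat_lit 2) [nat_lit 7, nat_lit 1, nat_lit 3, nat_lit 7, nat_lit 1], .sub (nat_lit 6) [] [], .rel (nat_lit 41) (nat_lit 2) [nat_lit 4, nat_lit 1, nat_lit 3, nat_lit 4, nat_lit 1], .rel (nat_lit 55) (nat_lit 3) [nat_lit 9, nat_lit 7, nat_lit 1, nat_lit 3, nat_lit 9, nat_lit 7, nat_lit 1]],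
  [.rel (nat_lit 8) (nat_lit 0) [nat_lit 5], .defn, .rel (nat_lit 28) (nat_lit 0) [nat_lit 4, nat_lit 4], .rel (nat_lit 41) (nat_lit 0) [nat_lit 1, nat_lit 3, nat_lit 4, nat_lit 1, nat_lit 3], .rel (nat_lit 50) (nat_lit 0) [nat_lit 6, nat_lit 8, nat_lit 4, nat_lit 6, nat_lit 8], .sub (nat_lit 8) [] [], .rel (nat_lit 38) (nat_lit 0) [nat_lit 1, nat_lit 4, nat_lit 1], .rel (nat_lit 42) (nat_lit 0) [nat_lit 6, nat_lit 4, nat_lit 6]],
  [.rel (nat_lit 8) (nat_lit 1) [nat_lit 4], .defn, .rel (nat_lit 29) (nat_lit 0) [nat_lit 5, nat_lit 5], .rel (nat_lit 43) (nat_lit 1) [nat_lit 7, nat_lit 5, nat_lit 7], .rel (nat_lit 39) (nat_lit 1) [nat_lit 0, nat_lit 5, nat_lit 0], .sub (nat_lit 10) [] [], .rel (nat_lit 51) (nat_lit 2) [nat_lit 9, nat_lit 7, nat_lit 5, nat_lit 9, nat_lit 7]],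
  [.rel (nat_lit 12) (nat_lit 0) [nat_lit 7], .defn, .rel (nat_lit 30) (nat_lit 0) [nat_lit 6, nat_lit 6], .rel (nat_lit 42) (nat_lit 1) [nat_lit 4, nat_lit 6, nat_lit 4], .rel (nat_lit 48) (nat_lit 0) [nat_lit 8, nat_lit 6, nat_lit 8], .sub (nat_lit 12) [] [], .rel (nat_lit 44) (nat_lit 1) [nat_lit 0, nat_lit 6, nat_lit 0]],
  [.rel (nat_lit 12) (nat_lit 1) [nat_lit 6], .rel (nat_lit 31) (nat_lit 0) [nat_lit 7, nat_lit 7], .defn, .rel (nat_lit 43) (nat_lit 0) [nat_lit 5, nat_lit 7, nat_lit 5], .rel (nat_lit 49) (nat_lit 1) [nat_lit 9, nat_lit 7, nat_lit 9], .rel (nat_lit 45) (nat_lit 0) [nat_lit 1, nat_lit 7, nat_lit 1], .rel (nat_lit 47) (nat_lit 0) [nat_lit 1, nat_lit 3, nat_lit 7, nat_lit 1, nat_lit 3], .sub (nat_lit 14) [] []],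
  [.rel (nat_lit 16) (nat_lit 0) [nat_lit 9], .defn, .rel (nat_lit 32) (nat_lit 0) [nat_lit 8, nat_lit 8], .rel (nat_lit 48) (nat_lit 1) [nat_lit 6, nat_lit 8, nat_lit 6], .rel (nat_lit 50) (nat_lit 2) [nat_lit 4, nat_lit 6, nat_lit 8, nat_lit 4, nat_lit 6], .rel (nat_lit 52) (nat_lit 2) [nat_lit 0, nat_lit 6, nat_lit 8, nat_lit 0, nat_lit 6]],
  [.rel (nat_lit 16) (nat_lit 1) [nat_lit 8], .defn, .rel (nat_lit 33) (nat_lit 0) [nat_lit 9, nat_lit 9], .rel (nat_lit 51) (nat_lit 0) [nat_lit 7, nat_lit 5, nat_lit 9, nat_lit 7, nat_lit 5], .rel (nat_lit 49) (nat_lit 0) [nat_lit 7, nat_lit 9, nat_lit 7], .rel (nat_lit 53) (nat_lit 0) [nat_lit 7, nat_lit 1, nat_lit 9, nat_lit 7, nat_lit 1], .rel (nat_lit 55) (nat_lit 0) [nat_lit 7, nat_lit 1, nat_lit 3, nat_lit 9, nat_lit 7, nat_lit 1, nat_lit 3]]]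
noncomputable def cE10 : TCert2 := ⟨27, 27, 27, 10, 31, 511, 0, TE10, IE10, DE10, EE10, JE10, WE10, [[nat_lit 0],
  [nat_lit 1],
  [nat_lit 2],
  [nat_lit 3],
  [nat_lit 4],
  [nat_lit 5],
  [nat_lit 6],
  [nat_lit 7]], RLE10⟩
noncomputable def TE12d : List ℕ := [nat_lit 0x2046a3807b86d84ea43327914d0bdc5701d88fbcb585e927d1aa8c5a6633f11de524a7a73d320920389a04f0a979270a1f56daa61532b155cbae4d5b4bd45e82f4591f0567493239a1af4a666342dc0cdc96c3be22006e457423b09e03040,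
  nat_lit 0x17e8f4c9f805b85d846a57223a12cc6de53021716c4cd25ed2559ba8c586663b21f8d2ca86283c9e9d43e9e052e28791bb06154daa555b2a5a5abc0415b0b945ab3b3d824b93628b139a9ac8b6a53c31b10fc66e3b725d08ec3822bc09e83040,
  nat_lit 0x9f805b85d846a3f427914c06df0731d6c0a60e256e2734090b585fa3751be603e7a73919f892ca9604d0a8792709dc54da9694b2a9558bac596a8ad85a82d4981ec0e666ae4d8a2c8b6644019a1504c8023725b8ee05721ba09d83040,
  nat_lit 0x18a0e4c9b803b84d83ea43481812ce05a4f219896b07de5e92741c9e0dc6663b241e934306a3b1a0893be9a0832a7791baa1c52da869532a9456bab594b0b155a72e4981ab135e8af4191f0086263525b0cd0b702c129c89047741bb09e03040,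
  nat_lit 0x16e8e7301807b86d84ea2f3198c0ba0e902c1d90fbcae05ad27d1aa8e526793939d8d24a7e245022793c27a652e2391230a99809a8e20bea5a808ab6d62abd458b2f5d824bd0647b239a9ac4c6a5361e00af89825c00e090e467423b09e03040,
  nat_lit 0x15e8df2a5a05b85d846b03115a0fbc6e65ad21741c8bd907025599a8dd26283b39f811ca91e3d320913428e380ca189234a1f58b2a615b90786092d4d5aab9482db1460aeb90627b139b1ac8c803b42df910056a53a12092ec38233c09e83040,
  nat_lit 0x9b87d85682f383a8dc86e25308158fbe05066d21719a8f4c6ac3b39f8d1cb01d834a0913429e07adab691c4adf58e2c615ad05e5cbae4d6aac147ccc031f24c10665b33a011051685413db1adc96a3b819c0b0027623c0de83040,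
  nat_lit 0x7b86da06627515a0ec866257021711acd586e88379aaa04706d3939da524a86241322753c2a2054e40620c8b5b78faa79fa6ada5ebac6562abd45ab3f46018bd08053239b93052647b32dc1104d6c3b919c8af037a14111f03040,
  nat_lit 0xbb88d44e90761598cc86624f01b78fa8c5b0271d719adec88ec49425a514a9a649127752c2a1e54fab69f4701758e3e82024b585adaa6572ac54608ad59898c4f645b435a910538283329b1304e683b719b8ae84800bd0df05040,
  nat_lit 0x9bc0d03ec2351398dc85e25301d78faccda92835510b924c96783627911caf297eea58d342fda52fa981344b5b5cbaa795acb1882e2c496aac1480641657a700b608402199cc11627b229b92d8d6a3b819c0aec47c13f06087040,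
  nat_lit 0xdb07d60ee2341398bc85e24b01978db8bda8ac81299ad2530217d4407cd549a680e3e8e0cf0194f2268143706252bab594bcb9382eac497a0c8e5e8c16a0b0c0f82ab3360a8c0c625b229a92d08663b619b0ae44781c001f05041,
  nat_lit 0x81a85dc36c1f41198cc85624f01b78eb8c5a8ec3551b951d2fe7810a7920d6a1f7f140720d09de833286602f0634eec04a0c101154daa6a01f00d5ac2b59726b955e8315191cbcc605b129b12d48683b719b8ae847a1bf06001042]
noncomputable def TE12 (k u : ℕ) : ℕ := Nat.land (Nat.shiftRight (nth (nat_lit 0) TE12d k) (Nat.mul u (nat_lit 13))) (nat_lit 8191)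
noncomputable def IE12d : List ℕ := [nat_lit 0x254306062100000005001000003002105213540380406102100000007,
  nat_lit 0x32000042000101203100631502640050010000001200010400430215687,
  nat_lit 0x376501314004000000002000005003201327210165221000403000008,
  nat_lit 0x31000010000031403200232541620050040000001000000030132124687,
  nat_lit 0x27046350010000002300020037050000010004400063600520010100008,
  nat_lit 0x100000141232300004202110500001423140032300024001001323576,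
  nat_lit 0x36241050000000205000100042820301053300062601410000000007,
  nat_lit 0x404151325020051306300230030410001000012004254613287,
  nat_lit 0x32145060000000100200030011000003003321621204450400000007,
  nat_lit 0x404313123025260217201014010500005000000004364731258,
  nat_lit 0x23145060000000300000001000210232142231131316450000000001,
  nat_lit 0x404353526020213201210010010400000000000004364735201]
noncomputable def IE12 (k u : ℕ) : ℕ := Nat.land (Nat.shiftRight (nth (nat_lit 0) IE12d k) (Nat.mul u (nat_lit 4))) (nat_lit 15)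
noncomputable def DE12d : ℕ := nat_lit 0x29cba696125fa1ba78e9ab650d90b22dc87b215b82edefb79eddda71e9b3a6aa997a65a57f95de563956e55a954613784c2126847a11d73a5ce27385cd673458c062f98a66261897625948c51f9468519d462416104b410504030ccc29309481f205440b1028000
noncomputable def DE12 (u : ℕ) : ℕ := Nat.land (Nat.shiftRight DE12d (Nat.mul u (nat_lit 14))) (nat_lit 16383)
noncomputable def EE12td : ℕ := nat_lit 0x52b6a895d
noncomputable def EE12t (u : ℕ) : ℕ := Nat.land (Nat.shiftRight EE12td (Nat.mul u (nat_lit 12))) (nat_lit 4095)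
noncomputable def JE12td : ℕ := nat_lit 0x145834
noncomputable def JE12t (u : ℕ) : ℕ := Nat.land (Nat.shiftRight JE12td (Nat.mul u (nat_lit 7))) (nat_lit 127)
noncomputable def WE12td : ℕ := nat_lit 0x2be78
noncomputable def WE12t (u : ℕ) : ℕ := Nat.land (Nat.shiftRight WE12td (Nat.mul u (nat_lit 6))) (nat_lit 63)
@[irreducible] noncomputable def EE12 (a : ℕ) : ℕ := force (Nat.sub a (nat_lit 56)) EE12t
@[irreducible] noncomputable def JE12 (a : ℕ) : ℕ := force (Nat.sub a (nat_lit 56)) JE12t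
@[irreducible] noncomputable def WE12 (a : ℕ) : ℕ := force (Nat.sub a (nat_lit 56)) WE12t
noncomputable def RLE12 : List (List Rule) := [[.rel (nat_lit 0) (nat_lit 0) [nat_lit 1], .rel (nat_lit 24) (nat_lit 0) [nat_lit 0, nat_lit 0], .rel (nat_lit 39) (nat_lit 0) [nat_lit 5, nat_lit 0, nat_lit 5], .rel (nat_lit 44) (nat_lit 0) [nat_lit 6, nat_lit 0, nat_lit 6], .rel (nat_lit 52) (nat_lit 0) [nat_lit 6, nat_lit 8, nat_lit 0, nat_lit 6, nat_lit 8], .rel (nat_lit 62) (nat_lit 0) [nat_lit 6, nat_lit 8, nat_lit 10, nat_lit 0, nat_lit 6, nat_lit 8, nat_lit 10], .rel (nat_lit 36) (nat_lit 1) [nat_lit 2, nat_lit 0, nat_lit 2], .sub (nat_lit 0) [] [], .defn],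
  [.rel (nat_lit 0) (nat_lit 1) [nat_lit 0], .rel (nat_lit 45) (nat_lit 1) [nat_lit 7, nat_lit 1, nat_lit 7], .rel (nat_lit 25) (nat_lit 0) [nat_lit 1, nat_lit 1], .rel (nat_lit 37) (nat_lit 0) [nat_lit 3, nat_lit 1, nat_lit 3], .rel (nat_lit 38) (nat_lit 1) [nat_lit 4, nat_lit 1, nat_lit 4], .defn, .rel (nat_lit 53) (nat_lit 2) [nat_lit 9, nat_lit 7, nat_lit 1, nat_lit 9, nat_lit 7], .sub (nat_lit 2) [] [], .rel (nat_lit 63) (nat_lit 3) [nat_lit 11, nat_lit 9, nat_lit 7, nat_lit 1, nat_lit 11, nat_lit 9, nat_lit 7]],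
  [.rel (nat_lit 4) (nat_lit 0) [nat_lit 3], .rel (nat_lit 26) (nat_lit 0) [nat_lit 2, nat_lit 2], .rel (nat_lit 36) (nat_lit 0) [nat_lit 0, nat_lit 2, nat_lit 0], .rel (nat_lit 40) (nat_lit 0) [nat_lit 0, nat_lit 5, nat_lit 2, nat_lit 0, nat_lit 5], .defn, .rel (nat_lit 46) (nat_lit 0) [nat_lit 0, nat_lit 6, nat_lit 2, nat_lit 0, nat_lit 6], .rel (nat_lit 54) (nat_lit 0) [nat_lit 0, nat_lit 6, nat_lit 8, nat_lit 2, nat_lit 0, nat_lit 6, nat_lit 8], .rel (nat_lit 64) (nat_lit 0) [nat_lit 0, nat_lit 6, nat_lit 8, nat_lit 10, nat_lit 2, nat_lit 0, nat_lit 6, nat_lit 8, nat_lit 10], .sub (nat_lit 4) [] []],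
  [.rel (nat_lit 4) (nat_lit 1) [nat_lit 2], .rel (nat_lit 37) (nat_lit 1) [nat_lit 1, nat_lit 3, nat_lit 1], .defn, .rel (nat_lit 27) (nat_lit 0) [nat_lit 3, nat_lit 3], .rel (nat_lit 47) (nat_lit 2) [nat_lit 7, nat_lit 1, nat_lit 3, nat_lit 7, nat_lit 1], .rel (nat_lit 41) (nat_lit 2) [nat_lit 4, nat_lit 1, nat_lit 3, nat_lit 4, nat_lit 1], .rel (nat_lit 55) (nat_lit 3) [nat_lit 9, nat_lit 7, nat_lit 1, nat_lit 3, nat_lit 9, nat_lit 7, nat_lit 1], .sub (nat_lit 6) [] [], .rel (nat_lit 65) (nat_lit 4) [nat_lit 11, nat_lit 9, nat_lit 7, nat_lit 1, nat_lit 3, nat_lit 11, nat_lit 9, nat_lit 7, nat_lit 1]],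
  [.rel (nat_lit 8) (nat_lit 0) [nat_lit 5], .defn, .rel (nat_lit 41) (nat_lit 0) [nat_lit 1, nat_lit 3, nat_lit 4, nat_lit 1, nat_lit 3], .rel (nat_lit 42) (nat_lit 0) [nat_lit 6, nat_lit 4, nat_lit 6], .rel (nat_lit 60) (nat_lit 0) [nat_lit 6, nat_lit 8, nat_lit 10, nat_lit 4, nat_lit 6, nat_lit 8, nat_lit 10], .rel (nat_lit 28) (nat_lit 0) [nat_lit 4, nat_lit 4], .rel (nat_lit 50) (nat_lit 0) [nat_lit 6, nat_lit 8, nat_lit 4, nat_lit 6, nat_lit 8], .rel (nat_lit 38) (nat_lit 0) [nat_lit 1, nat_lit 4, nat_lit 1], .sub (nat_lit 8) [] []],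
  [.rel (nat_lit 8) (nat_lit 1) [nat_lit 4], .rel (nat_lit 29) (nat_lit 0) [nat_lit 5, nat_lit 5], .rel (nat_lit 43) (nat_lit 1) [nat_lit 7, nat_lit 5, nat_lit 7], .defn, .rel (nat_lit 39) (nat_lit 1) [nat_lit 0, nat_lit 5, nat_lit 0], .rel (nat_lit 51) (nat_lit 2) [nat_lit 9, nat_lit 7, nat_lit 5, nat_lit 9, nat_lit 7], .sub (nat_lit 10) [] [], .rel (nat_lit 61) (nat_lit 3) [nat_lit 11, nat_lit 9, nat_lit 7, nat_lit 5, nat_lit 11, nat_lit 9, nat_lit 7]],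
  [.rel (nat_lit 12) (nat_lit 0) [nat_lit 7], .defn, .rel (nat_lit 30) (nat_lit 0) [nat_lit 6, nat_lit 6], .rel (nat_lit 58) (nat_lit 0) [nat_lit 8, nat_lit 10, nat_lit 6, nat_lit 8, nat_lit 10], .rel (nat_lit 42) (nat_lit 1) [nat_lit 4, nat_lit 6, nat_lit 4], .rel (nat_lit 44) (nat_lit 1) [nat_lit 0, nat_lit 6, nat_lit 0], .rel (nat_lit 48) (nat_lit 0) [nat_lit 8, nat_lit 6, nat_lit 8], .sub (nat_lit 12) [] [], .rel (nat_lit 50) (nat_lit 1) [nat_lit 8, nat_lit 4, nat_lit 6, nat_lit 8, nat_lit 4]],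
  [.rel (nat_lit 12) (nat_lit 1) [nat_lit 6], .rel (nat_lit 31) (nat_lit 0) [nat_lit 7, nat_lit 7], .defn, .rel (nat_lit 49) (nat_lit 1) [nat_lit 9, nat_lit 7, nat_lit 9], .rel (nat_lit 43) (nat_lit 0) [nat_lit 5, nat_lit 7, nat_lit 5], .rel (nat_lit 47) (nat_lit 0) [nat_lit 1, nat_lit 3, nat_lit 7, nat_lit 1, nat_lit 3], .rel (nat_lit 45) (nat_lit 0) [nat_lit 1, nat_lit 7, nat_lit 1], .sub (nat_lit 14) [] [], .rel (nat_lit 59) (nat_lit 2) [nat_lit 11, nat_lit 9, nat_lit 7, nat_lit 11, nat_lit 9]],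
  [.rel (nat_lit 16) (nat_lit 0) [nat_lit 9], .rel (nat_lit 48) (nat_lit 1) [nat_lit 6, nat_lit 8, nat_lit 6], .rel (nat_lit 32) (nat_lit 0) [nat_lit 8, nat_lit 8], .rel (nat_lit 56) (nat_lit 0) [nat_lit 10, nat_lit 8, nat_lit 10], .defn, .rel (nat_lit 50) (nat_lit 2) [nat_lit 4, nat_lit 6, nat_lit 8, nat_lit 4, nat_lit 6], .rel (nat_lit 52) (nat_lit 2) [nat_lit 0, nat_lit 6, nat_lit 8, nat_lit 0, nat_lit 6], .sub (nat_lit 16) [] []],
  [.rel (nat_lit 16) (nat_lit 1) [nat_lit 8], .rel (nat_lit 33) (nat_lit 0) [nat_lit 9, nat_lit 9], .rel (nat_lit 57) (nat_lit 1) [nat_lit 11, nat_lit 9, nat_lit 11], .rel (nat_lit 49) (nat_lit 0) [nat_lit 7, nat_lit 9, nat_lit 7], .rel (nat_lit 51) (nat_lit 0) [nat_lit 7, nat_lit 5, nat_lit 9, nat_lit 7, nat_lit 5], .defn, .rel (nat_lit 55) (nat_lit 0) [nat_lit 7, nat_lit 1, nat_lit 3, nat_lit 9, nat_lit 7, nat_lit 1, nat_lit 3], .rel (nat_lit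 53) (nat_lit 0) [nat_lit 7, nat_lit 1, nat_lit 9, nat_lit 7, nat_lit 1], .sub (nat_lit 18) [] []],
  [.rel (nat_lit 20) (nat_lit 0) [nat_lit 11], .defn, .rel (nat_lit 34) (nat_lit 0) [nat_lit 10, nat_lit 10], .rel (nat_lit 56) (nat_lit 1) [nat_lit 8, nat_lit 10, nat_lit 8], .rel (nat_lit 58) (nat_lit 2) [nat_lit 6, nat_lit 8, nat_lit 10, nat_lit 6, nat_lit 8], .rel (nat_lit 60) (nat_lit 3) [nat_lit 4, nat_lit 6, nat_lit 8, nat_lit 10, nat_lit 4, nat_lit 6, nat_lit 8], .rel (nat_lit 62) (nat_lit 3) [nat_lit 0, nat_lit 6, nat_lit 8, nat_lit 10, nat_lit 0, nat_lit 6, nat_lit 8]],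
  [.rel (nat_lit 20) (nat_lit 1) [nat_lit 10], .defn, .rel (nat_lit 35) (nat_lit 0) [nat_lit 11, nat_lit 11], .rel (nat_lit 59) (nat_lit 0) [nat_lit 9, nat_lit 7, nat_lit 11, nat_lit 9, nat_lit 7], .rel (nat_lit 61) (nat_lit 0) [nat_lit 9, nat_lit 7, nat_lit 5, nat_lit 11, nat_lit 9, nat_lit 7, nat_lit 5], .rel (nat_lit 57) (nat_lit 0) [nat_lit 9, nat_lit 11, nat_lit 9], .rel (nat_lit 65) (nat_lit 0) [nat_lit 9, nat_lit 7, nat_lit 1, nat_lit 3, nat_lit 11, nat_lit 9, nat_lit 7, nat_lit 1, nat_lit 3], .rel (nat_lit 63) (nat_lit 0) [nat_lit 9, nat_lit 7, nat_lit 1, nat_lit 11, nat_lit 9, nat_lit 7, nat_lit 1]]]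
noncomputable def cE12 : TCert2 := ⟨56, 56, 59, 12, 63, 1023, 1, TE12, IE12, DE12, EE12, JE12, WE12, [[nat_lit 0],
  [nat_lit 1],
  [nat_lit 2],
  [nat_lit 3],
  [nat_lit 4],
  [nat_lit 5],
  [nat_lit 6],
  [nat_lit 7],
  [nat_lit 8],
  [nat_lit 9]], RLE12⟩

theorem F_lt : allL (ltAll 7) F_W = true := by decide +kernel
theorem F_m_a : allZ2 (matEnt (wdsP P F_W) F_P) (nat_lit 18) (nat_lit 256) = true := by decide +kernel
theorem lx_e_0 : allZ (dent lx P (nat_lit 256)) (nat_lit 0) (nat_lit 134) = true := by decide +kernel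
theorem lx_h : 0 < lx.n ∧ 0 < lx.K ∧ lx.Pt 0 < 256 ∧ lx.Q (lx.Pt 0) = 0 := by decide +kernel
theorem lxc : allZ (fun v => orZ v (orZ (nz (qn v)) (memO lx v))) 0 256 = true ∧ lx.K = 7 ∧ lx.Pt 0 = 1 := by decide +kernel
theorem cSth_lt : allL (ltAll 7) cSth_W = true := by decide +kernel
theorem cStl0_e_0 : allZ (dent cStl0 cSth_P (nat_lit 256)) (nat_lit 0) (nat_lit 119) = true := by decide +kernel
theorem cStl0_h : 0 < cStl0.n ∧ 0 < cStl0.K ∧ cStl0.Pt 0 < 256 ∧ cStl0.Q (cStl0.Pt 0) = 0 := by decide +kernel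
theorem cStl1_e_0 : allZ (dent cStl1 cSth_P (nat_lit 256)) (nat_lit 0) (nat_lit 55) = true := by decide +kernel
theorem cStl1_h : 0 < cStl1.n ∧ 0 < cStl1.K ∧ cStl1.Pt 0 < 256 ∧ cStl1.Q (cStl1.Pt 0) = 0 := by decide +kernel
theorem cStl2_e_0 : allZ (dent cStl2 cSth_P (nat_lit 256)) (nat_lit 0) (nat_lit 26) = true := by decide +kernel
theorem cStl2_h : 0 < cStl2.n ∧ 0 < cStl2.K ∧ cStl2.Pt 0 < 256 ∧ cStl2.Q (cStl2.Pt 0) = 0 := by decide +kernel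
theorem cStl3_e_0 : allZ (dent cStl3 cSth_P (nat_lit 256)) (nat_lit 0) (nat_lit 7) = true := by decide +kernel
theorem cStl3_h : 0 < cStl3.n ∧ 0 < cStl3.K ∧ cStl3.Pt 0 < 256 ∧ cStl3.Q (cStl3.Pt 0) = 0 := by decide +kernel
theorem cSt_f3 : (Nat.ble cStl3.K 13 && Nat.ble (topK []) cStl3.K && fixLetters cSth_P (topK []) (cStl3.Pt 0)) = true := by decide +kernel
theorem cSt_f2 : (Nat.ble cStl2.K 13 && Nat.ble (topK [cStl3]) cStl2.K && fixLetters cSth_P (topK [cStl3]) (cStl2.Pt 0)) = true := by decide +kernel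
theorem cSt_f1 : (Nat.ble cStl1.K 13 && Nat.ble (topK [cStl2, cStl3]) cStl1.K && fixLetters cSth_P (topK [cStl2, cStl3]) (cStl1.Pt 0)) = true := by decide +kernel
theorem cSt_f0 : (Nat.ble cStl0.K 13 && Nat.ble (topK [cStl1, cStl2, cStl3]) cStl0.K && fixLetters cSth_P (topK [cStl1, cStl2, cStl3]) (cStl0.Pt 0)) = true := by decide +kernel
theorem cSt_c : chainCard [cStl0, cStl1, cStl2, cStl3] = 1451520 := by decide +kernel
theorem cSe_lt : allL (ltAll 7) cSe_W = true := by decide +kernel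
theorem cS_f3 : (Nat.ble cStl3.K 13 && Nat.blt (nat_lit 45) 256 && fixLetters cSth_P cStl3.K (nat_lit 45) && Nat.beq (ltAll 2 [nat_lit 0, nat_lit 1, nat_lit 1]) 0 && Nat.beq (apW (rl [nat_lit 5, nat_lit 6] F_P) [nat_lit 0, nat_lit 1, nat_lit 1] (nat_lit 45)) (cStl3.Pt 0)) = true := by decide +kernel
theorem cS_f2 : (Nat.ble cStl2.K 13 && Nat.blt (nat_lit 45) 256 && fixLetters cSth_P cStl2.K (nat_lit 45) && Nat.beq (ltAll 2 [nat_lit 0, nat_lit 1]) 0 && Nat.beq (apW (rl [nat_lit 5, nat_lit 6] F_P) [nat_lit 0, nat_lit 1] (nat_lit 45)) (cStl2.Pt 0)) = true := by decide +kernel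
theorem cS_f1 : (Nat.ble cStl1.K 13 && Nat.blt (nat_lit 45) 256 && fixLetters cSth_P cStl1.K (nat_lit 45) && Nat.beq (ltAll 2 [nat_lit 0]) 0 && Nat.beq (apW (rl [nat_lit 5, nat_lit 6] F_P) [nat_lit 0] (nat_lit 45)) (cStl1.Pt 0)) = true := by decide +kernel
theorem cSc0_e_0 : allZ (dent cSc0 cSe_P (nat_lit 256)) (nat_lit 0) (nat_lit 1) = true := by decide +kernel
theorem cSc0_h : 0 < cSc0.n ∧ 0 < cSc0.K ∧ cSc0.Pt 0 < 256 ∧ cSc0.Q (cSc0.Pt 0) = 0 := by decide +kernel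
theorem cStn0_0 : (Nat.ble cStl0.K 13 && Nat.beq (ltAll 256 []) 0 && kChk cSe_P (rl [nat_lit 5, nat_lit 6] F_P) cStn0.Kn 2 BN [] && allL (ltAll 2) cStn0.pre && planOK cSth_P (rl [nat_lit 5, nat_lit 6] F_P) 2 (cStl0.Pt 0) cStn0.plan [cStl0, cStl1, cStl2, cStl3]) = true := by decide +kernel
theorem cStn0_1_0 : allZ (cStn0.ent P cSth_P (rl [nat_lit 5, nat_lit 6] F_P) (rl [nat_lit 5, nat_lit 6] F_P) cSe_P (nat_lit 7) (nat_lit 2) BN cStl0 [cStl1, cStl2, cStl3] (memO cSc0)) (nat_lit 0) (nat_lit 120) = true := by decide +kernel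
theorem cS_f0 : (Nat.ble cSc0.K 1 && Nat.ble (topK []) cSc0.K && Nat.beq (cSc0.Pt 0) (cStl0.Pt 0) && Nat.beq (ltAll 256 []) 0 && kChk cSe_P (rl [nat_lit 5, nat_lit 6] F_P) cSc0.K 2 BN []) = true := by decide +kernel
theorem cS_c : chainCard [cSc0] = 2 ∧ topK [cSc0] = 1 := by decide +kernel
theorem cS_le_k : allZ (fun a => Nat.add (ltAll 1 (nth [] [[nat_lit 0]] a)) (sumL (fun β => Nat.xor (cSe_P a β) (apW (rl [nat_lit 4] F_P) (nth [] [[nat_lit 0]] a) β)) BN)) 0 1 = true := by decide +kernel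
theorem cS_ge_k : allZ2 (fun a j => force a fun a => force j fun j => cjL (rl [nat_lit 5, nat_lit 6] F_P) (rl [nat_lit 4] F_P) 2 BN a [j] [j]) 1 2 = true := by decide +kernel
theorem nwc : F_P 5 1 = 1 ∧ F_P 6 1 = 1 ∧ F_P 7 1 = 1 ∧ F_P 9 1 = 1 ∧ F_P 5 18 ∈ [18, 19] ∧ F_P 6 18 ∈ [18, 19] ∧ eqL F_P 18 BN [4, 4] [] = 0 ∧ eqL F_P 18 BN [7, 8] [] = 0 ∧ eqL F_P 18 BN [9, 10] [] = 0 ∧
  Nat.xor (apW F_P [10, 4, 9, 8, 4, 7, 4] 32) 32 = Nat.xor (F_P 4 207) 207 ∧ apW F_P [10, 4, 9, 8, 4, 7, 4] 32 ≠ 32 ∧ bn 207 1 = 0 := by decide +kernel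
theorem syt_lt : allL (ltAll 7) syt_W = true := by decide +kernel
theorem sy_r_a : allZ2 (resEnt syt_P syP syE syI (nat_lit 256) (nat_lit 125)) (nat_lit 9) (nat_lit 125) = true := by decide +kernel
theorem sy_b : neL BN (syB.map syE) = 0 ∧ ltAll 125 syB = 0 := by decide +kernel
theorem sy_p : allZ2 (pcEnt syP (nat_lit 2) syB syC) 9 9 = true := by decide +kernel
theorem sy_e : allL (ltAll 9) sye = true := by decide +kernel
theorem syl0_e_0 : allZ (dent syl0 (wdsP syP sye) (nat_lit 125)) (nat_lit 0) (nat_lit 31) = true := by decide +kernel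
theorem syl0_h : 0 < syl0.n ∧ 0 < syl0.K ∧ syl0.Pt 0 < 125 ∧ syl0.Q (syl0.Pt 0) = 0 := by decide +kernel
theorem syl1_e_0 : allZ (dent syl1 (wdsP syP sye) (nat_lit 125)) (nat_lit 0) (nat_lit 3) = true := by decide +kernel
theorem syl1_h : 0 < syl1.n ∧ 0 < syl1.K ∧ syl1.Pt 0 < 125 ∧ syl1.Q (syl1.Pt 0) = 0 := by decide +kernel
theorem syl2_e_0 : allZ (dent syl2 (wdsP syP sye) (nat_lit 125)) (nat_lit 0) (nat_lit 1) = true := by decide +kernel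
theorem syl2_h : 0 < syl2.n ∧ 0 < syl2.K ∧ syl2.Pt 0 < 125 ∧ syl2.Q (syl2.Pt 0) = 0 := by decide +kernel
theorem syl3_e_0 : allZ (dent syl3 (wdsP syP sye) (nat_lit 125)) (nat_lit 0) (nat_lit 1) = true := by decide +kernel
theorem syl3_h : 0 < syl3.n ∧ 0 < syl3.K ∧ syl3.Pt 0 < 125 ∧ syl3.Q (syl3.Pt 0) = 0 := by decide +kernel
theorem sy_f3 : (Nat.ble syl3.K 21 && Nat.ble (topK []) syl3.K && fixLetters (wdsP syP sye) (topK []) (syl3.Pt 0)) = true := by decide +kernel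
theorem sy_f2 : (Nat.ble syl2.K 21 && Nat.ble (topK [syl3]) syl2.K && fixLetters (wdsP syP sye) (topK [syl3]) (syl2.Pt 0)) = true := by decide +kernel
theorem sy_f1 : (Nat.ble syl1.K 21 && Nat.ble (topK [syl2, syl3]) syl1.K && fixLetters (wdsP syP sye) (topK [syl2, syl3]) (syl1.Pt 0)) = true := by decide +kernel
theorem sy_f0 : (Nat.ble syl0.K 21 && Nat.ble (topK [syl1, syl2, syl3]) syl0.K && fixLetters (wdsP syP sye) (topK [syl1, syl2, syl3]) (syl0.Pt 0)) = true := by decide +kernel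
theorem sy_c : chainCard [syl0, syl1, syl2, syl3] = 2 ^ 9 ∧ ¬ 2 ^ (9 + 1) ∣ 1451520 := by decide +kernel
theorem ivr_lt : allL (ltAll 7) ivr_W = true := by decide +kernel
theorem iv_c0 : (Nat.ble 9 9 && Nat.beq (ltAll 9 []) 0 && Nat.beq (ivT0.chk P syP ivr_P syE 7 9 2 2 4 syB 9 [] 0) 0) = true := by decide +kernel
theorem dc : qn (Nat.xor (F_P 3 1) 1) ≠ 0 := by decide +kernel
theorem gc : allZ (fun v => Nat.add (qn (Nat.xor (F_P 2 v) v)) (orZ (nz (Nat.xor (F_P 2 v) v)) (Nat.xor (Nat.xor (F_P 2 (Tg v)) (Tg v)) v))) 0 256 = true := by decide +kernel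
theorem cath_lt : allL (ltAll 7) cath_W = true := by decide +kernel
theorem catl0_e_0 : allZ (dent catl0 cath_P (nat_lit 256)) (nat_lit 0) (nat_lit 134) = true := by decide +kernel
theorem catl0_h : 0 < catl0.n ∧ 0 < catl0.K ∧ catl0.Pt 0 < 256 ∧ catl0.Q (catl0.Pt 0) = 0 := by decide +kernel
theorem catl1_e_0 : allZ (dent catl1 cath_P (nat_lit 256)) (nat_lit 0) (nat_lit 13) = true := by decide +kernel
theorem catl1_h : 0 < catl1.n ∧ 0 < catl1.K ∧ catl1.Pt 0 < 256 ∧ catl1.Q (catl1.Pt 0) = 0 := by decide +kernel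
theorem catl2_e_0 : allZ (dent catl2 cath_P (nat_lit 256)) (nat_lit 0) (nat_lit 11) = true := by decide +kernel
theorem catl2_h : 0 < catl2.n ∧ 0 < catl2.K ∧ catl2.Pt 0 < 256 ∧ catl2.Q (catl2.Pt 0) = 0 := by decide +kernel
theorem catl3_e_0 : allZ (dent catl3 cath_P (nat_lit 256)) (nat_lit 0) (nat_lit 1) = true := by decide +kernel
theorem catl3_h : 0 < catl3.n ∧ 0 < catl3.K ∧ catl3.Pt 0 < 256 ∧ catl3.Q (catl3.Pt 0) = 0 := by decide +kernel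
theorem catl4_e_0 : allZ (dent catl4 cath_P (nat_lit 256)) (nat_lit 0) (nat_lit 7) = true := by decide +kernel
theorem catl4_h : 0 < catl4.n ∧ 0 < catl4.K ∧ catl4.Pt 0 < 256 ∧ catl4.Q (catl4.Pt 0) = 0 := by decide +kernel
theorem catl5_e_0 : allZ (dent catl5 cath_P (nat_lit 256)) (nat_lit 0) (nat_lit 1) = true := by decide +kernel
theorem catl5_h : 0 < catl5.n ∧ 0 < catl5.K ∧ catl5.Pt 0 < 256 ∧ catl5.Q (catl5.Pt 0) = 0 := by decide +kernel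
theorem catl6_e_0 : allZ (dent catl6 cath_P (nat_lit 256)) (nat_lit 0) (nat_lit 1) = true := by decide +kernel
theorem catl6_h : 0 < catl6.n ∧ 0 < catl6.K ∧ catl6.Pt 0 < 256 ∧ catl6.Q (catl6.Pt 0) = 0 := by decide +kernel
theorem cat_f6 : (Nat.ble catl6.K 15 && Nat.ble (topK []) catl6.K && fixLetters cath_P (topK []) (catl6.Pt 0)) = true := by decide +kernel
theorem cat_f5 : (Nat.ble catl5.K 15 && Nat.ble (topK [catl6]) catl5.K && fixLetters cath_P (topK [catl6]) (catl5.Pt 0)) = true := by decide +kernel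
theorem cat_f4 : (Nat.ble catl4.K 15 && Nat.ble (topK [catl5, catl6]) catl4.K && fixLetters cath_P (topK [catl5, catl6]) (catl4.Pt 0)) = true := by decide +kernel
theorem cat_f3 : (Nat.ble catl3.K 15 && Nat.ble (topK [catl4, catl5, catl6]) catl3.K && fixLetters cath_P (topK [catl4, catl5, catl6]) (catl3.Pt 0)) = true := by decide +kernel
theorem cat_f2 : (Nat.ble catl2.K 15 && Nat.ble (topK [catl3, catl4, catl5, catl6]) catl2.K && fixLetters cath_P (topK [catl3, catl4, catl5, catl6]) (catl2.Pt 0)) = true := by decide +kernel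
theorem cat_f1 : (Nat.ble catl1.K 15 && Nat.ble (topK [catl2, catl3, catl4, catl5, catl6]) catl1.K && fixLetters cath_P (topK [catl2, catl3, catl4, catl5, catl6]) (catl1.Pt 0)) = true := by decide +kernel
theorem cat_f0 : (Nat.ble catl0.K 15 && Nat.ble (topK [catl1, catl2, catl3, catl4, catl5, catl6]) catl0.K && fixLetters cath_P (topK [catl1, catl2, catl3, catl4, catl5, catl6]) (catl0.Pt 0)) = true := by decide +kernel
theorem cat_c : chainCard [catl0, catl1, catl2, catl3, catl4, catl5, catl6] = 1451520 := by decide +kernel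
theorem cae_lt : allL (ltAll 7) cae_W = true := by decide +kernel
theorem cac6_e_0 : allZ (dent cac6 cae_P (nat_lit 256)) (nat_lit 0) (nat_lit 1) = true := by decide +kernel
theorem cac6_h : 0 < cac6.n ∧ 0 < cac6.K ∧ cac6.Pt 0 < 256 ∧ cac6.Q (cac6.Pt 0) = 0 := by decide +kernel
theorem catn0_0 : (Nat.ble catl6.K 15 && Nat.beq (ltAll 256 [catl5.Pt 0, catl4.Pt 0, catl3.Pt 0, catl2.Pt 0, catl1.Pt 0, catl0.Pt 0]) 0 && kChk cae_P (rl [nat_lit 0] F_P) catn0.Kn 1 BN [catl5.Pt 0, catl4.Pt 0, catl3.Pt 0, catl2.Pt 0, catl1.Pt 0, catl0.Pt 0] && allL (ltAll 1) catn0.pre && planOK cath_P (rl [nat_lit 0] F_P) 1 (catl6.Pt 0) catn0.plan [catl6]) = true := by decide +kernel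
theorem catn0_1_0 : allZ (catn0.ent P cath_P (rl [nat_lit 0] F_P) (rl [nat_lit 0] F_P) cae_P (nat_lit 7) (nat_lit 1) BN catl6 [] (memO cac6)) (nat_lit 0) (nat_lit 2) = true := by decide +kernel
theorem ca_f6 : (Nat.ble cac6.K 9 && Nat.ble (topK []) cac6.K && Nat.beq (cac6.Pt 0) (catl6.Pt 0) && Nat.beq (ltAll 256 [catl5.Pt 0, catl4.Pt 0, catl3.Pt 0, catl2.Pt 0, catl1.Pt 0, catl0.Pt 0]) 0 && kChk cae_P (rl [nat_lit 0] F_P) cac6.K 1 BN [catl5.Pt 0, catl4.Pt 0, catl3.Pt 0, catl2.Pt 0, catl1.Pt 0, catl0.Pt 0]) = true := by decide +kernel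
theorem cac5_e_0 : allZ (dent cac5 cae_P (nat_lit 256)) (nat_lit 0) (nat_lit 1) = true := by decide +kernel
theorem cac5_h : 0 < cac5.n ∧ 0 < cac5.K ∧ cac5.Pt 0 < 256 ∧ cac5.Q (cac5.Pt 0) = 0 := by decide +kernel
theorem catn1_0 : (Nat.ble catl5.K 15 && Nat.beq (ltAll 256 [catl4.Pt 0, catl3.Pt 0, catl2.Pt 0, catl1.Pt 0, catl0.Pt 0]) 0 && kChk cae_P (rl [nat_lit 0] F_P) catn1.Kn 1 BN [catl4.Pt 0, catl3.Pt 0, catl2.Pt 0, catl1.Pt 0, catl0.Pt 0] && allL (ltAll 1) catn1.pre && planOK cath_P (rl [nat_lit 0] F_P) 1 (catl5.Pt 0) catn1.plan [catl5, catl6]) = true := by decide +kernel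
theorem catn1_1_0 : allZ (catn1.ent P cath_P (rl [nat_lit 0] F_P) (rl [nat_lit 0] F_P) cae_P (nat_lit 7) (nat_lit 1) BN catl5 [catl6] (memO cac5)) (nat_lit 0) (nat_lit 2) = true := by decide +kernel
theorem ca_f5 : (Nat.ble cac5.K 9 && Nat.ble (topK [cac6]) cac5.K && Nat.beq (cac5.Pt 0) (catl5.Pt 0) && Nat.beq (ltAll 256 [catl4.Pt 0, catl3.Pt 0, catl2.Pt 0, catl1.Pt 0, catl0.Pt 0]) 0 && kChk cae_P (rl [nat_lit 0] F_P) cac5.K 1 BN [catl4.Pt 0, catl3.Pt 0, catl2.Pt 0, catl1.Pt 0, catl0.Pt 0]) = true := by decide +kernel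
theorem cac4_e_0 : allZ (dent cac4 cae_P (nat_lit 256)) (nat_lit 0) (nat_lit 3) = true := by decide +kernel
theorem cac4_h : 0 < cac4.n ∧ 0 < cac4.K ∧ cac4.Pt 0 < 256 ∧ cac4.Q (cac4.Pt 0) = 0 := by decide +kernel
theorem catn2_0 : (Nat.ble catl4.K 15 && Nat.beq (ltAll 256 [catl3.Pt 0, catl2.Pt 0, catl1.Pt 0, catl0.Pt 0]) 0 && kChk cae_P (rl [nat_lit 0] F_P) catn2.Kn 1 BN [catl3.Pt 0, catl2.Pt 0, catl1.Pt 0, catl0.Pt 0] && allL (ltAll 1) catn2.pre && planOK cath_P (rl [nat_lit 0] F_P) 1 (catl4.Pt 0) catn2.plan [catl4, catl5, catl6]) = true := by decide +kernel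
theorem catn2_1_0 : allZ (catn2.ent P cath_P (rl [nat_lit 0] F_P) (rl [nat_lit 0] F_P) cae_P (nat_lit 7) (nat_lit 1) BN catl4 [catl5, catl6] (memO cac4)) (nat_lit 0) (nat_lit 8) = true := by decide +kernel
theorem ca_f4 : (Nat.ble cac4.K 9 && Nat.ble (topK [cac5, cac6]) cac4.K && Nat.beq (cac4.Pt 0) (catl4.Pt 0) && Nat.beq (ltAll 256 [catl3.Pt 0, catl2.Pt 0, catl1.Pt 0, catl0.Pt 0]) 0 && kChk cae_P (rl [nat_lit 0] F_P) cac4.K 1 BN [catl3.Pt 0, catl2.Pt 0, catl1.Pt 0, catl0.Pt 0]) = true := by decide +kernel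
theorem cac3_e_0 : allZ (dent cac3 cae_P (nat_lit 256)) (nat_lit 0) (nat_lit 1) = true := by decide +kernel
theorem cac3_h : 0 < cac3.n ∧ 0 < cac3.K ∧ cac3.Pt 0 < 256 ∧ cac3.Q (cac3.Pt 0) = 0 := by decide +kernel
theorem catn3_0 : (Nat.ble catl3.K 15 && Nat.beq (ltAll 256 [catl2.Pt 0, catl1.Pt 0, catl0.Pt 0]) 0 && kChk cae_P (rl [nat_lit 0] F_P) catn3.Kn 1 BN [catl2.Pt 0, catl1.Pt 0, catl0.Pt 0] && allL (ltAll 1) catn3.pre && planOK cath_P (rl [nat_lit 0] F_P) 1 (catl3.Pt 0) catn3.plan [catl3, catl4, catl5, catl6]) = true := by decide +kernel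
theorem catn3_1_0 : allZ (catn3.ent P cath_P (rl [nat_lit 0] F_P) (rl [nat_lit 0] F_P) cae_P (nat_lit 7) (nat_lit 1) BN catl3 [catl4, catl5, catl6] (memO cac3)) (nat_lit 0) (nat_lit 2) = true := by decide +kernel
theorem ca_f3 : (Nat.ble cac3.K 9 && Nat.ble (topK [cac4, cac5, cac6]) cac3.K && Nat.beq (cac3.Pt 0) (catl3.Pt 0) && Nat.beq (ltAll 256 [catl2.Pt 0, catl1.Pt 0, catl0.Pt 0]) 0 && kChk cae_P (rl [nat_lit 0] F_P) cac3.K 1 BN [catl2.Pt 0, catl1.Pt 0, catl0.Pt 0]) = true := by decide +kernel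
theorem cac2_e_0 : allZ (dent cac2 cae_P (nat_lit 256)) (nat_lit 0) (nat_lit 5) = true := by decide +kernel
theorem cac2_h : 0 < cac2.n ∧ 0 < cac2.K ∧ cac2.Pt 0 < 256 ∧ cac2.Q (cac2.Pt 0) = 0 := by decide +kernel
theorem catn4_0 : (Nat.ble catl2.K 15 && Nat.beq (ltAll 256 [catl1.Pt 0, catl0.Pt 0]) 0 && kChk cae_P (rl [nat_lit 0] F_P) catn4.Kn 1 BN [catl1.Pt 0, catl0.Pt 0] && allL (ltAll 1) catn4.pre && planOK cath_P (rl [nat_lit 0] F_P) 1 (catl2.Pt 0) catn4.plan [catl2, catl3, catl4, catl5, catl6]) = true := by decide +kernel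
theorem catn4_1_0 : allZ (catn4.ent P cath_P (rl [nat_lit 0] F_P) (rl [nat_lit 0] F_P) cae_P (nat_lit 7) (nat_lit 1) BN catl2 [catl3, catl4, catl5, catl6] (memO cac2)) (nat_lit 0) (nat_lit 12) = true := by decide +kernel
theorem ca_f2 : (Nat.ble cac2.K 9 && Nat.ble (topK [cac3, cac4, cac5, cac6]) cac2.K && Nat.beq (cac2.Pt 0) (catl2.Pt 0) && Nat.beq (ltAll 256 [catl1.Pt 0, catl0.Pt 0]) 0 && kChk cae_P (rl [nat_lit 0] F_P) cac2.K 1 BN [catl1.Pt 0, catl0.Pt 0]) = true := by decide +kernel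
theorem cac1_e_0 : allZ (dent cac1 cae_P (nat_lit 256)) (nat_lit 0) (nat_lit 7) = true := by decide +kernel
theorem cac1_h : 0 < cac1.n ∧ 0 < cac1.K ∧ cac1.Pt 0 < 256 ∧ cac1.Q (cac1.Pt 0) = 0 := by decide +kernel
theorem catn5_0 : (Nat.ble catl1.K 15 && Nat.beq (ltAll 256 [catl0.Pt 0]) 0 && kChk cae_P (rl [nat_lit 0] F_P) catn5.Kn 1 BN [catl0.Pt 0] && allL (ltAll 1) catn5.pre && planOK cath_P (rl [nat_lit 0] F_P) 1 (catl1.Pt 0) catn5.plan [catl1, catl2, catl3, catl4, catl5, catl6]) = true := by decide +kernel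
theorem catn5_1_0 : allZ (catn5.ent P cath_P (rl [nat_lit 0] F_P) (rl [nat_lit 0] F_P) cae_P (nat_lit 7) (nat_lit 1) BN catl1 [catl2, catl3, catl4, catl5, catl6] (memO cac1)) (nat_lit 0) (nat_lit 14) = true := by decide +kernel
theorem ca_f1 : (Nat.ble cac1.K 9 && Nat.ble (topK [cac2, cac3, cac4, cac5, cac6]) cac1.K && Nat.beq (cac1.Pt 0) (catl1.Pt 0) && Nat.beq (ltAll 256 [catl0.Pt 0]) 0 && kChk cae_P (rl [nat_lit 0] F_P) cac1.K 1 BN [catl0.Pt 0]) = true := by decide +kernel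
theorem cac0_e_0 : allZ (dent cac0 cae_P (nat_lit 256)) (nat_lit 0) (nat_lit 14) = true := by decide +kernel
theorem cac0_h : 0 < cac0.n ∧ 0 < cac0.K ∧ cac0.Pt 0 < 256 ∧ cac0.Q (cac0.Pt 0) = 0 := by decide +kernel
theorem catn6_0 : (Nat.ble catl0.K 15 && Nat.beq (ltAll 256 []) 0 && kChk cae_P (rl [nat_lit 0] F_P) catn6.Kn 1 BN [] && allL (ltAll 1) catn6.pre && planOK cath_P (rl [nat_lit 0] F_P) 1 (catl0.Pt 0) catn6.plan [catl0, catl1, catl2, catl3, catl4, catl5, catl6]) = true := by decide +kernel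
theorem catn6_1_0 : allZ (catn6.ent P cath_P (rl [nat_lit 0] F_P) (rl [nat_lit 0] F_P) cae_P (nat_lit 7) (nat_lit 1) BN catl0 [catl1, catl2, catl3, catl4, catl5, catl6] (memO cac0)) (nat_lit 0) (nat_lit 135) = true := by decide +kernel
theorem ca_f0 : (Nat.ble cac0.K 9 && Nat.ble (topK [cac1, cac2, cac3, cac4, cac5, cac6]) cac0.K && Nat.beq (cac0.Pt 0) (catl0.Pt 0) && Nat.beq (ltAll 256 []) 0 && kChk cae_P (rl [nat_lit 0] F_P) cac0.K 1 BN []) = true := by decide +kernel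
theorem ca_c : chainCard [cac0, cac1, cac2, cac3, cac4, cac5, cac6] = 23040 ∧ topK [cac0, cac1, cac2, cac3, cac4, cac5, cac6] = 9 := by decide +kernel
theorem ca_le_k : allZ (fun a => Nat.add (ltAll 6 (nth [] [[nat_lit 1, nat_lit 2, nat_lit 1, nat_lit 3, nat_lit 2, nat_lit 1, nat_lit 4, nat_lit 3, nat_lit 2, nat_lit 0, nat_lit 1, nat_lit 2, nat_lit 3, nat_lit 4, nat_lit 5, nat_lit 4, nat_lit 3, nat_lit 2, nat_lit 0, nat_lit 1, nat_lit 2, nat_lit 3, nat_lit 4],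
  [nat_lit 0, nat_lit 2, nat_lit 0, nat_lit 3, nat_lit 2, nat_lit 0, nat_lit 5],
  [nat_lit 2],
  [nat_lit 0, nat_lit 2, nat_lit 4, nat_lit 3, nat_lit 2, nat_lit 0, nat_lit 5, nat_lit 4],
  [nat_lit 1, nat_lit 2, nat_lit 0, nat_lit 1, nat_lit 3, nat_lit 2, nat_lit 1, nat_lit 4, nat_lit 3, nat_lit 2, nat_lit 0, nat_lit 1, nat_lit 2, nat_lit 3, nat_lit 4, nat_lit 5],
  [nat_lit 1, nat_lit 2, nat_lit 0, nat_lit 1, nat_lit 2, nat_lit 4, nat_lit 3, nat_lit 5, nat_lit 4],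
  [nat_lit 2, nat_lit 0, nat_lit 3, nat_lit 2, nat_lit 5, nat_lit 4, nat_lit 3, nat_lit 2, nat_lit 0, nat_lit 1, nat_lit 2],
  [nat_lit 0, nat_lit 1, nat_lit 2, nat_lit 3, nat_lit 2, nat_lit 0, nat_lit 1, nat_lit 2, nat_lit 3],
  [nat_lit 2, nat_lit 0, nat_lit 4, nat_lit 3, nat_lit 2, nat_lit 0, nat_lit 5, nat_lit 4, nat_lit 3]] a)) (sumL (fun β => Nat.xor (cae_P a β) (apW (rl [nat_lit 1, nat_lit 2, nat_lit 3, nat_lit 4, nat_lit 5, nat_lit 6] P) (nth [] [[nat_lit 1, nat_lit 2, nat_lit 1, nat_lit 3, nat_lit 2, nat_lit 1, nat_lit 4, nat_lit 3, nat_lit 2, nat_lit 0, nat_lit 1, nat_lit 2, nat_lit 3, nat_lit 4, nat_lit 5, nat_lit 4, nat_lit 3, nat_lit 2, nat_lit 0, nat_lit 1, nat_lit 2, nat_lit 3, nat_lit 4],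
  [nat_lit 0, nat_lit 2, nat_lit 0, nat_lit 3, nat_lit 2, nat_lit 0, nat_lit 5],
  [nat_lit 2],
  [nat_lit 0, nat_lit 2, nat_lit 4, nat_lit 3, nat_lit 2, nat_lit 0, nat_lit 5, nat_lit 4],
  [nat_lit 1, nat_lit 2, nat_lit 0, nat_lit 1, nat_lit 3, nat_lit 2, nat_lit 1, nat_lit 4, nat_lit 3, nat_lit 2, nat_lit 0, nat_lit 1, nat_lit 2, nat_lit 3, nat_lit 4, nat_lit 5],
  [nat_lit 1, nat_lit 2, nat_lit 0, nat_lit 1, nat_lit 2, nat_lit 4, nat_lit 3, nat_lit 5, nat_lit 4],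
  [nat_lit 2, nat_lit 0, nat_lit 3, nat_lit 2, nat_lit 5, nat_lit 4, nat_lit 3, nat_lit 2, nat_lit 0, nat_lit 1, nat_lit 2],
  [nat_lit 0, nat_lit 1, nat_lit 2, nat_lit 3, nat_lit 2, nat_lit 0, nat_lit 1, nat_lit 2, nat_lit 3],
  [nat_lit 2, nat_lit 0, nat_lit 4, nat_lit 3, nat_lit 2, nat_lit 0, nat_lit 5, nat_lit 4, nat_lit 3]] a) β)) BN)) 0 9 = true := by decide +kernel
theorem ca_ge_k : allZ2 (fun a j => force a fun a => force j fun j => cjL (rl [nat_lit 0] F_P) (rl [nat_lit 1, nat_lit 2, nat_lit 3, nat_lit 4, nat_lit 5, nat_lit 6] P) 1 BN a [j] [j]) 6 1 = true := by decide +kernel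
theorem syat_lt : allL (ltAll 6) syat_W = true := by decide +kernel
theorem sya_r_a : allZ2 (resEnt syat_P syaP syaE syaI (nat_lit 256) (nat_lit 104)) (nat_lit 9) (nat_lit 104) = true := by decide +kernel
theorem sya_b : neL BN (syaB.map syaE) = 0 ∧ ltAll 104 syaB = 0 := by decide +kernel
theorem sya_p : allZ2 (pcEnt syaP (nat_lit 2) syaB syaC) 9 9 = true := by decide +kernel
theorem sya_e : allL (ltAll 9) syae = true := by decide +kernel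
theorem syal0_e_0 : allZ (dent syal0 (wdsP syaP syae) (nat_lit 104)) (nat_lit 0) (nat_lit 7) = true := by decide +kernel
theorem syal0_h : 0 < syal0.n ∧ 0 < syal0.K ∧ syal0.Pt 0 < 104 ∧ syal0.Q (syal0.Pt 0) = 0 := by decide +kernel
theorem syal1_e_0 : allZ (dent syal1 (wdsP syaP syae) (nat_lit 104)) (nat_lit 0) (nat_lit 3) = true := by decide +kernel
theorem syal1_h : 0 < syal1.n ∧ 0 < syal1.K ∧ syal1.Pt 0 < 104 ∧ syal1.Q (syal1.Pt 0) = 0 := by decide +kernel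
theorem syal2_e_0 : allZ (dent syal2 (wdsP syaP syae) (nat_lit 104)) (nat_lit 0) (nat_lit 1) = true := by decide +kernel
theorem syal2_h : 0 < syal2.n ∧ 0 < syal2.K ∧ syal2.Pt 0 < 104 ∧ syal2.Q (syal2.Pt 0) = 0 := by decide +kernel
theorem syal3_e_0 : allZ (dent syal3 (wdsP syaP syae) (nat_lit 104)) (nat_lit 0) (nat_lit 7) = true := by decide +kernel
theorem syal3_h : 0 < syal3.n ∧ 0 < syal3.K ∧ syal3.Pt 0 < 104 ∧ syal3.Q (syal3.Pt 0) = 0 := by decide +kernel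
theorem sya_f3 : (Nat.ble syal3.K 31 && Nat.ble (topK []) syal3.K && fixLetters (wdsP syaP syae) (topK []) (syal3.Pt 0)) = true := by decide +kernel
theorem sya_f2 : (Nat.ble syal2.K 31 && Nat.ble (topK [syal3]) syal2.K && fixLetters (wdsP syaP syae) (topK [syal3]) (syal2.Pt 0)) = true := by decide +kernel
theorem sya_f1 : (Nat.ble syal1.K 31 && Nat.ble (topK [syal2, syal3]) syal1.K && fixLetters (wdsP syaP syae) (topK [syal2, syal3]) (syal1.Pt 0)) = true := by decide +kernel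
theorem sya_f0 : (Nat.ble syal0.K 31 && Nat.ble (topK [syal1, syal2, syal3]) syal0.K && fixLetters (wdsP syaP syae) (topK [syal1, syal2, syal3]) (syal0.Pt 0)) = true := by decide +kernel
theorem sya_c : chainCard [syal0, syal1, syal2, syal3] = 2 ^ 9 ∧ ¬ 2 ^ (9 + 1) ∣ 23040 := by decide +kernel
theorem cvar_lt : allL (ltAll 6) cvar_W = true := by decide +kernel
theorem cva_c0 : (Nat.ble 9 9 && Nat.beq (ltAll 9 []) 0 && Nat.beq (cvaT0.chk (rl [nat_lit 1, nat_lit 2, nat_lit 3, nat_lit 4, nat_lit 5, nat_lit 6] P) syaP cvar_P syaE 6 9 2 4 20 syaB 9 [] 0) 0) = true := by decide +kernel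
theorem Aa_k : Nat.add (ltAll 6 [nat_lit 0, nat_lit 1, nat_lit 2, nat_lit 0, nat_lit 1, nat_lit 2, nat_lit 3, nat_lit 2, nat_lit 0, nat_lit 1, nat_lit 2, nat_lit 3, nat_lit 4, nat_lit 3, nat_lit 2, nat_lit 0, nat_lit 1, nat_lit 2, nat_lit 3, nat_lit 4, nat_lit 5, nat_lit 4, nat_lit 3, nat_lit 2, nat_lit 0, nat_lit 1, nat_lit 2, nat_lit 3, nat_lit 4, nat_lit 5]) (sumL (fun β => Nat.xor (F_P 0 β) (apW (rl [nat_lit 1, nat_lit 2, nat_lit 3, nat_lit 4, nat_lit 5, nat_lit 6] P) [nat_lit 0, nat_lit 1, nat_lit 2, nat_lit 0, nat_lit 1, nat_lit 2, nat_lit 3, nat_lit 2, nat_lit 0, nat_lit 1, nat_lit 2, nat_lit 3, nat_lit 4, nat_lit 3, nat_lit 2, nat_lit 0, nat_lit 1, nat_lit 2, nat_lit 3, nat_lit 4, nat_lit 5, nat_lit 4, nat_lit 3, nat_lit 2, nat_lit 0, nat_lit 1, nat_lit 2, nat_lit 3, nat_lit 4, nat_lit 5] β)) BN) = 0 := by decide +kernel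
theorem wa_0 : allZ (wit (rl [nat_lit 1, nat_lit 2, nat_lit 3, nat_lit 4, nat_lit 5, nat_lit 6] P) 6 [0, 1, 2, 0, 1, 2, 3, 2, 0, 1, 2, 3, 4, 3, 2, 0, 1, 2, 3, 4, 5, 4, 3, 2, 0, 1, 2, 3, 4, 5] cvar_W Ha [2, 0, 0, 1, 0, 2, 1, 3, 3, 1, 3, 1, 1, 1, 1, 1, 2, 0, 1, 3]) (nat_lit 0) (nat_lit 20) = true := by decide +kernel
theorem cbth_lt : allL (ltAll 7) cbth_W = true := by decide +kernel
theorem cbtl0_e_0 : allZ (dent cbtl0 cbth_P (nat_lit 256)) (nat_lit 0) (nat_lit 119) = true := by decide +kernel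
theorem cbtl0_h : 0 < cbtl0.n ∧ 0 < cbtl0.K ∧ cbtl0.Pt 0 < 256 ∧ cbtl0.Q (cbtl0.Pt 0) = 0 := by decide +kernel
theorem cbtl1_e_0 : allZ (dent cbtl1 cbth_P (nat_lit 256)) (nat_lit 0) (nat_lit 55) = true := by decide +kernel
theorem cbtl1_h : 0 < cbtl1.n ∧ 0 < cbtl1.K ∧ cbtl1.Pt 0 < 256 ∧ cbtl1.Q (cbtl1.Pt 0) = 0 := by decide +kernel
theorem cbtl2_e_0 : allZ (dent cbtl2 cbth_P (nat_lit 256)) (nat_lit 0) (nat_lit 26) = true := by decide +kernel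
theorem cbtl2_h : 0 < cbtl2.n ∧ 0 < cbtl2.K ∧ cbtl2.Pt 0 < 256 ∧ cbtl2.Q (cbtl2.Pt 0) = 0 := by decide +kernel
theorem cbtl3_e_0 : allZ (dent cbtl3 cbth_P (nat_lit 256)) (nat_lit 0) (nat_lit 7) = true := by decide +kernel
theorem cbtl3_h : 0 < cbtl3.n ∧ 0 < cbtl3.K ∧ cbtl3.Pt 0 < 256 ∧ cbtl3.Q (cbtl3.Pt 0) = 0 := by decide +kernel
theorem cbt_f3 : (Nat.ble cbtl3.K 13 && Nat.ble (topK []) cbtl3.K && fixLetters cbth_P (topK []) (cbtl3.Pt 0)) = true := by decide +kernel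
theorem cbt_f2 : (Nat.ble cbtl2.K 13 && Nat.ble (topK [cbtl3]) cbtl2.K && fixLetters cbth_P (topK [cbtl3]) (cbtl2.Pt 0)) = true := by decide +kernel
theorem cbt_f1 : (Nat.ble cbtl1.K 13 && Nat.ble (topK [cbtl2, cbtl3]) cbtl1.K && fixLetters cbth_P (topK [cbtl2, cbtl3]) (cbtl1.Pt 0)) = true := by decide +kernel
theorem cbt_f0 : (Nat.ble cbtl0.K 13 && Nat.ble (topK [cbtl1, cbtl2, cbtl3]) cbtl0.K && fixLetters cbth_P (topK [cbtl1, cbtl2, cbtl3]) (cbtl0.Pt 0)) = true := by decide +kernel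
theorem cbt_c : chainCard [cbtl0, cbtl1, cbtl2, cbtl3] = 1451520 := by decide +kernel
theorem cbe_lt : allL (ltAll 7) cbe_W = true := by decide +kernel
theorem cbc3_e_0 : allZ (dent cbc3 cbe_P (nat_lit 256)) (nat_lit 0) (nat_lit 7) = true := by decide +kernel
theorem cbc3_h : 0 < cbc3.n ∧ 0 < cbc3.K ∧ cbc3.Pt 0 < 256 ∧ cbc3.Q (cbc3.Pt 0) = 0 := by decide +kernel
theorem cbtn0_0 : (Nat.ble cbtl3.K 13 && Nat.beq (ltAll 256 [cbtl2.Pt 0, cbtl1.Pt 0, cbtl0.Pt 0]) 0 && kChk cbe_P (rl [nat_lit 1] F_P) cbtn0.Kn 1 BN [cbtl2.Pt 0, cbtl1.Pt 0, cbtl0.Pt 0] && allL (ltAll 1) cbtn0.pre && planOK cbth_P (rl [nat_lit 1] F_P) 1 (cbtl3.Pt 0) cbtn0.plan [cbtl3]) = true := by decide +kernel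
theorem cbtn0_1_0 : allZ (cbtn0.ent P cbth_P (rl [nat_lit 1] F_P) (rl [nat_lit 1] F_P) cbe_P (nat_lit 7) (nat_lit 1) BN cbtl3 [] (memO cbc3)) (nat_lit 0) (nat_lit 8) = true := by decide +kernel
theorem cb_f3 : (Nat.ble cbc3.K 7 && Nat.ble (topK []) cbc3.K && Nat.beq (cbc3.Pt 0) (cbtl3.Pt 0) && Nat.beq (ltAll 256 [cbtl2.Pt 0, cbtl1.Pt 0, cbtl0.Pt 0]) 0 && kChk cbe_P (rl [nat_lit 1] F_P) cbc3.K 1 BN [cbtl2.Pt 0, cbtl1.Pt 0, cbtl0.Pt 0]) = true := by decide +kernel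
theorem cbc2_e_0 : allZ (dent cbc2 cbe_P (nat_lit 256)) (nat_lit 0) (nat_lit 2) = true := by decide +kernel
theorem cbc2_h : 0 < cbc2.n ∧ 0 < cbc2.K ∧ cbc2.Pt 0 < 256 ∧ cbc2.Q (cbc2.Pt 0) = 0 := by decide +kernel
theorem cbtn1_0 : (Nat.ble cbtl2.K 13 && Nat.beq (ltAll 256 [cbtl1.Pt 0, cbtl0.Pt 0]) 0 && kChk cbe_P (rl [nat_lit 1] F_P) cbtn1.Kn 1 BN [cbtl1.Pt 0, cbtl0.Pt 0] && allL (ltAll 1) cbtn1.pre && planOK cbth_P (rl [nat_lit 1] F_P) 1 (cbtl2.Pt 0) cbtn1.plan [cbtl2, cbtl3]) = true := by decide +kernel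
theorem cbtn1_1_0 : allZ (cbtn1.ent P cbth_P (rl [nat_lit 1] F_P) (rl [nat_lit 1] F_P) cbe_P (nat_lit 7) (nat_lit 1) BN cbtl2 [cbtl3] (memO cbc2)) (nat_lit 0) (nat_lit 27) = true := by decide +kernel
theorem cb_f2 : (Nat.ble cbc2.K 7 && Nat.ble (topK [cbc3]) cbc2.K && Nat.beq (cbc2.Pt 0) (cbtl2.Pt 0) && Nat.beq (ltAll 256 [cbtl1.Pt 0, cbtl0.Pt 0]) 0 && kChk cbe_P (rl [nat_lit 1] F_P) cbc2.K 1 BN [cbtl1.Pt 0, cbtl0.Pt 0]) = true := by decide +kernel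
theorem cbc1_e_0 : allZ (dent cbc1 cbe_P (nat_lit 256)) (nat_lit 0) (nat_lit 7) = true := by decide +kernel
theorem cbc1_h : 0 < cbc1.n ∧ 0 < cbc1.K ∧ cbc1.Pt 0 < 256 ∧ cbc1.Q (cbc1.Pt 0) = 0 := by decide +kernel
theorem cbtn2_0 : (Nat.ble cbtl1.K 13 && Nat.beq (ltAll 256 [cbtl0.Pt 0]) 0 && kChk cbe_P (rl [nat_lit 1] F_P) cbtn2.Kn 1 BN [cbtl0.Pt 0] && allL (ltAll 1) cbtn2.pre && planOK cbth_P (rl [nat_lit 1] F_P) 1 (cbtl1.Pt 0) cbtn2.plan [cbtl1, cbtl2, cbtl3]) = true := by decide +kernel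
theorem cbtn2_1_0 : allZ (cbtn2.ent P cbth_P (rl [nat_lit 1] F_P) (rl [nat_lit 1] F_P) cbe_P (nat_lit 7) (nat_lit 1) BN cbtl1 [cbtl2, cbtl3] (memO cbc1)) (nat_lit 0) (nat_lit 56) = true := by decide +kernel
theorem cb_f1 : (Nat.ble cbc1.K 7 && Nat.ble (topK [cbc2, cbc3]) cbc1.K && Nat.beq (cbc1.Pt 0) (cbtl1.Pt 0) && Nat.beq (ltAll 256 [cbtl0.Pt 0]) 0 && kChk cbe_P (rl [nat_lit 1] F_P) cbc1.K 1 BN [cbtl0.Pt 0]) = true := by decide +kernel
theorem cbc0_e_0 : allZ (dent cbc0 cbe_P (nat_lit 256)) (nat_lit 0) (nat_lit 23) = true := by decide +kernel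
theorem cbc0_h : 0 < cbc0.n ∧ 0 < cbc0.K ∧ cbc0.Pt 0 < 256 ∧ cbc0.Q (cbc0.Pt 0) = 0 := by decide +kernel
theorem cbtn3_0 : (Nat.ble cbtl0.K 13 && Nat.beq (ltAll 256 []) 0 && kChk cbe_P (rl [nat_lit 1] F_P) cbtn3.Kn 1 BN [] && allL (ltAll 1) cbtn3.pre && planOK cbth_P (rl [nat_lit 1] F_P) 1 (cbtl0.Pt 0) cbtn3.plan [cbtl0, cbtl1, cbtl2, cbtl3]) = true := by decide +kernel
theorem cbtn3_1_0 : allZ (cbtn3.ent P cbth_P (rl [nat_lit 1] F_P) (rl [nat_lit 1] F_P) cbe_P (nat_lit 7) (nat_lit 1) BN cbtl0 [cbtl1, cbtl2, cbtl3] (memO cbc0)) (nat_lit 0) (nat_lit 120) = true := by decide +kernel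
theorem cb_f0 : (Nat.ble cbc0.K 7 && Nat.ble (topK [cbc1, cbc2, cbc3]) cbc0.K && Nat.beq (cbc0.Pt 0) (cbtl0.Pt 0) && Nat.beq (ltAll 256 []) 0 && kChk cbe_P (rl [nat_lit 1] F_P) cbc0.K 1 BN []) = true := by decide +kernel
theorem cb_c : chainCard [cbc0, cbc1, cbc2, cbc3] = 4608 ∧ topK [cbc0, cbc1, cbc2, cbc3] = 7 := by decide +kernel
theorem cb_le_k : allZ (fun a => Nat.add (ltAll 7 (nth [] [[nat_lit 1, nat_lit 2, nat_lit 3],
  [nat_lit 0, nat_lit 4, nat_lit 0, nat_lit 5, nat_lit 6, nat_lit 4, nat_lit 0, nat_lit 5, nat_lit 6, nat_lit 4, nat_lit 5, nat_lit 6],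
  [nat_lit 4, nat_lit 5, nat_lit 6, nat_lit 4, nat_lit 0, nat_lit 5, nat_lit 6, nat_lit 4, nat_lit 5, nat_lit 6, nat_lit 4, nat_lit 0],
  [nat_lit 4, nat_lit 6, nat_lit 4, nat_lit 0, nat_lit 5, nat_lit 6, nat_lit 4, nat_lit 5],
  [nat_lit 1, nat_lit 2, nat_lit 3, nat_lit 4, nat_lit 6, nat_lit 4, nat_lit 0, nat_lit 5, nat_lit 6, nat_lit 4, nat_lit 0],
  [nat_lit 2, nat_lit 4, nat_lit 5, nat_lit 6, nat_lit 4, nat_lit 0, nat_lit 6],
  [nat_lit 0, nat_lit 1, nat_lit 2, nat_lit 5, nat_lit 6, nat_lit 4, nat_lit 5, nat_lit 6, nat_lit 4]] a)) (sumL (fun β => Nat.xor (cbe_P a β) (apW (rl [nat_lit 11, nat_lit 12, nat_lit 13, nat_lit 14, nat_lit 15, nat_lit 16, nat_lit 17] F_P) (nth [] [[nat_lit 1, nat_lit 2, nat_lit 3],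
  [nat_lit 0, nat_lit 4, nat_lit 0, nat_lit 5, nat_lit 6, nat_lit 4, nat_lit 0, nat_lit 5, nat_lit 6, nat_lit 4, nat_lit 5, nat_lit 6],
  [nat_lit 4, nat_lit 5, nat_lit 6, nat_lit 4, nat_lit 0, nat_lit 5, nat_lit 6, nat_lit 4, nat_lit 5, nat_lit 6, nat_lit 4, nat_lit 0],
  [nat_lit 4, nat_lit 6, nat_lit 4, nat_lit 0, nat_lit 5, nat_lit 6, nat_lit 4, nat_lit 5],
  [nat_lit 1, nat_lit 2, nat_lit 3, nat_lit 4, nat_lit 6, nat_lit 4, nat_lit 0, nat_lit 5, nat_lit 6, nat_lit 4, nat_lit 0],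
  [nat_lit 2, nat_lit 4, nat_lit 5, nat_lit 6, nat_lit 4, nat_lit 0, nat_lit 6],
  [nat_lit 0, nat_lit 1, nat_lit 2, nat_lit 5, nat_lit 6, nat_lit 4, nat_lit 5, nat_lit 6, nat_lit 4]] a) β)) BN)) 0 7 = true := by decide +kernel
theorem cb_ge_k : allZ2 (fun a j => force a fun a => force j fun j => cjL (rl [nat_lit 1] F_P) (rl [nat_lit 11, nat_lit 12, nat_lit 13, nat_lit 14, nat_lit 15, nat_lit 16, nat_lit 17] F_P) 1 BN a [j] [j]) 7 1 = true := by decide +kernel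
theorem sybt_lt : allL (ltAll 7) sybt_W = true := by decide +kernel
theorem syb_r_a : allZ2 (resEnt sybt_P sybP sybE sybI (nat_lit 256) (nat_lit 96)) (nat_lit 9) (nat_lit 96) = true := by decide +kernel
theorem syb_b : neL BN (sybB.map sybE) = 0 ∧ ltAll 96 sybB = 0 := by decide +kernel
theorem syb_p : allZ2 (pcEnt sybP (nat_lit 2) sybB sybC) 9 9 = true := by decide +kernel
theorem syb_e : allL (ltAll 9) sybe = true := by decide +kernel
theorem sybl0_e_0 : allZ (dent sybl0 (wdsP sybP sybe) (nat_lit 96)) (nat_lit 0) (nat_lit 63) = true := by decide +kernel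
theorem sybl0_h : 0 < sybl0.n ∧ 0 < sybl0.K ∧ sybl0.Pt 0 < 96 ∧ sybl0.Q (sybl0.Pt 0) = 0 := by decide +kernel
theorem sybl1_e_0 : allZ (dent sybl1 (wdsP sybP sybe) (nat_lit 96)) (nat_lit 0) (nat_lit 3) = true := by decide +kernel
theorem sybl1_h : 0 < sybl1.n ∧ 0 < sybl1.K ∧ sybl1.Pt 0 < 96 ∧ sybl1.Q (sybl1.Pt 0) = 0 := by decide +kernel
theorem sybl2_e_0 : allZ (dent sybl2 (wdsP sybP sybe) (nat_lit 96)) (nat_lit 0) (nat_lit 1) = true := by decide +kernel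
theorem sybl2_h : 0 < sybl2.n ∧ 0 < sybl2.K ∧ sybl2.Pt 0 < 96 ∧ sybl2.Q (sybl2.Pt 0) = 0 := by decide +kernel
theorem syb_f2 : (Nat.ble sybl2.K 32 && Nat.ble (topK []) sybl2.K && fixLetters (wdsP sybP sybe) (topK []) (sybl2.Pt 0)) = true := by decide +kernel
theorem syb_f1 : (Nat.ble sybl1.K 32 && Nat.ble (topK [sybl2]) sybl1.K && fixLetters (wdsP sybP sybe) (topK [sybl2]) (sybl1.Pt 0)) = true := by decide +kernel
theorem syb_f0 : (Nat.ble sybl0.K 32 && Nat.ble (topK [sybl1, sybl2]) sybl0.K && fixLetters (wdsP sybP sybe) (topK [sybl1, sybl2]) (sybl0.Pt 0)) = true := by decide +kernel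
theorem syb_c : chainCard [sybl0, sybl1, sybl2] = 2 ^ 9 ∧ ¬ 2 ^ (9 + 1) ∣ 4608 := by decide +kernel
theorem cvbr_lt : allL (ltAll 7) cvbr_W = true := by decide +kernel
theorem cvb_c0 : (Nat.ble 9 9 && Nat.beq (ltAll 9 []) 0 && Nat.beq (cvbT0.chk (rl [nat_lit 11, nat_lit 12, nat_lit 13, nat_lit 14, nat_lit 15, nat_lit 16, nat_lit 17] F_P) sybP cvbr_P sybE 7 9 2 4 27 sybB 9 [] 0) 0) = true := by decide +kernel
theorem Ab_k : Nat.add (ltAll 7 [nat_lit 1, nat_lit 2, nat_lit 3]) (sumL (fun β => Nat.xor (F_P 1 β) (apW (rl [nat_lit 11, nat_lit 12, nat_lit 13, nat_lit 14, nat_lit 15, nat_lit 16, nat_lit 17] F_P) [nat_lit 1, nat_lit 2, nat_lit 3] β)) BN) = 0 := by decide +kernel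
theorem wb_0 : allZ (wit (rl [nat_lit 11, nat_lit 12, nat_lit 13, nat_lit 14, nat_lit 15, nat_lit 16, nat_lit 17] F_P) 7 [1, 2, 3] cvbr_W Hb [0, 0, 1, 0, 2, 1, 1, 1, 3, 1, 1, 1, 1, 1, 1, 3, 2, 0, 1, 1, 1, 1, 2, 0, 1, 1, 1]) (nat_lit 0) (nat_lit 27) = true := by decide +kernel
theorem L_lt : allL (ltAll 7) L_W = true := by decide +kernel
theorem L_m_a : allZ2 (matEnt (wdsP P L_W) L_P) (nat_lit 12) (nat_lit 256) = true := by decide +kernel
theorem Ltop_k : allZ (fun a => Nat.add (ltAll 12 (nth [] [[nat_lit 0, nat_lit 2, nat_lit 4, nat_lit 2, nat_lit 7, nat_lit 2, nat_lit 4, nat_lit 2, nat_lit 7, nat_lit 9, nat_lit 1, nat_lit 4, nat_lit 2, nat_lit 7, nat_lit 9, nat_lit 4, nat_lit 11, nat_lit 7, nat_lit 0, nat_lit 4, nat_lit 2, nat_lit 6, nat_lit 5, nat_lit 9, nat_lit 1, nat_lit 11, nat_lit 7, nat_lit 2, nat_lit 4, nat_lit 9, nat_lit 10],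
  [nat_lit 0, nat_lit 2, nat_lit 4, nat_lit 2, nat_lit 7, nat_lit 3, nat_lit 4, nat_lit 3, nat_lit 7, nat_lit 9, nat_lit 1, nat_lit 4, nat_lit 2, nat_lit 7, nat_lit 9, nat_lit 4, nat_lit 11, nat_lit 7, nat_lit 0, nat_lit 4, nat_lit 2, nat_lit 6, nat_lit 5, nat_lit 9, nat_lit 1, nat_lit 11, nat_lit 7, nat_lit 2, nat_lit 4, nat_lit 9, nat_lit 10],
  [nat_lit 1, nat_lit 2, nat_lit 4, nat_lit 3, nat_lit 7, nat_lit 3, nat_lit 4, nat_lit 3, nat_lit 7, nat_lit 9, nat_lit 1, nat_lit 4, nat_lit 2, nat_lit 7, nat_lit 9, nat_lit 4, nat_lit 11, nat_lit 7, nat_lit 0, nat_lit 4, nat_lit 2, nat_lit 6, nat_lit 5, nat_lit 9, nat_lit 1, nat_lit 11, nat_lit 7, nat_lit 2, nat_lit 4, nat_lit 9, nat_lit 10],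
  [nat_lit 0, nat_lit 2, nat_lit 4, nat_lit 3, nat_lit 7, nat_lit 3, nat_lit 4, nat_lit 3, nat_lit 7, nat_lit 9, nat_lit 1, nat_lit 4, nat_lit 2, nat_lit 7, nat_lit 9, nat_lit 4, nat_lit 11, nat_lit 7, nat_lit 0, nat_lit 4, nat_lit 2, nat_lit 6, nat_lit 5, nat_lit 9, nat_lit 1, nat_lit 11, nat_lit 7, nat_lit 2, nat_lit 4, nat_lit 9, nat_lit 10],
  [nat_lit 0, nat_lit 2, nat_lit 4, nat_lit 2, nat_lit 7, nat_lit 2, nat_lit 4, nat_lit 2, nat_lit 7, nat_lit 9, nat_lit 1, nat_lit 2, nat_lit 4, nat_lit 8, nat_lit 0, nat_lit 11, nat_lit 7, nat_lit 3, nat_lit 4, nat_lit 3, nat_lit 7, nat_lit 9, nat_lit 1, nat_lit 4, nat_lit 3, nat_lit 11, nat_lit 8, nat_lit 1, nat_lit 4, nat_lit 8, nat_lit 11],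
  [nat_lit 0, nat_lit 2, nat_lit 4, nat_lit 2, nat_lit 7, nat_lit 2, nat_lit 4, nat_lit 2, nat_lit 7, nat_lit 9, nat_lit 1, nat_lit 2, nat_lit 4, nat_lit 3, nat_lit 7, nat_lit 9, nat_lit 11, nat_lit 7, nat_lit 3, nat_lit 4, nat_lit 3, nat_lit 7, nat_lit 9, nat_lit 4, nat_lit 0, nat_lit 11, nat_lit 7, nat_lit 2, nat_lit 4, nat_lit 9, nat_lit 10],
  [nat_lit 0, nat_lit 2, nat_lit 4, nat_lit 2, nat_lit 7, nat_lit 2, nat_lit 4, nat_lit 2, nat_lit 7, nat_lit 9, nat_lit 1, nat_lit 2, nat_lit 4, nat_lit 3, nat_lit 7, nat_lit 9, nat_lit 4, nat_lit 11, nat_lit 7, nat_lit 0, nat_lit 4, nat_lit 2, nat_lit 6, nat_lit 5, nat_lit 9, nat_lit 1, nat_lit 11, nat_lit 7, nat_lit 2, nat_lit 4, nat_lit 8]] a)) (sumL (fun β => Nat.xor (P a β) (apW L_P (nth [] [[nat_lit 0, nat_lit 2, nat_lit 4, nat_lit 2, nat_lit 7, nat_lit 2, nat_lit 4, nat_lit 2, nat_lit 7, nat_lit 9, nat_lit 1, nat_lit 4, nat_lit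 2, nat_lit 7, nat_lit 9, nat_lit 4, nat_lit 11, nat_lit 7, nat_lit 0, nat_lit 4, nat_lit 2, nat_lit 6, nat_lit 5, nat_lit 9, nat_lit 1, nat_lit 11, nat_lit 7, nat_lit 2, nat_lit 4, nat_lit 9, nat_lit 10],
  [nat_lit 0, nat_lit 2, nat_lit 4, nat_lit 2, nat_lit 7, nat_lit 3, nat_lit 4, nat_lit 3, nat_lit 7, nat_lit 9, nat_lit 1, nat_lit 4, nat_lit 2, nat_lit 7, nat_lit 9, nat_lit 4, nat_lit 11, nat_lit 7, nat_lit 0, nat_lit 4, nat_lit 2, nat_lit 6, nat_lit 5, nat_lit 9, nat_lit 1, nat_lit 11, nat_lit 7, nat_lit 2, nat_lit 4, nat_lit 9, nat_lit 10],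
  [nat_lit 1, nat_lit 2, nat_lit 4, nat_lit 3, nat_lit 7, nat_lit 3, nat_lit 4, nat_lit 3, nat_lit 7, nat_lit 9, nat_lit 1, nat_lit 4, nat_lit 2, nat_lit 7, nat_lit 9, nat_lit 4, nat_lit 11, nat_lit 7, nat_lit 0, nat_lit 4, nat_lit 2, nat_lit 6, nat_lit 5, nat_lit 9, nat_lit 1, nat_lit 11, nat_lit 7, nat_lit 2, nat_lit 4, nat_lit 9, nat_lit 10],
  [nat_lit 0, nat_lit 2, nat_lit 4, nat_lit 3, nat_lit 7, nat_lit 3, nat_lit 4, nat_lit 3, nat_lit 7, nat_lit 9, nat_lit 1, nat_lit 4, nat_lit 2, nat_lit 7, nat_lit 9, nat_lit 4, nat_lit 11, nat_lit 7, nat_lit 0, nat_lit 4, nat_lit 2, nat_lit 6, nat_lit 5, nat_lit 9, nat_lit 1, nat_lit 11, nat_lit 7, nat_lit 2, nat_lit 4, nat_lit 9, nat_lit 10],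
  [nat_lit 0, nat_lit 2, nat_lit 4, nat_lit 2, nat_lit 7, nat_lit 2, nat_lit 4, nat_lit 2, nat_lit 7, nat_lit 9, nat_lit 1, nat_lit 2, nat_lit 4, nat_lit 8, nat_lit 0, nat_lit 11, nat_lit 7, nat_lit 3, nat_lit 4, nat_lit 3, nat_lit 7, nat_lit 9, nat_lit 1, nat_lit 4, nat_lit 3, nat_lit 11, nat_lit 8, nat_lit 1, nat_lit 4, nat_lit 8, nat_lit 11],
  [nat_lit 0, nat_lit 2, nat_lit 4, nat_lit 2, nat_lit 7, nat_lit 2, nat_lit 4, nat_lit 2, nat_lit 7, nat_lit 9, nat_lit 1, nat_lit 2, nat_lit 4, nat_lit 3, nat_lit 7, nat_lit 9, nat_lit 11, nat_lit 7, nat_lit 3, nat_lit 4, nat_lit 3, nat_lit 7, nat_lit 9, nat_lit 4, nat_lit 0, nat_lit 11, nat_lit 7, nat_lit 2, nat_lit 4, nat_lit 9, nat_lit 10],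
  [nat_lit 0, nat_lit 2, nat_lit 4, nat_lit 2, nat_lit 7, nat_lit 2, nat_lit 4, nat_lit 2, nat_lit 7, nat_lit 9, nat_lit 1, nat_lit 2, nat_lit 4, nat_lit 3, nat_lit 7, nat_lit 9, nat_lit 4, nat_lit 11, nat_lit 7, nat_lit 0, nat_lit 4, nat_lit 2, nat_lit 6, nat_lit 5, nat_lit 9, nat_lit 1, nat_lit 11, nat_lit 7, nat_lit 2, nat_lit 4, nat_lit 8]] a) β)) BN)) 0 7 = true := by decide +kernel
theorem PPc : allZ (fun i => cj3 P L_P F_P 7 12 18 BN (nth [] HP i) (nth [] PP i) [2]) 0 15 = true ∧ PP.length = 15 ∧ allZ (fun k => fixL L_P 12 BN [k, k, k] + fixL L_P 12 BN [k, Nat.xor 1 k]) 0 12 = true := by decide +kernel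
theorem tcE2e_a : allZ2 (ent2 TE2 EE2 (selR RLE2 IE2) DE2 (nat_lit 3) (nat_lit 3) (nat_lit 3) (nat_lit 3) (nat_lit 2) (nat_lit 7) (nat_lit 0)) (nat_lit 2) (nat_lit 3) = true := by decide +kernel
theorem tcE2p_0 : allZ (eps2 TE2 EE2 JE2 WE2 RLE2 (nat_lit 3) (nat_lit 3) (nat_lit 3) (nat_lit 2) (nat_lit 0)) (nat_lit 0) (nat_lit 0) = true := by decide +kernel
theorem tcE2r : rulesChk RE cE2.Sl RLE2 (nat_lit 2) = true := by decide +kernel
theorem tcE2n : 0 < cE2.M ∧ cE2.n0 ≤ cE2.M ∧ 0 < cE2.K ∧ cE2.K ≤ 12 ∧ cE2.D 0 = 0 := by decide +kernel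
theorem tcE2q : cE2.M - cE2.n = 0 := by decide +kernel
theorem stE2 : allL (ltAll 0) cE2.Sl = true ∧ 0 < cE2.n0 ∧ cE2.K = 2 ∧ cE2.n0 * 1 = 3 := by decide +kernel
theorem tcE4e_a : allZ2 (ent2 TE4 EE4 (selR RLE4 IE4) DE4 (nat_lit 3) (nat_lit 4) (nat_lit 4) (nat_lit 4) (nat_lit 4) (nat_lit 31) (nat_lit 0)) (nat_lit 4) (nat_lit 4) = true := by decide +kernel
theorem tcE4p_0 : allZ (eps2 TE4 EE4 JE4 WE4 RLE4 (nat_lit 3) (nat_lit 4) (nat_lit 4) (nat_lit 4) (nat_lit 0)) (nat_lit 0) (nat_lit 0) = true := by decide +kernel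
theorem tcE4r : rulesChk RE cE4.Sl RLE4 (nat_lit 4) = true := by decide +kernel
theorem tcE4n : 0 < cE4.M ∧ cE4.n0 ≤ cE4.M ∧ 0 < cE4.K ∧ cE4.K ≤ 12 ∧ cE4.D 0 = 0 := by decide +kernel
theorem tcE4q : cE4.M - cE4.n = 0 := by decide +kernel
theorem stE4 : allL (ltAll 2) cE4.Sl = true ∧ 0 < cE4.n0 ∧ cE4.K = 4 ∧ cE4.n0 * 3 = 12 := by decide +kernel
theorem tcE6e_a : allZ2 (ent2 TE6 EE6 (selR RLE6 IE6) DE6 (nat_lit 7) (nat_lit 5) (nat_lit 5) (nat_lit 5) (nat_lit 6) (nat_lit 31) (nat_lit 0)) (nat_lit 6) (nat_lit 5) = true := by decide +kernel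
theorem tcE6p_0 : allZ (eps2 TE6 EE6 JE6 WE6 RLE6 (nat_lit 7) (nat_lit 5) (nat_lit 5) (nat_lit 6) (nat_lit 0)) (nat_lit 0) (nat_lit 0) = true := by decide +kernel
theorem tcE6r : rulesChk RE cE6.Sl RLE6 (nat_lit 6) = true := by decide +kernel
theorem tcE6n : 0 < cE6.M ∧ cE6.n0 ≤ cE6.M ∧ 0 < cE6.K ∧ cE6.K ≤ 12 ∧ cE6.D 0 = 0 := by decide +kernel
theorem tcE6q : cE6.M - cE6.n = 0 := by decide +kernel
theorem stE6 : allL (ltAll 4) cE6.Sl = true ∧ 0 < cE6.n0 ∧ cE6.K = 6 ∧ cE6.n0 * 12 = 60 := by decide +kernel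
theorem tcE8e_a : allZ2 (ent2 TE8 EE8 (selR RLE8 IE8) DE8 (nat_lit 15) (nat_lit 16) (nat_lit 16) (nat_lit 16) (nat_lit 8) (nat_lit 255) (nat_lit 0)) (nat_lit 8) (nat_lit 16) = true := by decide +kernel
theorem tcE8p_0 : allZ (eps2 TE8 EE8 JE8 WE8 RLE8 (nat_lit 15) (nat_lit 16) (nat_lit 16) (nat_lit 8) (nat_lit 0)) (nat_lit 0) (nat_lit 0) = true := by decide +kernel
theorem tcE8r : rulesChk RE cE8.Sl RLE8 (nat_lit 8) = true := by decide +kernel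
theorem tcE8n : 0 < cE8.M ∧ cE8.n0 ≤ cE8.M ∧ 0 < cE8.K ∧ cE8.K ≤ 12 ∧ cE8.D 0 = 0 := by decide +kernel
theorem tcE8q : cE8.M - cE8.n = 0 := by decide +kernel
theorem stE8 : allL (ltAll 6) cE8.Sl = true ∧ 0 < cE8.n0 ∧ cE8.K = 8 ∧ cE8.n0 * 60 = 960 := by decide +kernel
theorem tcE10e_a : allZ2 (ent2 TE10 EE10 (selR RLE10 IE10) DE10 (nat_lit 31) (nat_lit 27) (nat_lit 27) (nat_lit 27) (nat_lit 10) (nat_lit 511) (nat_lit 0)) (nat_lit 10) (nat_lit 27) = true := by decide +kernel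
theorem tcE10p_0 : allZ (eps2 TE10 EE10 JE10 WE10 RLE10 (nat_lit 31) (nat_lit 27) (nat_lit 27) (nat_lit 10) (nat_lit 0)) (nat_lit 0) (nat_lit 0) = true := by decide +kernel
theorem tcE10r : rulesChk RE cE10.Sl RLE10 (nat_lit 10) = true := by decide +kernel
theorem tcE10n : 0 < cE10.M ∧ cE10.n0 ≤ cE10.M ∧ 0 < cE10.K ∧ cE10.K ≤ 12 ∧ cE10.D 0 = 0 := by decide +kernel
theorem tcE10q : cE10.M - cE10.n = 0 := by decide +kernel
theorem stE10 : allL (ltAll 8) cE10.Sl = true ∧ 0 < cE10.n0 ∧ cE10.K = 10 ∧ cE10.n0 * 960 = 25920 := by decide +kernel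
theorem tcE12e_a : allZ2 (ent2 TE12 EE12 (selR RLE12 IE12) DE12 (nat_lit 63) (nat_lit 56) (nat_lit 56) (nat_lit 59) (nat_lit 12) (nat_lit 1023) (nat_lit 1)) (nat_lit 12) (nat_lit 59) = true := by decide +kernel
theorem tcE12p_0 : allZ (eps2 TE12 EE12 JE12 WE12 RLE12 (nat_lit 63) (nat_lit 56) (nat_lit 59) (nat_lit 12) (nat_lit 1)) (nat_lit 0) (nat_lit 3) = true := by decide +kernel
theorem tcE12r : rulesChk RE cE12.Sl RLE12 (nat_lit 12) = true := by decide +kernel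
theorem tcE12n : 0 < cE12.M ∧ cE12.n0 ≤ cE12.M ∧ 0 < cE12.K ∧ cE12.K ≤ 12 ∧ cE12.D 0 = 0 := by decide +kernel
theorem tcE12q : cE12.M - cE12.n = 3 := by decide +kernel
theorem stE12 : allL (ltAll 10) cE12.Sl = true ∧ 0 < cE12.n0 ∧ cE12.K = 12 ∧ cE12.n0 * 25920 = 1451520 := by decide +kernel
theorem ivE : ivChk RE 12 = true := by decide +kernel

theorem F_m : ∀ k < 18, ∀ i < 256, (matEnt (wdsP P F_W) F_P) k i = 0 := allZ2_sound F_m_a
theorem F_act {G Ω : Type*} [Group G] [MulAction G Ω] {g : ℕ → G} {pt : ℕ → Ω}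
    (M : Md g pt P 256 7 BN 1451520) : Act (wds g F_W) pt F_P 256 18 :=
  act_mat (M.wact F_lt) F_m
theorem lx_e : ∀ i < 134, (dent lx P (nat_lit 256)) i = 0 := allZ_sound0 lx_e_0
theorem lx_ok : DOK lx P 256 := ⟨lx_h, lx_e⟩
theorem sS_act {G Ω : Type*} [Group G] [MulAction G Ω] {g : ℕ → G} {pt : ℕ → Ω}
    (M : Md g pt P 256 7 BN 1451520) : Act (rl [5, 6] (wds g F_W)) pt (rl [nat_lit 5, nat_lit 6] F_P) 256 2 :=
  (F_act M).rl (by decide)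
theorem sT_act {G Ω : Type*} [Group G] [MulAction G Ω] {g : ℕ → G} {pt : ℕ → Ω}
    (M : Md g pt P 256 7 BN 1451520) : Act (rl [4] (wds g F_W)) pt (rl [nat_lit 4] F_P) 256 1 :=
  (F_act M).rl (by decide)
theorem cSth_act {G Ω : Type*} [Group G] [MulAction G Ω] {g : ℕ → G} {pt : ℕ → Ω}
    (M : Md g pt P 256 7 BN 1451520) : Act (wds g cSth_W) pt cSth_P 256 13 :=
  M.wact cSth_lt
theorem cStl0_e : ∀ i < 119, (dent cStl0 cSth_P (nat_lit 256)) i = 0 := allZ_sound0 cStl0_e_0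
theorem cStl0_ok : DOK cStl0 cSth_P 256 := ⟨cStl0_h, cStl0_e⟩
theorem cStl1_e : ∀ i < 55, (dent cStl1 cSth_P (nat_lit 256)) i = 0 := allZ_sound0 cStl1_e_0
theorem cStl1_ok : DOK cStl1 cSth_P 256 := ⟨cStl1_h, cStl1_e⟩
theorem cStl2_e : ∀ i < 26, (dent cStl2 cSth_P (nat_lit 256)) i = 0 := allZ_sound0 cStl2_e_0
theorem cStl2_ok : DOK cStl2 cSth_P 256 := ⟨cStl2_h, cStl2_e⟩
theorem cStl3_e : ∀ i < 7, (dent cStl3 cSth_P (nat_lit 256)) i = 0 := allZ_sound0 cStl3_e_0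
theorem cStl3_ok : DOK cStl3 cSth_P 256 := ⟨cStl3_h, cStl3_e⟩
theorem cSt_low {G Ω : Type*} [Group G] [MulAction G Ω] {g : ℕ → G} {pt : ℕ → Ω}
    (M : Md g pt P 256 7 BN 1451520) : SLow (gi (wds g cSth_W)) pt 256 [cStl0, cStl1, cStl2, cStl3] :=
  ((((SLow.nil).cons cStl3_ok (cSth_act M) cSt_f3).cons cStl2_ok (cSth_act M) cSt_f2).cons cStl1_ok (cSth_act M) cSt_f1).cons cStl0_ok (cSth_act M) cSt_f0
theorem cSt_S0 {G Ω : Type*} [Group G] [MulAction G Ω] {g : ℕ → G} {pt : ℕ → Ω}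
    (M : Md g pt P 256 7 BN 1451520) : Stage ⊤ (wds g cSth_W) pt 256 [cStl0, cStl1, cStl2, cStl3] [] :=
  M.stage (cSt_low M) cSt_c
theorem cSt_S1 {G Ω : Type*} [Group G] [MulAction G Ω] {g : ℕ → G} {pt : ℕ → Ω}
    (M : Md g pt P 256 7 BN 1451520) : Stage ⊤ (wds g cSth_W) pt 256 [cStl1, cStl2, cStl3] [cStl0.Pt 0] :=
  (cSt_S0 M).next
theorem cSt_S2 {G Ω : Type*} [Group G] [MulAction G Ω] {g : ℕ → G} {pt : ℕ → Ω}
    (M : Md g pt P 256 7 BN 1451520) : Stage ⊤ (wds g cSth_W) pt 256 [cStl2, cStl3] [cStl1.Pt 0, cStl0.Pt 0] :=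
  (cSt_S1 M).next
theorem cSt_S3 {G Ω : Type*} [Group G] [MulAction G Ω] {g : ℕ → G} {pt : ℕ → Ω}
    (M : Md g pt P 256 7 BN 1451520) : Stage ⊤ (wds g cSth_W) pt 256 [cStl3] [cStl2.Pt 0, cStl1.Pt 0, cStl0.Pt 0] :=
  (cSt_S2 M).next
theorem cSt_S4 {G Ω : Type*} [Group G] [MulAction G Ω] {g : ℕ → G} {pt : ℕ → Ω}
    (M : Md g pt P 256 7 BN 1451520) : Stage ⊤ (wds g cSth_W) pt 256 [] [cStl3.Pt 0, cStl2.Pt 0, cStl1.Pt 0, cStl0.Pt 0] :=
  (cSt_S3 M).next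
theorem cSe_act {G Ω : Type*} [Group G] [MulAction G Ω] {g : ℕ → G} {pt : ℕ → Ω}
    (M : Md g pt P 256 7 BN 1451520) : Act (wds g cSe_W) pt cSe_P 256 1 :=
  M.wact cSe_lt
theorem cSc0_e : ∀ i < 1, (dent cSc0 cSe_P (nat_lit 256)) i = 0 := allZ_sound0 cSc0_e_0
theorem cSc0_ok : DOK cSc0 cSe_P 256 := ⟨cSc0_h, cSc0_e⟩
theorem cStn0_1 : ∀ i < 120, (cStn0.ent P cSth_P (rl [nat_lit 5, nat_lit 6] F_P) (rl [nat_lit 5, nat_lit 6] F_P) cSe_P (nat_lit 7) (nat_lit 2) BN cStl0 [cStl1, cStl2, cStl3] (memO cSc0)) i = 0 := allZ_sound0 cStn0_1_0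
theorem cStn0_t {G Ω : Type*} [Group G] [MulAction G Ω] {g : ℕ → G} {pt : ℕ → Ω}
    (M : Md g pt P 256 7 BN 1451520) : TrO (gen (wds g cSth_W) cStl0.K) (rl [5, 6] (wds g F_W)) (rl [5, 6] (wds g F_W)) 2 pt 256 (cStl0.Pt 0) (memO cSc0) :=
  node M (cSt_S0 M) (cSth_act M) (sS_act M) (sS_act M) cStn0 ((cSe_act M).mono (by decide)) (fun _ _ => trivial) cStn0_0 cStn0_1 (List.forall_mem_nil _)
theorem cS {G Ω : Type*} [Group G] [MulAction G Ω] {g : ℕ → G} {pt : ℕ → Ω}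
    (M : Md g pt P 256 7 BN 1451520) : Cen ⊤ (rl [5, 6] (wds g F_W)) 2 (wds g cSe_W) pt 256 [cSc0] :=
  (cSt_S0 M).top ▸ Cen.lev M (cSt_S0 M) (Cen.triv (cSt_S1 M) (Cen.triv (cSt_S2 M) (Cen.triv (cSt_S3 M) (Cen.bot) (forced (cSt_S3 M) (cSth_act M) (sS_act M) _ _ cS_f3)) (forced (cSt_S2 M) (cSth_act M) (sS_act M) _ _ cS_f2)) (forced (cSt_S1 M) (cSth_act M) (sS_act M) _ _ cS_f1)) (cStn0_t M) (sS_act M) (cSe_act M) (fun _ _ => trivial) cSc0_ok cS_f0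
theorem cS_eq {G Ω : Type*} [Group G] [MulAction G Ω] {g : ℕ → G} {pt : ℕ → Ω}
    (M : Md g pt P 256 7 BN 1451520) : Subgroup.centralizer (gen (rl [5, 6] (wds g F_W)) 2) = gen (wds g cSe_W) 1 ∧ Nat.card (gen (wds g cSe_W) 1) = 2 :=
  cS_c.1 ▸ cS_c.2 ▸ ⟨(cS M).cent, (cS M).card M.inj⟩
theorem cS_le {G Ω : Type*} [Group G] [MulAction G Ω] {g : ℕ → G} {pt : ℕ → Ω}
    (M : Md g pt P 256 7 BN 1451520) : gen (wds g cSe_W) 1 ≤ gen (rl [4] (wds g F_W)) 1 :=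
  M.gen_le (sT_act M) (cSe_act M) cS_le_k
theorem cS_ge {G Ω : Type*} [Group G] [MulAction G Ω] {g : ℕ → G} {pt : ℕ → Ω}
    (M : Md g pt P 256 7 BN 1451520) : gen (rl [4] (wds g F_W)) 1 ≤ Subgroup.centralizer (gen (rl [5, 6] (wds g F_W)) 2 : Set G) :=
  H0.Fi.comm_all M (sS_act M) (sT_act M) cS_ge_k
theorem syt_act {G Ω : Type*} [Group G] [MulAction G Ω] {g : ℕ → G} {pt : ℕ → Ω}
    (M : Md g pt P 256 7 BN 1451520) : Act (wds g syt_W) pt syt_P 256 9 :=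
  M.wact syt_lt
theorem sy_r : ∀ k < 9, ∀ i < 125, (resEnt syt_P syP syE syI (nat_lit 256) (nat_lit 125)) k i = 0 := allZ2_sound sy_r_a
theorem sy_sm {G Ω : Type*} [Group G] [MulAction G Ω] {g : ℕ → G} {pt : ℕ → Ω}
    (M : Md g pt P 256 7 BN 1451520) : Sm (wds g syt_W) (fun i => pt (syE i)) syP 125 9 syB ∧ ∀ i < 125, syE i < 256 :=
  M.res (syt_act M) (by decide) sy_r sy_b
theorem syl0_e : ∀ i < 31, (dent syl0 (wdsP syP sye) (nat_lit 125)) i = 0 := allZ_sound0 syl0_e_0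
theorem syl0_ok : DOK syl0 (wdsP syP sye) 125 := ⟨syl0_h, syl0_e⟩
theorem syl1_e : ∀ i < 3, (dent syl1 (wdsP syP sye) (nat_lit 125)) i = 0 := allZ_sound0 syl1_e_0
theorem syl1_ok : DOK syl1 (wdsP syP sye) 125 := ⟨syl1_h, syl1_e⟩
theorem syl2_e : ∀ i < 1, (dent syl2 (wdsP syP sye) (nat_lit 125)) i = 0 := allZ_sound0 syl2_e_0
theorem syl2_ok : DOK syl2 (wdsP syP sye) 125 := ⟨syl2_h, syl2_e⟩
theorem syl3_e : ∀ i < 1, (dent syl3 (wdsP syP sye) (nat_lit 125)) i = 0 := allZ_sound0 syl3_e_0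
theorem syl3_ok : DOK syl3 (wdsP syP sye) 125 := ⟨syl3_h, syl3_e⟩
theorem sy_low {G Ω : Type*} [Group G] [MulAction G Ω] {g : ℕ → G} {pt : ℕ → Ω}
    (M : Md g pt P 256 7 BN 1451520) : SLow (gi (wds (wds g syt_W) sye)) (fun i => pt (syE i)) 125 [syl0, syl1, syl2, syl3] :=
  ((((SLow.nil).cons syl3_ok ((sy_sm M).1.act.wds sy_e 21) sy_f3).cons syl2_ok ((sy_sm M).1.act.wds sy_e 21) sy_f2).cons syl1_ok ((sy_sm M).1.act.wds sy_e 21) sy_f1).cons syl0_ok ((sy_sm M).1.act.wds sy_e 21) sy_f0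
theorem sy_pc {G Ω : Type*} [Group G] [MulAction G Ω] {g : ℕ → G} {pt : ℕ → Ω}
    (M : Md g pt P 256 7 BN 1451520) : PC (wds g syt_W) 9 2 :=
  have := M.fin
  ((sy_sm M).1.pc0 (by decide) sy_p).pc (sy_low M) (sy_sm M).1.inj
    (fun k => evA_mem_gen _ (nth_lt sy_e k)) M.card ⟨by decide, sy_c⟩
theorem ivr_act {G Ω : Type*} [Group G] [MulAction G Ω] {g : ℕ → G} {pt : ℕ → Ω}
    (M : Md g pt P 256 7 BN 1451520) : Act (wds g ivr_W) pt ivr_P 256 4 :=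
  M.wact ivr_lt
theorem iv_0 {G Ω : Type*} [Group G] [MulAction G Ω] {g : ℕ → G} {pt : ℕ → Ω}
    (M : Md g pt P 256 7 BN 1451520) : Cov (wds g syt_W) (wds g ivr_W) 2 4 9 (evA (wds g syt_W) []) :=
  have := M.fin
  ivT0.cov M (sy_sm M).1 (sy_sm M).2 (ivr_act M) (sy_pc M) _ _ iv_c0
theorem iv {G Ω : Type*} [Group G] [MulAction G Ω] {g : ℕ → G} {pt : ℕ → Ω}
    (M : Md g pt P 256 7 BN 1451520) {y : G} {e : ℕ} (hy : y ^ 2 ^ e = 1) (hq : y ^ 2 = 1) : Good (wds g ivr_W) 4 y :=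
  have := M.fin
  Cov.all (sy_pc M) (iv_0 M) hy hq
theorem Ca_act {G Ω : Type*} [Group G] [MulAction G Ω] {g : ℕ → G} {pt : ℕ → Ω}
    (M : Md g pt P 256 7 BN 1451520) : Act (rl [1, 2, 3, 4, 5, 6] g) pt (rl [nat_lit 1, nat_lit 2, nat_lit 3, nat_lit 4, nat_lit 5, nat_lit 6] P) 256 6 :=
  M.act.rl (by decide)
theorem Cb_act {G Ω : Type*} [Group G] [MulAction G Ω] {g : ℕ → G} {pt : ℕ → Ω}
    (M : Md g pt P 256 7 BN 1451520) : Act (rl [11, 12, 13, 14, 15, 16, 17] (wds g F_W)) pt (rl [nat_lit 11, nat_lit 12, nat_lit 13, nat_lit 14, nat_lit 15, nat_lit 16, nat_lit 17] F_P) 256 7 :=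
  (F_act M).rl (by decide)
theorem Xa_act {G Ω : Type*} [Group G] [MulAction G Ω] {g : ℕ → G} {pt : ℕ → Ω}
    (M : Md g pt P 256 7 BN 1451520) : Act (rl [0] (wds g F_W)) pt (rl [nat_lit 0] F_P) 256 1 :=
  (F_act M).rl (by decide)
theorem cath_act {G Ω : Type*} [Group G] [MulAction G Ω] {g : ℕ → G} {pt : ℕ → Ω}
    (M : Md g pt P 256 7 BN 1451520) : Act (wds g cath_W) pt cath_P 256 15 :=
  M.wact cath_lt
theorem catl0_e : ∀ i < 134, (dent catl0 cath_P (nat_lit 256)) i = 0 := allZ_sound0 catl0_e_0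
theorem catl0_ok : DOK catl0 cath_P 256 := ⟨catl0_h, catl0_e⟩
theorem catl1_e : ∀ i < 13, (dent catl1 cath_P (nat_lit 256)) i = 0 := allZ_sound0 catl1_e_0
theorem catl1_ok : DOK catl1 cath_P 256 := ⟨catl1_h, catl1_e⟩
theorem catl2_e : ∀ i < 11, (dent catl2 cath_P (nat_lit 256)) i = 0 := allZ_sound0 catl2_e_0
theorem catl2_ok : DOK catl2 cath_P 256 := ⟨catl2_h, catl2_e⟩
theorem catl3_e : ∀ i < 1, (dent catl3 cath_P (nat_lit 256)) i = 0 := allZ_sound0 catl3_e_0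
theorem catl3_ok : DOK catl3 cath_P 256 := ⟨catl3_h, catl3_e⟩
theorem catl4_e : ∀ i < 7, (dent catl4 cath_P (nat_lit 256)) i = 0 := allZ_sound0 catl4_e_0
theorem catl4_ok : DOK catl4 cath_P 256 := ⟨catl4_h, catl4_e⟩
theorem catl5_e : ∀ i < 1, (dent catl5 cath_P (nat_lit 256)) i = 0 := allZ_sound0 catl5_e_0
theorem catl5_ok : DOK catl5 cath_P 256 := ⟨catl5_h, catl5_e⟩
theorem catl6_e : ∀ i < 1, (dent catl6 cath_P (nat_lit 256)) i = 0 := allZ_sound0 catl6_e_0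
theorem catl6_ok : DOK catl6 cath_P 256 := ⟨catl6_h, catl6_e⟩
theorem cat_low {G Ω : Type*} [Group G] [MulAction G Ω] {g : ℕ → G} {pt : ℕ → Ω}
    (M : Md g pt P 256 7 BN 1451520) : SLow (gi (wds g cath_W)) pt 256 [catl0, catl1, catl2, catl3, catl4, catl5, catl6] :=
  (((((((SLow.nil).cons catl6_ok (cath_act M) cat_f6).cons catl5_ok (cath_act M) cat_f5).cons catl4_ok (cath_act M) cat_f4).cons catl3_ok (cath_act M) cat_f3).cons catl2_ok (cath_act M) cat_f2).cons catl1_ok (cath_act M) cat_f1).cons catl0_ok (cath_act M) cat_f0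
theorem cat_S0 {G Ω : Type*} [Group G] [MulAction G Ω] {g : ℕ → G} {pt : ℕ → Ω}
    (M : Md g pt P 256 7 BN 1451520) : Stage ⊤ (wds g cath_W) pt 256 [catl0, catl1, catl2, catl3, catl4, catl5, catl6] [] :=
  M.stage (cat_low M) cat_c
theorem cat_S1 {G Ω : Type*} [Group G] [MulAction G Ω] {g : ℕ → G} {pt : ℕ → Ω}
    (M : Md g pt P 256 7 BN 1451520) : Stage ⊤ (wds g cath_W) pt 256 [catl1, catl2, catl3, catl4, catl5, catl6] [catl0.Pt 0] :=
  (cat_S0 M).next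
theorem cat_S2 {G Ω : Type*} [Group G] [MulAction G Ω] {g : ℕ → G} {pt : ℕ → Ω}
    (M : Md g pt P 256 7 BN 1451520) : Stage ⊤ (wds g cath_W) pt 256 [catl2, catl3, catl4, catl5, catl6] [catl1.Pt 0, catl0.Pt 0] :=
  (cat_S1 M).next
theorem cat_S3 {G Ω : Type*} [Group G] [MulAction G Ω] {g : ℕ → G} {pt : ℕ → Ω}
    (M : Md g pt P 256 7 BN 1451520) : Stage ⊤ (wds g cath_W) pt 256 [catl3, catl4, catl5, catl6] [catl2.Pt 0, catl1.Pt 0, catl0.Pt 0] :=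
  (cat_S2 M).next
theorem cat_S4 {G Ω : Type*} [Group G] [MulAction G Ω] {g : ℕ → G} {pt : ℕ → Ω}
    (M : Md g pt P 256 7 BN 1451520) : Stage ⊤ (wds g cath_W) pt 256 [catl4, catl5, catl6] [catl3.Pt 0, catl2.Pt 0, catl1.Pt 0, catl0.Pt 0] :=
  (cat_S3 M).next
theorem cat_S5 {G Ω : Type*} [Group G] [MulAction G Ω] {g : ℕ → G} {pt : ℕ → Ω}
    (M : Md g pt P 256 7 BN 1451520) : Stage ⊤ (wds g cath_W) pt 256 [catl5, catl6] [catl4.Pt 0, catl3.Pt 0, catl2.Pt 0, catl1.Pt 0, catl0.Pt 0] :=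
  (cat_S4 M).next
theorem cat_S6 {G Ω : Type*} [Group G] [MulAction G Ω] {g : ℕ → G} {pt : ℕ → Ω}
    (M : Md g pt P 256 7 BN 1451520) : Stage ⊤ (wds g cath_W) pt 256 [catl6] [catl5.Pt 0, catl4.Pt 0, catl3.Pt 0, catl2.Pt 0, catl1.Pt 0, catl0.Pt 0] :=
  (cat_S5 M).next
theorem cat_S7 {G Ω : Type*} [Group G] [MulAction G Ω] {g : ℕ → G} {pt : ℕ → Ω}
    (M : Md g pt P 256 7 BN 1451520) : Stage ⊤ (wds g cath_W) pt 256 [] [catl6.Pt 0, catl5.Pt 0, catl4.Pt 0, catl3.Pt 0, catl2.Pt 0, catl1.Pt 0, catl0.Pt 0] :=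
  (cat_S6 M).next
theorem cae_act {G Ω : Type*} [Group G] [MulAction G Ω] {g : ℕ → G} {pt : ℕ → Ω}
    (M : Md g pt P 256 7 BN 1451520) : Act (wds g cae_W) pt cae_P 256 9 :=
  M.wact cae_lt
theorem cac6_e : ∀ i < 1, (dent cac6 cae_P (nat_lit 256)) i = 0 := allZ_sound0 cac6_e_0
theorem cac6_ok : DOK cac6 cae_P 256 := ⟨cac6_h, cac6_e⟩
theorem catn0_1 : ∀ i < 2, (catn0.ent P cath_P (rl [nat_lit 0] F_P) (rl [nat_lit 0] F_P) cae_P (nat_lit 7) (nat_lit 1) BN catl6 [] (memO cac6)) i = 0 := allZ_sound0 catn0_1_0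
theorem catn0_t {G Ω : Type*} [Group G] [MulAction G Ω] {g : ℕ → G} {pt : ℕ → Ω}
    (M : Md g pt P 256 7 BN 1451520) : TrO (gen (wds g cath_W) catl6.K) (rl [0] (wds g F_W)) (rl [0] (wds g F_W)) 1 pt 256 (catl6.Pt 0) (memO cac6) :=
  node M (cat_S6 M) (cath_act M) (Xa_act M) (Xa_act M) catn0 ((cae_act M).mono (by decide)) (fun _ _ => trivial) catn0_0 catn0_1 (List.forall_mem_nil _)
theorem cac5_e : ∀ i < 1, (dent cac5 cae_P (nat_lit 256)) i = 0 := allZ_sound0 cac5_e_0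
theorem cac5_ok : DOK cac5 cae_P 256 := ⟨cac5_h, cac5_e⟩
theorem catn1_1 : ∀ i < 2, (catn1.ent P cath_P (rl [nat_lit 0] F_P) (rl [nat_lit 0] F_P) cae_P (nat_lit 7) (nat_lit 1) BN catl5 [catl6] (memO cac5)) i = 0 := allZ_sound0 catn1_1_0
theorem catn1_t {G Ω : Type*} [Group G] [MulAction G Ω] {g : ℕ → G} {pt : ℕ → Ω}
    (M : Md g pt P 256 7 BN 1451520) : TrO (gen (wds g cath_W) catl5.K) (rl [0] (wds g F_W)) (rl [0] (wds g F_W)) 1 pt 256 (catl5.Pt 0) (memO cac5) :=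
  node M (cat_S5 M) (cath_act M) (Xa_act M) (Xa_act M) catn1 ((cae_act M).mono (by decide)) (fun _ _ => trivial) catn1_0 catn1_1 (List.forall_mem_nil _)
theorem cac4_e : ∀ i < 3, (dent cac4 cae_P (nat_lit 256)) i = 0 := allZ_sound0 cac4_e_0
theorem cac4_ok : DOK cac4 cae_P 256 := ⟨cac4_h, cac4_e⟩
theorem catn2_1 : ∀ i < 8, (catn2.ent P cath_P (rl [nat_lit 0] F_P) (rl [nat_lit 0] F_P) cae_P (nat_lit 7) (nat_lit 1) BN catl4 [catl5, catl6] (memO cac4)) i = 0 := allZ_sound0 catn2_1_0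
theorem catn2_t {G Ω : Type*} [Group G] [MulAction G Ω] {g : ℕ → G} {pt : ℕ → Ω}
    (M : Md g pt P 256 7 BN 1451520) : TrO (gen (wds g cath_W) catl4.K) (rl [0] (wds g F_W)) (rl [0] (wds g F_W)) 1 pt 256 (catl4.Pt 0) (memO cac4) :=
  node M (cat_S4 M) (cath_act M) (Xa_act M) (Xa_act M) catn2 ((cae_act M).mono (by decide)) (fun _ _ => trivial) catn2_0 catn2_1 (List.forall_mem_nil _)
theorem cac3_e : ∀ i < 1, (dent cac3 cae_P (nat_lit 256)) i = 0 := allZ_sound0 cac3_e_0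
theorem cac3_ok : DOK cac3 cae_P 256 := ⟨cac3_h, cac3_e⟩
theorem catn3_1 : ∀ i < 2, (catn3.ent P cath_P (rl [nat_lit 0] F_P) (rl [nat_lit 0] F_P) cae_P (nat_lit 7) (nat_lit 1) BN catl3 [catl4, catl5, catl6] (memO cac3)) i = 0 := allZ_sound0 catn3_1_0
theorem catn3_t {G Ω : Type*} [Group G] [MulAction G Ω] {g : ℕ → G} {pt : ℕ → Ω}
    (M : Md g pt P 256 7 BN 1451520) : TrO (gen (wds g cath_W) catl3.K) (rl [0] (wds g F_W)) (rl [0] (wds g F_W)) 1 pt 256 (catl3.Pt 0) (memO cac3) :=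
  node M (cat_S3 M) (cath_act M) (Xa_act M) (Xa_act M) catn3 ((cae_act M).mono (by decide)) (fun _ _ => trivial) catn3_0 catn3_1 (List.forall_mem_nil _)
theorem cac2_e : ∀ i < 5, (dent cac2 cae_P (nat_lit 256)) i = 0 := allZ_sound0 cac2_e_0
theorem cac2_ok : DOK cac2 cae_P 256 := ⟨cac2_h, cac2_e⟩
theorem catn4_1 : ∀ i < 12, (catn4.ent P cath_P (rl [nat_lit 0] F_P) (rl [nat_lit 0] F_P) cae_P (nat_lit 7) (nat_lit 1) BN catl2 [catl3, catl4, catl5, catl6] (memO cac2)) i = 0 := allZ_sound0 catn4_1_0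
theorem catn4_t {G Ω : Type*} [Group G] [MulAction G Ω] {g : ℕ → G} {pt : ℕ → Ω}
    (M : Md g pt P 256 7 BN 1451520) : TrO (gen (wds g cath_W) catl2.K) (rl [0] (wds g F_W)) (rl [0] (wds g F_W)) 1 pt 256 (catl2.Pt 0) (memO cac2) :=
  node M (cat_S2 M) (cath_act M) (Xa_act M) (Xa_act M) catn4 ((cae_act M).mono (by decide)) (fun _ _ => trivial) catn4_0 catn4_1 (List.forall_mem_nil _)
theorem cac1_e : ∀ i < 7, (dent cac1 cae_P (nat_lit 256)) i = 0 := allZ_sound0 cac1_e_0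
theorem cac1_ok : DOK cac1 cae_P 256 := ⟨cac1_h, cac1_e⟩
theorem catn5_1 : ∀ i < 14, (catn5.ent P cath_P (rl [nat_lit 0] F_P) (rl [nat_lit 0] F_P) cae_P (nat_lit 7) (nat_lit 1) BN catl1 [catl2, catl3, catl4, catl5, catl6] (memO cac1)) i = 0 := allZ_sound0 catn5_1_0
theorem catn5_t {G Ω : Type*} [Group G] [MulAction G Ω] {g : ℕ → G} {pt : ℕ → Ω}
    (M : Md g pt P 256 7 BN 1451520) : TrO (gen (wds g cath_W) catl1.K) (rl [0] (wds g F_W)) (rl [0] (wds g F_W)) 1 pt 256 (catl1.Pt 0) (memO cac1) :=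
  node M (cat_S1 M) (cath_act M) (Xa_act M) (Xa_act M) catn5 ((cae_act M).mono (by decide)) (fun _ _ => trivial) catn5_0 catn5_1 (List.forall_mem_nil _)
theorem cac0_e : ∀ i < 14, (dent cac0 cae_P (nat_lit 256)) i = 0 := allZ_sound0 cac0_e_0
theorem cac0_ok : DOK cac0 cae_P 256 := ⟨cac0_h, cac0_e⟩
theorem catn6_1 : ∀ i < 135, (catn6.ent P cath_P (rl [nat_lit 0] F_P) (rl [nat_lit 0] F_P) cae_P (nat_lit 7) (nat_lit 1) BN catl0 [catl1, catl2, catl3, catl4, catl5, catl6] (memO cac0)) i = 0 := allZ_sound0 catn6_1_0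
theorem catn6_t {G Ω : Type*} [Group G] [MulAction G Ω] {g : ℕ → G} {pt : ℕ → Ω}
    (M : Md g pt P 256 7 BN 1451520) : TrO (gen (wds g cath_W) catl0.K) (rl [0] (wds g F_W)) (rl [0] (wds g F_W)) 1 pt 256 (catl0.Pt 0) (memO cac0) :=
  node M (cat_S0 M) (cath_act M) (Xa_act M) (Xa_act M) catn6 ((cae_act M).mono (by decide)) (fun _ _ => trivial) catn6_0 catn6_1 (List.forall_mem_nil _)
theorem ca {G Ω : Type*} [Group G] [MulAction G Ω] {g : ℕ → G} {pt : ℕ → Ω}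
    (M : Md g pt P 256 7 BN 1451520) : Cen ⊤ (rl [0] (wds g F_W)) 1 (wds g cae_W) pt 256 [cac0, cac1, cac2, cac3, cac4, cac5, cac6] :=
  (cat_S0 M).top ▸ Cen.lev M (cat_S0 M) (Cen.lev M (cat_S1 M) (Cen.lev M (cat_S2 M) (Cen.lev M (cat_S3 M) (Cen.lev M (cat_S4 M) (Cen.lev M (cat_S5 M) (Cen.lev M (cat_S6 M) (Cen.bot) (catn0_t M) (Xa_act M) (cae_act M) (fun _ _ => trivial) cac6_ok ca_f6) (catn1_t M) (Xa_act M) (cae_act M) (fun _ _ => trivial) cac5_ok ca_f5) (catn2_t M) (Xa_act M) (cae_act M) (fun _ _ => trivial) cac4_ok ca_f4) (catn3_t M) (Xa_act M) (cae_act M) (fun _ _ => trivial) cac3_ok ca_f3) (catn4_t M) (Xa_act M) (cae_act M) (fun _ _ => trivial) cac2_ok ca_f2) (catn5_t M) (Xa_act M) (cae_act M) (fun _ _ => trivial) cac1_ok ca_f1) (catn6_t M) (Xa_act M) (cae_act M) (fun _ _ => trivial) cac0_ok ca_f0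
theorem ca_card {G Ω : Type*} [Group G] [MulAction G Ω] {g : ℕ → G} {pt : ℕ → Ω}
    (M : Md g pt P 256 7 BN 1451520) : Nat.card (Subgroup.centralizer {(rl [0] (wds g F_W)) 0}) = 23040 :=
  (ca M).card_cent1 M.inj ca_c.1
theorem ca_eq {G Ω : Type*} [Group G] [MulAction G Ω] {g : ℕ → G} {pt : ℕ → Ω}
    (M : Md g pt P 256 7 BN 1451520) : Subgroup.centralizer (gen (rl [0] (wds g F_W)) 1) = gen (wds g cae_W) 9 ∧ Nat.card (gen (wds g cae_W) 9) = 23040 :=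
  ca_c.1 ▸ ca_c.2 ▸ ⟨(ca M).cent, (ca M).card M.inj⟩
theorem ca_le {G Ω : Type*} [Group G] [MulAction G Ω] {g : ℕ → G} {pt : ℕ → Ω}
    (M : Md g pt P 256 7 BN 1451520) : gen (wds g cae_W) 9 ≤ gen (rl [1, 2, 3, 4, 5, 6] g) 6 :=
  M.gen_le (Ca_act M) (cae_act M) ca_le_k
theorem ca_ge {G Ω : Type*} [Group G] [MulAction G Ω] {g : ℕ → G} {pt : ℕ → Ω}
    (M : Md g pt P 256 7 BN 1451520) : gen (rl [1, 2, 3, 4, 5, 6] g) 6 ≤ Subgroup.centralizer (gen (rl [0] (wds g F_W)) 1 : Set G) :=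
  H0.Fi.comm_all M (Xa_act M) (Ca_act M) ca_ge_k
theorem syat_act {G Ω : Type*} [Group G] [MulAction G Ω] {g : ℕ → G} {pt : ℕ → Ω}
    (M : Md g pt (rl [nat_lit 1, nat_lit 2, nat_lit 3, nat_lit 4, nat_lit 5, nat_lit 6] P) 256 6 BN 23040) : Act (wds g syat_W) pt syat_P 256 9 :=
  M.wact syat_lt
theorem sya_r : ∀ k < 9, ∀ i < 104, (resEnt syat_P syaP syaE syaI (nat_lit 256) (nat_lit 104)) k i = 0 := allZ2_sound sya_r_a
theorem sya_sm {G Ω : Type*} [Group G] [MulAction G Ω] {g : ℕ → G} {pt : ℕ → Ω}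
    (M : Md g pt (rl [nat_lit 1, nat_lit 2, nat_lit 3, nat_lit 4, nat_lit 5, nat_lit 6] P) 256 6 BN 23040) : Sm (wds g syat_W) (fun i => pt (syaE i)) syaP 104 9 syaB ∧ ∀ i < 104, syaE i < 256 :=
  M.res (syat_act M) (by decide) sya_r sya_b
theorem syal0_e : ∀ i < 7, (dent syal0 (wdsP syaP syae) (nat_lit 104)) i = 0 := allZ_sound0 syal0_e_0
theorem syal0_ok : DOK syal0 (wdsP syaP syae) 104 := ⟨syal0_h, syal0_e⟩
theorem syal1_e : ∀ i < 3, (dent syal1 (wdsP syaP syae) (nat_lit 104)) i = 0 := allZ_sound0 syal1_e_0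
theorem syal1_ok : DOK syal1 (wdsP syaP syae) 104 := ⟨syal1_h, syal1_e⟩
theorem syal2_e : ∀ i < 1, (dent syal2 (wdsP syaP syae) (nat_lit 104)) i = 0 := allZ_sound0 syal2_e_0
theorem syal2_ok : DOK syal2 (wdsP syaP syae) 104 := ⟨syal2_h, syal2_e⟩
theorem syal3_e : ∀ i < 7, (dent syal3 (wdsP syaP syae) (nat_lit 104)) i = 0 := allZ_sound0 syal3_e_0
theorem syal3_ok : DOK syal3 (wdsP syaP syae) 104 := ⟨syal3_h, syal3_e⟩
theorem sya_low {G Ω : Type*} [Group G] [MulAction G Ω] {g : ℕ → G} {pt : ℕ → Ω}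
    (M : Md g pt (rl [nat_lit 1, nat_lit 2, nat_lit 3, nat_lit 4, nat_lit 5, nat_lit 6] P) 256 6 BN 23040) : SLow (gi (wds (wds g syat_W) syae)) (fun i => pt (syaE i)) 104 [syal0, syal1, syal2, syal3] :=
  ((((SLow.nil).cons syal3_ok ((sya_sm M).1.act.wds sya_e 31) sya_f3).cons syal2_ok ((sya_sm M).1.act.wds sya_e 31) sya_f2).cons syal1_ok ((sya_sm M).1.act.wds sya_e 31) sya_f1).cons syal0_ok ((sya_sm M).1.act.wds sya_e 31) sya_f0
theorem sya_pc {G Ω : Type*} [Group G] [MulAction G Ω] {g : ℕ → G} {pt : ℕ → Ω}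
    (M : Md g pt (rl [nat_lit 1, nat_lit 2, nat_lit 3, nat_lit 4, nat_lit 5, nat_lit 6] P) 256 6 BN 23040) : PC (wds g syat_W) 9 2 :=
  have := M.fin
  ((sya_sm M).1.pc0 (by decide) sya_p).pc (sya_low M) (sya_sm M).1.inj
    (fun k => evA_mem_gen _ (nth_lt sya_e k)) M.card ⟨by decide, sya_c⟩
theorem cvar_act {G Ω : Type*} [Group G] [MulAction G Ω] {g : ℕ → G} {pt : ℕ → Ω}
    (M : Md g pt (rl [nat_lit 1, nat_lit 2, nat_lit 3, nat_lit 4, nat_lit 5, nat_lit 6] P) 256 6 BN 23040) : Act (wds g cvar_W) pt cvar_P 256 20 :=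
  M.wact cvar_lt
theorem cva_0 {G Ω : Type*} [Group G] [MulAction G Ω] {g : ℕ → G} {pt : ℕ → Ω}
    (M : Md g pt (rl [nat_lit 1, nat_lit 2, nat_lit 3, nat_lit 4, nat_lit 5, nat_lit 6] P) 256 6 BN 23040) : Cov (wds g syat_W) (wds g cvar_W) 4 20 9 (evA (wds g syat_W) []) :=
  have := M.fin
  cvaT0.cov M (sya_sm M).1 (sya_sm M).2 (cvar_act M) (sya_pc M) _ _ cva_c0
theorem cva {G Ω : Type*} [Group G] [MulAction G Ω] {g : ℕ → G} {pt : ℕ → Ω}
    (M : Md g pt (rl [nat_lit 1, nat_lit 2, nat_lit 3, nat_lit 4, nat_lit 5, nat_lit 6] P) 256 6 BN 23040) {y : G} {e : ℕ} (hy : y ^ 2 ^ e = 1) (hq : y ^ 4 = 1) : Good (wds g cvar_W) 20 y :=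
  have := M.fin
  Cov.all (sya_pc M) (cva_0 M) hy hq
theorem Aa {G Ω : Type*} [Group G] [MulAction G Ω] {g : ℕ → G} {pt : ℕ → Ω}
    (M : Md g pt P 256 7 BN 1451520) : (wds g F_W) 0 = evA (rl [1, 2, 3, 4, 5, 6] g) [0, 1, 2, 0, 1, 2, 3, 2, 0, 1, 2, 3, 4, 3, 2, 0, 1, 2, 3, 4, 5, 4, 3, 2, 0, 1, 2, 3, 4, 5] ∧ (wds g F_W) 0 ∈ gen (rl [1, 2, 3, 4, 5, 6] g) 6 :=
  M.eqw (Ca_act M) (F_act M) (by decide) Aa_k
theorem wa : ∀ i < 20, (wit (rl [nat_lit 1, nat_lit 2, nat_lit 3, nat_lit 4, nat_lit 5, nat_lit 6] P) 6 [0, 1, 2, 0, 1, 2, 3, 2, 0, 1, 2, 3, 4, 3, 2, 0, 1, 2, 3, 4, 5, 4, 3, 2, 0, 1, 2, 3, 4, 5] cvar_W Ha [2, 0, 0, 1, 0, 2, 1, 3, 3, 1, 3, 1, 1, 1, 1, 1, 2, 0, 1, 3]) i = 0 := allZ_sound0 wa_0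
theorem Xb_act {G Ω : Type*} [Group G] [MulAction G Ω] {g : ℕ → G} {pt : ℕ → Ω}
    (M : Md g pt P 256 7 BN 1451520) : Act (rl [1] (wds g F_W)) pt (rl [nat_lit 1] F_P) 256 1 :=
  (F_act M).rl (by decide)
theorem cbth_act {G Ω : Type*} [Group G] [MulAction G Ω] {g : ℕ → G} {pt : ℕ → Ω}
    (M : Md g pt P 256 7 BN 1451520) : Act (wds g cbth_W) pt cbth_P 256 13 :=
  M.wact cbth_lt
theorem cbtl0_e : ∀ i < 119, (dent cbtl0 cbth_P (nat_lit 256)) i = 0 := allZ_sound0 cbtl0_e_0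
theorem cbtl0_ok : DOK cbtl0 cbth_P 256 := ⟨cbtl0_h, cbtl0_e⟩
theorem cbtl1_e : ∀ i < 55, (dent cbtl1 cbth_P (nat_lit 256)) i = 0 := allZ_sound0 cbtl1_e_0
theorem cbtl1_ok : DOK cbtl1 cbth_P 256 := ⟨cbtl1_h, cbtl1_e⟩
theorem cbtl2_e : ∀ i < 26, (dent cbtl2 cbth_P (nat_lit 256)) i = 0 := allZ_sound0 cbtl2_e_0
theorem cbtl2_ok : DOK cbtl2 cbth_P 256 := ⟨cbtl2_h, cbtl2_e⟩
theorem cbtl3_e : ∀ i < 7, (dent cbtl3 cbth_P (nat_lit 256)) i = 0 := allZ_sound0 cbtl3_e_0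
theorem cbtl3_ok : DOK cbtl3 cbth_P 256 := ⟨cbtl3_h, cbtl3_e⟩
theorem cbt_low {G Ω : Type*} [Group G] [MulAction G Ω] {g : ℕ → G} {pt : ℕ → Ω}
    (M : Md g pt P 256 7 BN 1451520) : SLow (gi (wds g cbth_W)) pt 256 [cbtl0, cbtl1, cbtl2, cbtl3] :=
  ((((SLow.nil).cons cbtl3_ok (cbth_act M) cbt_f3).cons cbtl2_ok (cbth_act M) cbt_f2).cons cbtl1_ok (cbth_act M) cbt_f1).cons cbtl0_ok (cbth_act M) cbt_f0
theorem cbt_S0 {G Ω : Type*} [Group G] [MulAction G Ω] {g : ℕ → G} {pt : ℕ → Ω}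
    (M : Md g pt P 256 7 BN 1451520) : Stage ⊤ (wds g cbth_W) pt 256 [cbtl0, cbtl1, cbtl2, cbtl3] [] :=
  M.stage (cbt_low M) cbt_c
theorem cbt_S1 {G Ω : Type*} [Group G] [MulAction G Ω] {g : ℕ → G} {pt : ℕ → Ω}
    (M : Md g pt P 256 7 BN 1451520) : Stage ⊤ (wds g cbth_W) pt 256 [cbtl1, cbtl2, cbtl3] [cbtl0.Pt 0] :=
  (cbt_S0 M).next
theorem cbt_S2 {G Ω : Type*} [Group G] [MulAction G Ω] {g : ℕ → G} {pt : ℕ → Ω}
    (M : Md g pt P 256 7 BN 1451520) : Stage ⊤ (wds g cbth_W) pt 256 [cbtl2, cbtl3] [cbtl1.Pt 0, cbtl0.Pt 0] :=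
  (cbt_S1 M).next
theorem cbt_S3 {G Ω : Type*} [Group G] [MulAction G Ω] {g : ℕ → G} {pt : ℕ → Ω}
    (M : Md g pt P 256 7 BN 1451520) : Stage ⊤ (wds g cbth_W) pt 256 [cbtl3] [cbtl2.Pt 0, cbtl1.Pt 0, cbtl0.Pt 0] :=
  (cbt_S2 M).next
theorem cbt_S4 {G Ω : Type*} [Group G] [MulAction G Ω] {g : ℕ → G} {pt : ℕ → Ω}
    (M : Md g pt P 256 7 BN 1451520) : Stage ⊤ (wds g cbth_W) pt 256 [] [cbtl3.Pt 0, cbtl2.Pt 0, cbtl1.Pt 0, cbtl0.Pt 0] :=
  (cbt_S3 M).next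
theorem cbe_act {G Ω : Type*} [Group G] [MulAction G Ω] {g : ℕ → G} {pt : ℕ → Ω}
    (M : Md g pt P 256 7 BN 1451520) : Act (wds g cbe_W) pt cbe_P 256 7 :=
  M.wact cbe_lt
theorem cbc3_e : ∀ i < 7, (dent cbc3 cbe_P (nat_lit 256)) i = 0 := allZ_sound0 cbc3_e_0
theorem cbc3_ok : DOK cbc3 cbe_P 256 := ⟨cbc3_h, cbc3_e⟩
theorem cbtn0_1 : ∀ i < 8, (cbtn0.ent P cbth_P (rl [nat_lit 1] F_P) (rl [nat_lit 1] F_P) cbe_P (nat_lit 7) (nat_lit 1) BN cbtl3 [] (memO cbc3)) i = 0 := allZ_sound0 cbtn0_1_0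
theorem cbtn0_t {G Ω : Type*} [Group G] [MulAction G Ω] {g : ℕ → G} {pt : ℕ → Ω}
    (M : Md g pt P 256 7 BN 1451520) : TrO (gen (wds g cbth_W) cbtl3.K) (rl [1] (wds g F_W)) (rl [1] (wds g F_W)) 1 pt 256 (cbtl3.Pt 0) (memO cbc3) :=
  node M (cbt_S3 M) (cbth_act M) (Xb_act M) (Xb_act M) cbtn0 ((cbe_act M).mono (by decide)) (fun _ _ => trivial) cbtn0_0 cbtn0_1 (List.forall_mem_nil _)
theorem cbc2_e : ∀ i < 2, (dent cbc2 cbe_P (nat_lit 256)) i = 0 := allZ_sound0 cbc2_e_0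
theorem cbc2_ok : DOK cbc2 cbe_P 256 := ⟨cbc2_h, cbc2_e⟩
theorem cbtn1_1 : ∀ i < 27, (cbtn1.ent P cbth_P (rl [nat_lit 1] F_P) (rl [nat_lit 1] F_P) cbe_P (nat_lit 7) (nat_lit 1) BN cbtl2 [cbtl3] (memO cbc2)) i = 0 := allZ_sound0 cbtn1_1_0
theorem cbtn1_t {G Ω : Type*} [Group G] [MulAction G Ω] {g : ℕ → G} {pt : ℕ → Ω}
    (M : Md g pt P 256 7 BN 1451520) : TrO (gen (wds g cbth_W) cbtl2.K) (rl [1] (wds g F_W)) (rl [1] (wds g F_W)) 1 pt 256 (cbtl2.Pt 0) (memO cbc2) :=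
  node M (cbt_S2 M) (cbth_act M) (Xb_act M) (Xb_act M) cbtn1 ((cbe_act M).mono (by decide)) (fun _ _ => trivial) cbtn1_0 cbtn1_1 (List.forall_mem_nil _)
theorem cbc1_e : ∀ i < 7, (dent cbc1 cbe_P (nat_lit 256)) i = 0 := allZ_sound0 cbc1_e_0
theorem cbc1_ok : DOK cbc1 cbe_P 256 := ⟨cbc1_h, cbc1_e⟩
theorem cbtn2_1 : ∀ i < 56, (cbtn2.ent P cbth_P (rl [nat_lit 1] F_P) (rl [nat_lit 1] F_P) cbe_P (nat_lit 7) (nat_lit 1) BN cbtl1 [cbtl2, cbtl3] (memO cbc1)) i = 0 := allZ_sound0 cbtn2_1_0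
theorem cbtn2_t {G Ω : Type*} [Group G] [MulAction G Ω] {g : ℕ → G} {pt : ℕ → Ω}
    (M : Md g pt P 256 7 BN 1451520) : TrO (gen (wds g cbth_W) cbtl1.K) (rl [1] (wds g F_W)) (rl [1] (wds g F_W)) 1 pt 256 (cbtl1.Pt 0) (memO cbc1) :=
  node M (cbt_S1 M) (cbth_act M) (Xb_act M) (Xb_act M) cbtn2 ((cbe_act M).mono (by decide)) (fun _ _ => trivial) cbtn2_0 cbtn2_1 (List.forall_mem_nil _)
theorem cbc0_e : ∀ i < 23, (dent cbc0 cbe_P (nat_lit 256)) i = 0 := allZ_sound0 cbc0_e_0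
theorem cbc0_ok : DOK cbc0 cbe_P 256 := ⟨cbc0_h, cbc0_e⟩
theorem cbtn3_1 : ∀ i < 120, (cbtn3.ent P cbth_P (rl [nat_lit 1] F_P) (rl [nat_lit 1] F_P) cbe_P (nat_lit 7) (nat_lit 1) BN cbtl0 [cbtl1, cbtl2, cbtl3] (memO cbc0)) i = 0 := allZ_sound0 cbtn3_1_0
theorem cbtn3_t {G Ω : Type*} [Group G] [MulAction G Ω] {g : ℕ → G} {pt : ℕ → Ω}
    (M : Md g pt P 256 7 BN 1451520) : TrO (gen (wds g cbth_W) cbtl0.K) (rl [1] (wds g F_W)) (rl [1] (wds g F_W)) 1 pt 256 (cbtl0.Pt 0) (memO cbc0) :=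
  node M (cbt_S0 M) (cbth_act M) (Xb_act M) (Xb_act M) cbtn3 ((cbe_act M).mono (by decide)) (fun _ _ => trivial) cbtn3_0 cbtn3_1 (List.forall_mem_nil _)
theorem cb {G Ω : Type*} [Group G] [MulAction G Ω] {g : ℕ → G} {pt : ℕ → Ω}
    (M : Md g pt P 256 7 BN 1451520) : Cen ⊤ (rl [1] (wds g F_W)) 1 (wds g cbe_W) pt 256 [cbc0, cbc1, cbc2, cbc3] :=
  (cbt_S0 M).top ▸ Cen.lev M (cbt_S0 M) (Cen.lev M (cbt_S1 M) (Cen.lev M (cbt_S2 M) (Cen.lev M (cbt_S3 M) (Cen.bot) (cbtn0_t M) (Xb_act M) (cbe_act M) (fun _ _ => trivial) cbc3_ok cb_f3) (cbtn1_t M) (Xb_act M) (cbe_act M) (fun _ _ => trivial) cbc2_ok cb_f2) (cbtn2_t M) (Xb_act M) (cbe_act M) (fun _ _ => trivial) cbc1_ok cb_f1) (cbtn3_t M) (Xb_act M) (cbe_act M) (fun _ _ => trivial) cbc0_ok cb_f0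
theorem cb_card {G Ω : Type*} [Group G] [MulAction G Ω] {g : ℕ → G} {pt : ℕ → Ω}
    (M : Md g pt P 256 7 BN 1451520) : Nat.card (Subgroup.centralizer {(rl [1] (wds g F_W)) 0}) = 4608 :=
  (cb M).card_cent1 M.inj cb_c.1
theorem cb_eq {G Ω : Type*} [Group G] [MulAction G Ω] {g : ℕ → G} {pt : ℕ → Ω}
    (M : Md g pt P 256 7 BN 1451520) : Subgroup.centralizer (gen (rl [1] (wds g F_W)) 1) = gen (wds g cbe_W) 7 ∧ Nat.card (gen (wds g cbe_W) 7) = 4608 :=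
  cb_c.1 ▸ cb_c.2 ▸ ⟨(cb M).cent, (cb M).card M.inj⟩
theorem cb_le {G Ω : Type*} [Group G] [MulAction G Ω] {g : ℕ → G} {pt : ℕ → Ω}
    (M : Md g pt P 256 7 BN 1451520) : gen (wds g cbe_W) 7 ≤ gen (rl [11, 12, 13, 14, 15, 16, 17] (wds g F_W)) 7 :=
  M.gen_le (Cb_act M) (cbe_act M) cb_le_k
theorem cb_ge {G Ω : Type*} [Group G] [MulAction G Ω] {g : ℕ → G} {pt : ℕ → Ω}
    (M : Md g pt P 256 7 BN 1451520) : gen (rl [11, 12, 13, 14, 15, 16, 17] (wds g F_W)) 7 ≤ Subgroup.centralizer (gen (rl [1] (wds g F_W)) 1 : Set G) :=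
  H0.Fi.comm_all M (Xb_act M) (Cb_act M) cb_ge_k
theorem sybt_act {G Ω : Type*} [Group G] [MulAction G Ω] {g : ℕ → G} {pt : ℕ → Ω}
    (M : Md g pt (rl [nat_lit 11, nat_lit 12, nat_lit 13, nat_lit 14, nat_lit 15, nat_lit 16, nat_lit 17] F_P) 256 7 BN 4608) : Act (wds g sybt_W) pt sybt_P 256 9 :=
  M.wact sybt_lt
theorem syb_r : ∀ k < 9, ∀ i < 96, (resEnt sybt_P sybP sybE sybI (nat_lit 256) (nat_lit 96)) k i = 0 := allZ2_sound syb_r_a
theorem syb_sm {G Ω : Type*} [Group G] [MulAction G Ω] {g : ℕ → G} {pt : ℕ → Ω}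
    (M : Md g pt (rl [nat_lit 11, nat_lit 12, nat_lit 13, nat_lit 14, nat_lit 15, nat_lit 16, nat_lit 17] F_P) 256 7 BN 4608) : Sm (wds g sybt_W) (fun i => pt (sybE i)) sybP 96 9 sybB ∧ ∀ i < 96, sybE i < 256 :=
  M.res (sybt_act M) (by decide) syb_r syb_b
theorem sybl0_e : ∀ i < 63, (dent sybl0 (wdsP sybP sybe) (nat_lit 96)) i = 0 := allZ_sound0 sybl0_e_0
theorem sybl0_ok : DOK sybl0 (wdsP sybP sybe) 96 := ⟨sybl0_h, sybl0_e⟩
theorem sybl1_e : ∀ i < 3, (dent sybl1 (wdsP sybP sybe) (nat_lit 96)) i = 0 := allZ_sound0 sybl1_e_0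
theorem sybl1_ok : DOK sybl1 (wdsP sybP sybe) 96 := ⟨sybl1_h, sybl1_e⟩
theorem sybl2_e : ∀ i < 1, (dent sybl2 (wdsP sybP sybe) (nat_lit 96)) i = 0 := allZ_sound0 sybl2_e_0
theorem sybl2_ok : DOK sybl2 (wdsP sybP sybe) 96 := ⟨sybl2_h, sybl2_e⟩
theorem syb_low {G Ω : Type*} [Group G] [MulAction G Ω] {g : ℕ → G} {pt : ℕ → Ω}
    (M : Md g pt (rl [nat_lit 11, nat_lit 12, nat_lit 13, nat_lit 14, nat_lit 15, nat_lit 16, nat_lit 17] F_P) 256 7 BN 4608) : SLow (gi (wds (wds g sybt_W) sybe)) (fun i => pt (sybE i)) 96 [sybl0, sybl1, sybl2] :=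
  (((SLow.nil).cons sybl2_ok ((syb_sm M).1.act.wds syb_e 32) syb_f2).cons sybl1_ok ((syb_sm M).1.act.wds syb_e 32) syb_f1).cons sybl0_ok ((syb_sm M).1.act.wds syb_e 32) syb_f0
theorem syb_pc {G Ω : Type*} [Group G] [MulAction G Ω] {g : ℕ → G} {pt : ℕ → Ω}
    (M : Md g pt (rl [nat_lit 11, nat_lit 12, nat_lit 13, nat_lit 14, nat_lit 15, nat_lit 16, nat_lit 17] F_P) 256 7 BN 4608) : PC (wds g sybt_W) 9 2 :=
  have := M.fin
  ((syb_sm M).1.pc0 (by decide) syb_p).pc (syb_low M) (syb_sm M).1.inj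
    (fun k => evA_mem_gen _ (nth_lt syb_e k)) M.card ⟨by decide, syb_c⟩
theorem cvbr_act {G Ω : Type*} [Group G] [MulAction G Ω] {g : ℕ → G} {pt : ℕ → Ω}
    (M : Md g pt (rl [nat_lit 11, nat_lit 12, nat_lit 13, nat_lit 14, nat_lit 15, nat_lit 16, nat_lit 17] F_P) 256 7 BN 4608) : Act (wds g cvbr_W) pt cvbr_P 256 27 :=
  M.wact cvbr_lt
theorem cvb_0 {G Ω : Type*} [Group G] [MulAction G Ω] {g : ℕ → G} {pt : ℕ → Ω}
    (M : Md g pt (rl [nat_lit 11, nat_lit 12, nat_lit 13, nat_lit 14, nat_lit 15, nat_lit 16, nat_lit 17] F_P) 256 7 BN 4608) : Cov (wds g sybt_W) (wds g cvbr_W) 4 27 9 (evA (wds g sybt_W) []) :=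
  have := M.fin
  cvbT0.cov M (syb_sm M).1 (syb_sm M).2 (cvbr_act M) (syb_pc M) _ _ cvb_c0
theorem cvb {G Ω : Type*} [Group G] [MulAction G Ω] {g : ℕ → G} {pt : ℕ → Ω}
    (M : Md g pt (rl [nat_lit 11, nat_lit 12, nat_lit 13, nat_lit 14, nat_lit 15, nat_lit 16, nat_lit 17] F_P) 256 7 BN 4608) {y : G} {e : ℕ} (hy : y ^ 2 ^ e = 1) (hq : y ^ 4 = 1) : Good (wds g cvbr_W) 27 y :=
  have := M.fin
  Cov.all (syb_pc M) (cvb_0 M) hy hq
theorem Ab {G Ω : Type*} [Group G] [MulAction G Ω] {g : ℕ → G} {pt : ℕ → Ω}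
    (M : Md g pt P 256 7 BN 1451520) : (wds g F_W) 1 = evA (rl [11, 12, 13, 14, 15, 16, 17] (wds g F_W)) [1, 2, 3] ∧ (wds g F_W) 1 ∈ gen (rl [11, 12, 13, 14, 15, 16, 17] (wds g F_W)) 7 :=
  M.eqw (Cb_act M) (F_act M) (by decide) Ab_k
theorem wb : ∀ i < 27, (wit (rl [nat_lit 11, nat_lit 12, nat_lit 13, nat_lit 14, nat_lit 15, nat_lit 16, nat_lit 17] F_P) 7 [1, 2, 3] cvbr_W Hb [0, 0, 1, 0, 2, 1, 1, 1, 3, 1, 1, 1, 1, 1, 1, 3, 2, 0, 1, 1, 1, 1, 2, 0, 1, 1, 1]) i = 0 := allZ_sound0 wb_0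
theorem L_m : ∀ k < 12, ∀ i < 256, (matEnt (wdsP P L_W) L_P) k i = 0 := allZ2_sound L_m_a
theorem L_act {G Ω : Type*} [Group G] [MulAction G Ω] {g : ℕ → G} {pt : ℕ → Ω}
    (M : Md g pt P 256 7 BN 1451520) : Act (wds g L_W) pt L_P 256 12 :=
  act_mat (M.wact L_lt) L_m
theorem Ltop {G Ω : Type*} [Group G] [MulAction G Ω] {g : ℕ → G} {pt : ℕ → Ω}
    (M : Md g pt P 256 7 BN 1451520) : gen g 7 ≤ gen (wds g L_W) 12 :=
  M.gen_le (L_act M) M.act Ltop_k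
theorem tcE2e : ∀ k < 2, ∀ i < 3, (ent2 TE2 EE2 (selR RLE2 IE2) DE2 (nat_lit 3) (nat_lit 3) (nat_lit 3) (nat_lit 3) (nat_lit 2) (nat_lit 7) (nat_lit 0)) k i = 0 := allZ2_sound tcE2e_a
theorem tcE2p : ∀ i < 0, (eps2 TE2 EE2 JE2 WE2 RLE2 (nat_lit 3) (nat_lit 3) (nat_lit 3) (nat_lit 2) (nat_lit 0)) i = 0 := allZ_sound0 tcE2p_0
theorem tcE2 : cE2.OK RE 12 := ⟨tcE2n, ivE, tcE2r, tcE2e, fun i h => tcE2p i (lt_of_lt_of_eq h tcE2q)⟩
theorem tcE4e : ∀ k < 4, ∀ i < 4, (ent2 TE4 EE4 (selR RLE4 IE4) DE4 (nat_lit 3) (nat_lit 4) (nat_lit 4) (nat_lit 4) (nat_lit 4) (nat_lit 31) (nat_lit 0)) k i = 0 := allZ2_sound tcE4e_a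
theorem tcE4p : ∀ i < 0, (eps2 TE4 EE4 JE4 WE4 RLE4 (nat_lit 3) (nat_lit 4) (nat_lit 4) (nat_lit 4) (nat_lit 0)) i = 0 := allZ_sound0 tcE4p_0
theorem tcE4 : cE4.OK RE 12 := ⟨tcE4n, ivE, tcE4r, tcE4e, fun i h => tcE4p i (lt_of_lt_of_eq h tcE4q)⟩
theorem tcE6e : ∀ k < 6, ∀ i < 5, (ent2 TE6 EE6 (selR RLE6 IE6) DE6 (nat_lit 7) (nat_lit 5) (nat_lit 5) (nat_lit 5) (nat_lit 6) (nat_lit 31) (nat_lit 0)) k i = 0 := allZ2_sound tcE6e_a
theorem tcE6p : ∀ i < 0, (eps2 TE6 EE6 JE6 WE6 RLE6 (nat_lit 7) (nat_lit 5) (nat_lit 5) (nat_lit 6) (nat_lit 0)) i = 0 := allZ_sound0 tcE6p_0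
theorem tcE6 : cE6.OK RE 12 := ⟨tcE6n, ivE, tcE6r, tcE6e, fun i h => tcE6p i (lt_of_lt_of_eq h tcE6q)⟩
theorem tcE8e : ∀ k < 8, ∀ i < 16, (ent2 TE8 EE8 (selR RLE8 IE8) DE8 (nat_lit 15) (nat_lit 16) (nat_lit 16) (nat_lit 16) (nat_lit 8) (nat_lit 255) (nat_lit 0)) k i = 0 := allZ2_sound tcE8e_a
theorem tcE8p : ∀ i < 0, (eps2 TE8 EE8 JE8 WE8 RLE8 (nat_lit 15) (nat_lit 16) (nat_lit 16) (nat_lit 8) (nat_lit 0)) i = 0 := allZ_sound0 tcE8p_0
theorem tcE8 : cE8.OK RE 12 := ⟨tcE8n, ivE, tcE8r, tcE8e, fun i h => tcE8p i (lt_of_lt_of_eq h tcE8q)⟩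
theorem tcE10e : ∀ k < 10, ∀ i < 27, (ent2 TE10 EE10 (selR RLE10 IE10) DE10 (nat_lit 31) (nat_lit 27) (nat_lit 27) (nat_lit 27) (nat_lit 10) (nat_lit 511) (nat_lit 0)) k i = 0 := allZ2_sound tcE10e_a
theorem tcE10p : ∀ i < 0, (eps2 TE10 EE10 JE10 WE10 RLE10 (nat_lit 31) (nat_lit 27) (nat_lit 27) (nat_lit 10) (nat_lit 0)) i = 0 := allZ_sound0 tcE10p_0
theorem tcE10 : cE10.OK RE 12 := ⟨tcE10n, ivE, tcE10r, tcE10e, fun i h => tcE10p i (lt_of_lt_of_eq h tcE10q)⟩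
theorem tcE12e : ∀ k < 12, ∀ i < 59, (ent2 TE12 EE12 (selR RLE12 IE12) DE12 (nat_lit 63) (nat_lit 56) (nat_lit 56) (nat_lit 59) (nat_lit 12) (nat_lit 1023) (nat_lit 1)) k i = 0 := allZ2_sound tcE12e_a
theorem tcE12p : ∀ i < 3, (eps2 TE12 EE12 JE12 WE12 RLE12 (nat_lit 63) (nat_lit 56) (nat_lit 59) (nat_lit 12) (nat_lit 1)) i = 0 := allZ_sound0 tcE12p_0
theorem tcE12 : cE12.OK RE 12 := ⟨tcE12n, ivE, tcE12r, tcE12e, fun i h => tcE12p i (lt_of_lt_of_eq h tcE12q)⟩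
theorem bdE : Bound RE 12 1451520 := ((((((Bound.zero _).step2 tcE2 stE2).step2 tcE4 stE4).step2 tcE6 stE6).step2 tcE8 stE8).step2 tcE10 stE10).step2 tcE12 stE12

end H10.K
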