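import Cfsg.Agent.H10.K.T.C0
import Cfsg.Agent.H10.K.T.C1
import Cfsg.Agent.H10.K.T.C2

/-! Generated by tools/h10/co2/gk3.py. -/

set_option maxRecDepth 100000
set_option maxHeartbeats 0

namespace H10.KC
open H16 H0.TR H0.Am H0.Co H0.Fi H10.K
open H0.PM (flat)
open scoped commutatorElement

theorem J_m_0 : ∀ i < 2300, (matEnt (wdsP H15.XCo2C.P J_W) J_P (nat_lit 0)) i = 0 := allZ_sound0 J_m_0_0
theorem J_m_1 : ∀ i < 2300, (matEnt (wdsP H15.XCo2C.P J_W) J_P (nat_lit 1)) i = 0 := allZ_sound0 J_m_1_0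
theorem J_m_2 : ∀ i < 2300, (matEnt (wdsP H15.XCo2C.P J_W) J_P (nat_lit 2)) i = 0 := allZ_sound0 J_m_2_0
theorem J_m_3 : ∀ i < 2300, (matEnt (wdsP H15.XCo2C.P J_W) J_P (nat_lit 3)) i = 0 := allZ_sound0 J_m_3_0
theorem J_m_4 : ∀ i < 2300, (matEnt (wdsP H15.XCo2C.P J_W) J_P (nat_lit 4)) i = 0 := allZ_sound0 J_m_4_0
theorem J_m_5 : ∀ i < 2300, (matEnt (wdsP H15.XCo2C.P J_W) J_P (nat_lit 5)) i = 0 := allZ_sound0 J_m_5_0
theorem J_m_6 : ∀ i < 2300, (matEnt (wdsP H15.XCo2C.P J_W) J_P (nat_lit 6)) i = 0 := allZ_sound0 J_m_6_0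
theorem J_m_7 : ∀ i < 2300, (matEnt (wdsP H15.XCo2C.P J_W) J_P (nat_lit 7)) i = 0 := allZ_sound0 J_m_7_0
theorem J_m_8 : ∀ i < 2300, (matEnt (wdsP H15.XCo2C.P J_W) J_P (nat_lit 8)) i = 0 := allZ_sound0 J_m_8_0
theorem J_m_9 : ∀ i < 2300, (matEnt (wdsP H15.XCo2C.P J_W) J_P (nat_lit 9)) i = 0 := allZ_sound0 J_m_9_0
theorem J_m_10 : ∀ i < 2300, (matEnt (wdsP H15.XCo2C.P J_W) J_P (nat_lit 10)) i = 0 := allZ_sound0 J_m_10_0
theorem J_m_11 : ∀ i < 2300, (matEnt (wdsP H15.XCo2C.P J_W) J_P (nat_lit 11)) i = 0 := allZ_sound0 J_m_11_0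
theorem J_m_12 : ∀ i < 2300, (matEnt (wdsP H15.XCo2C.P J_W) J_P (nat_lit 12)) i = 0 := allZ_sound0 J_m_12_0
theorem J_m_13 : ∀ i < 2300, (matEnt (wdsP H15.XCo2C.P J_W) J_P (nat_lit 13)) i = 0 := allZ_sound0 J_m_13_0
theorem J_m : ∀ k < 14, ∀ i < 2300, (matEnt (wdsP H15.XCo2C.P J_W) J_P) k i = 0 :=
  letters_glue (letters_glue (letters_glue (letters_glue (letters_glue (letters_glue (letters_glue (letters_glue (letters_glue (letters_glue (letters_glue (letters_glue (letters_glue (letters_glue (letters_nil) J_m_0) J_m_1) J_m_2) J_m_3) J_m_4) J_m_5) J_m_6) J_m_7) J_m_8) J_m_9) J_m_10) J_m_11) J_m_12) J_m_13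
theorem J_act {G Ω : Type*} [Group G] [MulAction G Ω] {g : ℕ → G} {pt : ℕ → Ω}
    (M : Md g pt H15.XCo2C.P 2300 7 H15.XCo2C.B 743178240) : Act (wds g J_W) pt J_P 2300 14 :=
  act_mat (M.wact J_lt) J_m
theorem T_m_0 : ∀ i < 2300, (matEnt (wdsP J_P T_W) T_P (nat_lit 0)) i = 0 := allZ_sound0 T_m_0_0
theorem T_m_1 : ∀ i < 2300, (matEnt (wdsP J_P T_W) T_P (nat_lit 1)) i = 0 := allZ_sound0 T_m_1_0
theorem T_m_2 : ∀ i < 2300, (matEnt (wdsP J_P T_W) T_P (nat_lit 2)) i = 0 := allZ_sound0 T_m_2_0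
theorem T_m_3 : ∀ i < 2300, (matEnt (wdsP J_P T_W) T_P (nat_lit 3)) i = 0 := allZ_sound0 T_m_3_0
theorem T_m_4 : ∀ i < 2300, (matEnt (wdsP J_P T_W) T_P (nat_lit 4)) i = 0 := allZ_sound0 T_m_4_0
theorem T_m_5 : ∀ i < 2300, (matEnt (wdsP J_P T_W) T_P (nat_lit 5)) i = 0 := allZ_sound0 T_m_5_0
theorem T_m_6 : ∀ i < 2300, (matEnt (wdsP J_P T_W) T_P (nat_lit 6)) i = 0 := allZ_sound0 T_m_6_0
theorem T_m_7 : ∀ i < 2300, (matEnt (wdsP J_P T_W) T_P (nat_lit 7)) i = 0 := allZ_sound0 T_m_7_0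
theorem T_m_8 : ∀ i < 2300, (matEnt (wdsP J_P T_W) T_P (nat_lit 8)) i = 0 := allZ_sound0 T_m_8_0
theorem T_m_9 : ∀ i < 2300, (matEnt (wdsP J_P T_W) T_P (nat_lit 9)) i = 0 := allZ_sound0 T_m_9_0
theorem T_m_10 : ∀ i < 2300, (matEnt (wdsP J_P T_W) T_P (nat_lit 10)) i = 0 := allZ_sound0 T_m_10_0
theorem T_m_11 : ∀ i < 2300, (matEnt (wdsP J_P T_W) T_P (nat_lit 11)) i = 0 := allZ_sound0 T_m_11_0
theorem T_m_12 : ∀ i < 2300, (matEnt (wdsP J_P T_W) T_P (nat_lit 12)) i = 0 := allZ_sound0 T_m_12_0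
theorem T_m_13 : ∀ i < 2300, (matEnt (wdsP J_P T_W) T_P (nat_lit 13)) i = 0 := allZ_sound0 T_m_13_0
theorem T_m_14 : ∀ i < 2300, (matEnt (wdsP J_P T_W) T_P (nat_lit 14)) i = 0 := allZ_sound0 T_m_14_0
theorem T_m_15 : ∀ i < 2300, (matEnt (wdsP J_P T_W) T_P (nat_lit 15)) i = 0 := allZ_sound0 T_m_15_0
theorem T_m_16 : ∀ i < 2300, (matEnt (wdsP J_P T_W) T_P (nat_lit 16)) i = 0 := allZ_sound0 T_m_16_0
theorem T_m_17 : ∀ i < 2300, (matEnt (wdsP J_P T_W) T_P (nat_lit 17)) i = 0 := allZ_sound0 T_m_17_0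
theorem T_m : ∀ k < 18, ∀ i < 2300, (matEnt (wdsP J_P T_W) T_P) k i = 0 :=
  letters_glue (letters_glue (letters_glue (letters_glue (letters_glue (letters_glue (letters_glue (letters_glue (letters_glue (letters_glue (letters_glue (letters_glue (letters_glue (letters_glue (letters_glue (letters_glue (letters_glue (letters_glue (letters_nil) T_m_0) T_m_1) T_m_2) T_m_3) T_m_4) T_m_5) T_m_6) T_m_7) T_m_8) T_m_9) T_m_10) T_m_11) T_m_12) T_m_13) T_m_14) T_m_15) T_m_16) T_m_17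
theorem T_act {G Ω : Type*} [Group G] [MulAction G Ω] {g : ℕ → G} {pt : ℕ → Ω}
    (M : Md g pt H15.XCo2C.P 2300 7 H15.XCo2C.B 743178240) : Act (wds (wds g J_W) T_W) pt T_P 2300 18 :=
  act_mat ((J_act M).wds T_lt _) T_m
theorem sy_r_0 : ∀ i < 1088, (resEnt T_P syP syE syI (nat_lit 2300) (nat_lit 1088) (nat_lit 0)) i = 0 := allZ_sound0 sy_r_0_0
theorem sy_r_1 : ∀ i < 1088, (resEnt T_P syP syE syI (nat_lit 2300) (nat_lit 1088) (nat_lit 1)) i = 0 := allZ_sound0 sy_r_1_0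
theorem sy_r_2 : ∀ i < 1088, (resEnt T_P syP syE syI (nat_lit 2300) (nat_lit 1088) (nat_lit 2)) i = 0 := allZ_sound0 sy_r_2_0
theorem sy_r_3 : ∀ i < 1088, (resEnt T_P syP syE syI (nat_lit 2300) (nat_lit 1088) (nat_lit 3)) i = 0 := allZ_sound0 sy_r_3_0
theorem sy_r_4 : ∀ i < 1088, (resEnt T_P syP syE syI (nat_lit 2300) (nat_lit 1088) (nat_lit 4)) i = 0 := allZ_sound0 sy_r_4_0
theorem sy_r_5 : ∀ i < 1088, (resEnt T_P syP syE syI (nat_lit 2300) (nat_lit 1088) (nat_lit 5)) i = 0 := allZ_sound0 sy_r_5_0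
theorem sy_r_6 : ∀ i < 1088, (resEnt T_P syP syE syI (nat_lit 2300) (nat_lit 1088) (nat_lit 6)) i = 0 := allZ_sound0 sy_r_6_0
theorem sy_r_7 : ∀ i < 1088, (resEnt T_P syP syE syI (nat_lit 2300) (nat_lit 1088) (nat_lit 7)) i = 0 := allZ_sound0 sy_r_7_0
theorem sy_r_8 : ∀ i < 1088, (resEnt T_P syP syE syI (nat_lit 2300) (nat_lit 1088) (nat_lit 8)) i = 0 := allZ_sound0 sy_r_8_0
theorem sy_r_9 : ∀ i < 1088, (resEnt T_P syP syE syI (nat_lit 2300) (nat_lit 1088) (nat_lit 9)) i = 0 := allZ_sound0 sy_r_9_0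
theorem sy_r_10 : ∀ i < 1088, (resEnt T_P syP syE syI (nat_lit 2300) (nat_lit 1088) (nat_lit 10)) i = 0 := allZ_sound0 sy_r_10_0
theorem sy_r_11 : ∀ i < 1088, (resEnt T_P syP syE syI (nat_lit 2300) (nat_lit 1088) (nat_lit 11)) i = 0 := allZ_sound0 sy_r_11_0
theorem sy_r_12 : ∀ i < 1088, (resEnt T_P syP syE syI (nat_lit 2300) (nat_lit 1088) (nat_lit 12)) i = 0 := allZ_sound0 sy_r_12_0
theorem sy_r_13 : ∀ i < 1088, (resEnt T_P syP syE syI (nat_lit 2300) (nat_lit 1088) (nat_lit 13)) i = 0 := allZ_sound0 sy_r_13_0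
theorem sy_r_14 : ∀ i < 1088, (resEnt T_P syP syE syI (nat_lit 2300) (nat_lit 1088) (nat_lit 14)) i = 0 := allZ_sound0 sy_r_14_0
theorem sy_r_15 : ∀ i < 1088, (resEnt T_P syP syE syI (nat_lit 2300) (nat_lit 1088) (nat_lit 15)) i = 0 := allZ_sound0 sy_r_15_0
theorem sy_r_16 : ∀ i < 1088, (resEnt T_P syP syE syI (nat_lit 2300) (nat_lit 1088) (nat_lit 16)) i = 0 := allZ_sound0 sy_r_16_0
theorem sy_r_17 : ∀ i < 1088, (resEnt T_P syP syE syI (nat_lit 2300) (nat_lit 1088) (nat_lit 17)) i = 0 := allZ_sound0 sy_r_17_0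
theorem sy_r : ∀ k < 18, ∀ i < 1088, (resEnt T_P syP syE syI (nat_lit 2300) (nat_lit 1088)) k i = 0 :=
  letters_glue (letters_glue (letters_glue (letters_glue (letters_glue (letters_glue (letters_glue (letters_glue (letters_glue (letters_glue (letters_glue (letters_glue (letters_glue (letters_glue (letters_glue (letters_glue (letters_glue (letters_glue (letters_nil) sy_r_0) sy_r_1) sy_r_2) sy_r_3) sy_r_4) sy_r_5) sy_r_6) sy_r_7) sy_r_8) sy_r_9) sy_r_10) sy_r_11) sy_r_12) sy_r_13) sy_r_14) sy_r_15) sy_r_16) sy_r_17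
theorem sy_sm {G Ω : Type*} [Group G] [MulAction G Ω] {g : ℕ → G} {pt : ℕ → Ω}
    (M : Md g pt H15.XCo2C.P 2300 7 H15.XCo2C.B 743178240) : Sm (wds (wds g J_W) T_W) (fun i => pt (syE i)) syP 1088 18 syB ∧ ∀ i < 1088, syE i < 2300 :=
  M.res (T_act M) (by decide) sy_r sy_b
theorem syl0_e : ∀ i < 1023, (dent syl0 (wdsP syP sye) (nat_lit 1088)) i = 0 := allZ_sound0 syl0_e_0
theorem syl0_ok : DOK syl0 (wdsP syP sye) 1088 := ⟨syl0_h, syl0_e⟩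
theorem syl1_e : ∀ i < 127, (dent syl1 (wdsP syP sye) (nat_lit 1088)) i = 0 := allZ_sound0 syl1_e_0
theorem syl1_ok : DOK syl1 (wdsP syP sye) 1088 := ⟨syl1_h, syl1_e⟩
theorem syl2_e : ∀ i < 1, (dent syl2 (wdsP syP sye) (nat_lit 1088)) i = 0 := allZ_sound0 syl2_e_0
theorem syl2_ok : DOK syl2 (wdsP syP sye) 1088 := ⟨syl2_h, syl2_e⟩
theorem sy_low {G Ω : Type*} [Group G] [MulAction G Ω] {g : ℕ → G} {pt : ℕ → Ω}
    (M : Md g pt H15.XCo2C.P 2300 7 H15.XCo2C.B 743178240) : SLow (gi (wds (wds (wds g J_W) T_W) sye)) (fun i => pt (syE i)) 1088 [syl0, syl1, syl2] :=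
  (((SLow.nil).cons syl2_ok ((sy_sm M).1.act.wds sy_e 27) sy_f2).cons syl1_ok ((sy_sm M).1.act.wds sy_e 27) sy_f1).cons syl0_ok ((sy_sm M).1.act.wds sy_e 27) sy_f0
theorem sy_pc {G Ω : Type*} [Group G] [MulAction G Ω] {g : ℕ → G} {pt : ℕ → Ω}
    (M : Md g pt H15.XCo2C.P 2300 7 H15.XCo2C.B 743178240) : PC (wds (wds g J_W) T_W) 18 2 :=
  have := M.fin
  ((sy_sm M).1.pc0 (by decide) sy_p).pc (sy_low M) (sy_sm M).1.inj
    (fun k => evA_mem_gen _ (nth_lt sy_e k)) M.card ⟨by decide, sy_c⟩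
theorem ivr_act {G Ω : Type*} [Group G] [MulAction G Ω] {g : ℕ → G} {pt : ℕ → Ω}
    (M : Md g pt H15.XCo2C.P 2300 7 H15.XCo2C.B 743178240) : Act (wds g ivr_W) pt ivr_P 2300 10 :=
  M.wact ivr_lt
theorem iv_0 {G Ω : Type*} [Group G] [MulAction G Ω] {g : ℕ → G} {pt : ℕ → Ω}
    (M : Md g pt H15.XCo2C.P 2300 7 H15.XCo2C.B 743178240) : Cov (wds (wds g J_W) T_W) (wds g ivr_W) 2 10 18 (evA (wds (wds g J_W) T_W) []) :=
  have := M.fin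
  ivT0.cov M (sy_sm M).1 (sy_sm M).2 (ivr_act M) (sy_pc M) _ _ iv_c0
theorem iv {G Ω : Type*} [Group G] [MulAction G Ω] {g : ℕ → G} {pt : ℕ → Ω}
    (M : Md g pt H15.XCo2C.P 2300 7 H15.XCo2C.B 743178240) {y : G} {e : ℕ} (hy : y ^ 2 ^ e = 1) (hq : y ^ 2 = 1) : Good (wds g ivr_W) 10 y :=
  have := M.fin
  Cov.all (sy_pc M) (iv_0 M) hy hq
theorem Ac {G Ω : Type*} [Group G] [MulAction G Ω] {g : ℕ → G} {pt : ℕ → Ω}
    (M : Md g pt H15.XCo2C.P 2300 7 H15.XCo2C.B 743178240) : gen (wds (wds g J_W) T_W) 10 ≤ Subgroup.centralizer (gen (wds (wds g J_W) T_W) 10 : Set G) :=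
  H0.Fi.comm_all M ((T_act M).mono (by decide : 10 ≤ 18)) ((T_act M).mono (by decide : 10 ≤ 18)) Ac_k
theorem Ap {G Ω : Type*} [Group G] [MulAction G Ω] {g : ℕ → G} {pt : ℕ → Ω}
    (M : Md g pt H15.XCo2C.P 2300 7 H15.XCo2C.B 743178240) : ∀ k < 10, (wds (wds g J_W) T_W) k ^ 2 = 1 :=
  H0.Fi.pw_all M ((T_act M).mono (by decide : 10 ≤ 18)) Ap_k
theorem Hs_act {G Ω : Type*} [Group G] [MulAction G Ω] {g : ℕ → G} {pt : ℕ → Ω}
    (M : Md g pt H15.XCo2C.P 2300 7 H15.XCo2C.B 743178240) : Act (rl [3, 5, 7, 2, 8] (wds g J_W)) pt (rl [nat_lit 3, nat_lit 5, nat_lit 7, nat_lit 2, nat_lit 8] J_P) 2300 5 :=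
  (J_act M).rl (by decide)
theorem oA_e : ∀ i < 1024, (H0.Fi.orbEnt T_P (rl [nat_lit 3, nat_lit 5, nat_lit 7, nat_lit 2, nat_lit 8] J_P) (nat_lit 2) (nat_lit 10) (nat_lit 5) H15.XCo2C.B oAD oAL oAr oAq oAR) i = 0 := range_glue (allZ_sound0 oA_e_0) oA_e_1
theorem oA {G Ω : Type*} [Group G] [MulAction G Ω] {g : ℕ → G} {pt : ℕ → Ω}
    (M : Md g pt H15.XCo2C.P 2300 7 H15.XCo2C.B 743178240) : ∀ c < 2 ^ 10, c ≠ 0 → ∃ a ∈ gen (rl [3, 5, 7, 2, 8] (wds g J_W)) 5,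
      a * evA (wds (wds g J_W) T_W) (H0.Fi.digW 2 0 10 c) * a⁻¹ = evA (wds (wds g J_W) T_W) (H0.Fi.digW 2 0 10 (nth 0 oAR (oAq c))) :=
  H0.Fi.orb_sound M ((T_act M).mono (by decide : 10 ≤ 18)) (Hs_act M) oA_e
theorem s5c : ∀ i < 1024, (s5e) i = 0 := range_glue (allZ_sound0 s5c_0) s5c_1
theorem r4 : ∀ k < 18, ∀ i < 44, (resEnt T_P T4 E4 I4 2300 44) k i = 0 := allZ2_sound r4_a
theorem s4 : ∀ i < 256, (fun c => force c fun c => lbl T4 X4 k4 c (digW 2 10 8 c ++ digW 2 10 8 c) []) i = 0 := allZ_sound0 s4_0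
theorem k4c_r : ∀ i < 256, (fun c => force c fun c => loop2 ((fun c e => force e fun e => lbl T4 X4 (K4 c) e (digW 2 10 8 c ++ digW 2 10 8 e) (digW 2 10 8 e ++ digW 2 10 8 c)) c) 0 256) i = 0 := range_glue (range_glue (range_glue (allZ_sound0 k4c_r_0) k4c_r_1) k4c_r_2) k4c_r_3
theorem k4c : ∀ c < 256, ∀ e < 256, (fun c e => force e fun e => lbl T4 X4 (K4 c) e (digW 2 10 8 c ++ digW 2 10 8 e) (digW 2 10 8 e ++ digW 2 10 8 c)) c e = 0 := grid2 k4c_r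
theorem l4c_r : ∀ i < 1024, (fun c => force c fun c => loop2 ((fun e i => force i fun i => bif ((L4 i).testBit e == (apW T4 (digW 2 0 10 e) i).beq i) then 0 else 1) c) 0 44) i = 0 := range_glue (range_glue (range_glue (allZ_sound0 l4c_r_0) l4c_r_1) l4c_r_2) l4c_r_3
theorem l4c : ∀ c < 1024, ∀ e < 44, (fun e i => force i fun i => bif ((L4 i).testBit e == (apW T4 (digW 2 0 10 e) i).beq i) then 0 else 1) c e = 0 := grid2 l4c_r
theorem Au {G Ω : Type*} [Group G] [MulAction G Ω] {g : ℕ → G} {pt : ℕ → Ω}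
    (M : Md g pt H15.XCo2C.P 2300 7 H15.XCo2C.B 743178240) {E : Subgroup G} (hE : E ≤ gen (wds (wds g J_W) T_W) 18) (h2 : ∀ x ∈ E, x * x = 1) : E ≤ gen (wds (wds g J_W) T_W) 10 ∨ Nat.card E < 2 ^ 10 :=
  have := M.fin
  have r := act_res (T_act M) M.inj (by decide) r4
  uniq_ea (m := 10) (r := 8) r.2 (sy_pc M).toPC0 r.1 (Ac M) l4 xy4.1 xy4.2 s4 k4c l4c tt4c hE h2
theorem JA {G Ω : Type*} [Group G] [MulAction G Ω] {g : ℕ → G} {pt : ℕ → Ω}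
    (M : Md g pt H15.Co2.P 2300 8 H15.Co2.B 42305421312000) : Act (wds (wds g H15.XTCo2.sub_W) J_W) pt J_P 2300 14 :=
  act_mat ((H15.XTCo2.sub_act M).wds J_lt _) J_m

end H10.KC
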