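import Cfsg.Agent.H10.K.H

/-! Generated by tools/h10/co2/gk4.py. -/

set_option maxRecDepth 100000
set_option maxHeartbeats 0

namespace H10.KC
open H16 H0.TR H0.Am H0.Co H0.Fi H10.K
open H0.PM (flat)
open scoped commutatorElement

noncomputable def V4 : List (List ℕ) := [[],
  [nat_lit 0],
  [nat_lit 1],
  [nat_lit 1, nat_lit 0]]
noncomputable def VY : List (List ℕ) := [[nat_lit 1],
  [nat_lit 0],
  [nat_lit 2],
  [nat_lit 3],
  [nat_lit 4],
  [nat_lit 5],
  [nat_lit 6],
  [nat_lit 2, nat_lit 5, nat_lit 5, nat_lit 7]]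
noncomputable def L6X_W : List (List ℕ) := [[nat_lit 3]]
noncomputable def L6X_P : ℕ → ℕ → ℕ := wdsP J_P L6X_W
noncomputable def L6th_W : List (List ℕ) := [[nat_lit 5, nat_lit 1, nat_lit 5, nat_lit 3, nat_lit 4, nat_lit 6, nat_lit 2, nat_lit 3, nat_lit 2, nat_lit 6, nat_lit 2, nat_lit 0, nat_lit 5, nat_lit 2, nat_lit 1],
  [nat_lit 1, nat_lit 3, nat_lit 1, nat_lit 3],
  [nat_lit 0, nat_lit 1, nat_lit 5, nat_lit 1, nat_lit 3, nat_lit 1, nat_lit 3, nat_lit 5, nat_lit 0, nat_lit 1],
  [nat_lit 4, nat_lit 6, nat_lit 2, nat_lit 1, nat_lit 6, nat_lit 3, nat_lit 1, nat_lit 3, nat_lit 6, nat_lit 2, nat_lit 6, nat_lit 4],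
  [nat_lit 1, nat_lit 5, nat_lit 3, nat_lit 4, nat_lit 2, nat_lit 0, nat_lit 5, nat_lit 1, nat_lit 2, nat_lit 4, nat_lit 3, nat_lit 0],
  [nat_lit 0, nat_lit 5, nat_lit 6, nat_lit 2, nat_lit 1, nat_lit 6, nat_lit 3, nat_lit 1, nat_lit 3, nat_lit 6, nat_lit 2, nat_lit 6, nat_lit 5, nat_lit 0],
  [nat_lit 2, nat_lit 5, nat_lit 3, nat_lit 1, nat_lit 3, nat_lit 6, nat_lit 3, nat_lit 1, nat_lit 3, nat_lit 5, nat_lit 6, nat_lit 2],
  [nat_lit 3, nat_lit 1, nat_lit 5, nat_lit 1, nat_lit 3, nat_lit 6, nat_lit 3, nat_lit 1, nat_lit 3, nat_lit 6, nat_lit 3, nat_lit 5, nat_lit 3, nat_lit 1],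
  [nat_lit 0, nat_lit 1, nat_lit 6, nat_lit 3, nat_lit 5, nat_lit 0, nat_lit 3, nat_lit 1, nat_lit 6],
  [nat_lit 4, nat_lit 2, nat_lit 0, nat_lit 5, nat_lit 1, nat_lit 6, nat_lit 2, nat_lit 4, nat_lit 3, nat_lit 5, nat_lit 3, nat_lit 6, nat_lit 1, nat_lit 5, nat_lit 1],
  [nat_lit 0, nat_lit 1, nat_lit 6, nat_lit 3, nat_lit 1, nat_lit 5, nat_lit 1, nat_lit 5, nat_lit 1, nat_lit 2, nat_lit 6, nat_lit 5, nat_lit 2, nat_lit 3, nat_lit 4],
  [nat_lit 5, nat_lit 1, nat_lit 2, nat_lit 5, nat_lit 3, nat_lit 6, nat_lit 2, nat_lit 0, nat_lit 5, nat_lit 0, nat_lit 2, nat_lit 6, nat_lit 5, nat_lit 2],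
  [nat_lit 2],
  [nat_lit 1],
  [nat_lit 0],
  [nat_lit 3],
  [nat_lit 4],
  [nat_lit 5],
  [nat_lit 6]]
noncomputable def L6th_P : ℕ → ℕ → ℕ := wdsP H15.XCo2C.P L6th_W
noncomputable def L6tl0Dd : ℕ := nat_lit 0xc5cbea5409646a9ed079b3508dd412dd025e25928705b1296424110803c1c00
noncomputable def L6tl0D (u : ℕ) : ℕ := Nat.land (Nat.shiftRight L6tl0Dd (Nat.mul u (nat_lit 9))) (nat_lit 511)
noncomputable def L6tl0Pd : ℕ := nat_lit 0x8cc0f477472c19c2cc8578c480f1f77936312ed27144e3bd7c45cc17f5ff53e868249228805397841085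
noncomputable def L6tl0P (u : ℕ) : ℕ := Nat.land (Nat.shiftRight L6tl0Pd (Nat.mul u (nat_lit 12))) (nat_lit 4095)
noncomputable def L6tl0Qd : ℕ := nat_lit 0x1b0000000014000000000000000000000000000000000000000000000000000000000000000000000000000000000000000000000000000000000000000000600000000000000000000a800000000000000000000000000200000000000000000000000000000000000000000000000000000000000009800000000000600000000000000000000000000000000000000000000000000000000000000000000000000000000b000000000000000000000000000000000000000000000000000000000000880000000000000000000000000000000000001900000000000000000000000000000000000000000000000000000000000000000000000000000000000000001800000000000000000000000000000000000000000000000000000000000000000000000000000000000000000000000000000000000000000000000000000000000000000000000000000000000000000000000000000000000000000000000000000000000000000000000000000000000000000000000000000000000000000000000000000000000000000000000000000000000000000000000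02000000000000000000000000000000000000000000000000000000000000004000000000000000000000000000000000000000000000000000000000000000a000000000000000000000000000000000000000000000000000000000000000000000000000000000000000000000000000000000000000000000000000000000000000000000000000000000000000000000000000000001c000000000000000000000000000000000000000000000000000000000000000000000000000000000000000000000000000000000000000000000000000000000000000000000000000000000000000000000000000000000000000000000000000000000000000000000000000000000000000000000000000000000000000000000000000000000000000000000000000000000034000000000000000000000000000000000000000000000000000000000000000000000000000000000000000000000000000000000000000000000000000000000000000000000000000000000000000000000000000000000001800000000000000000000000000000000000000000000001000000000000000000000000000000000000000000000000000000000000000000000000000000000000000000000000000000000000000000000000000000000000000000000000000000000000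00000000000000000000000000000000000000000000000000000001e0000000000000000000000000000000000000001600000000000000000000000000000000000000000000000000000000000000000000000000000000000000000000000000000000000000001c0000000000000000000000000000000000000000000000000a00000000000000000000000000000000000000004000000000000000000000000000000000000000000000000000000000000900000000000000000000000000000000000000000000000000000000000000000000000000000000000000000000000000000000000000001700000000000000000000000000000000000480000000000000000000000000000000000000000000000000000000000000000000000000000000000000000000000000000000000000000000000000000000000000000000000000000000000000000000000000001a00000000000000000000000000000000000000000000000000000000000000000000000000000000000000000000000000000000000000000000000000000000000000000000000000000000000000000000000000000000000000000000000000000000000000000000000000000000000000000000000000000000000000000000000000000000000000000000000000000000000000000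
noncomputable def L6tl0Q (u : ℕ) : ℕ := Nat.land (Nat.shiftRight L6tl0Qd (Nat.mul u (nat_lit 5))) (nat_lit 31)
noncomputable def L6tl0 : Lev := ⟨28, 19, L6tl0D, L6tl0P, L6tl0Q⟩
noncomputable def L6tl1Dd : ℕ := nat_lit 0x3d8f52521c25daec6fad132344c0d4de613e0984e53190604816148681a00
noncomputable def L6tl1D (u : ℕ) : ℕ := Nat.land (Nat.shiftRight L6tl1Dd (Nat.mul u (nat_lit 9))) (nat_lit 511)
noncomputable def L6tl1Pd : ℕ := nat_lit 0x2498053bd8410f48cc7935cc8c419c8572ed39772c80f17f1f753e2712cc7746317c42288685ff44e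
noncomputable def L6tl1P (u : ℕ) : ℕ := Nat.land (Nat.shiftRight L6tl1Pd (Nat.mul u (nat_lit 12))) (nat_lit 4095)
noncomputable def L6tl1Qd : ℕ := nat_lit 0x1500000000120000000000000000000000000000000000000000000000000000000000000000000000000000000000000000000000000000000000000000002000000000000000000008000000000000000000000000002e000000000000000000000000000000000000000000000000000000000000060000000000032000000000000000000000000000000000000000000000000000000000000000000000000000000004000000000000000000000000000000000000000000000000000000000000a00000000000000000000000000000000000000600000000000000000000000000000000000000000000000000000000000000000000000000000000000000000d00000000000000000000000000000000000000000000000000000000000000000000000000000000000000000000000000000000000000000000000000000000000000000000000000000000000000000000000000000000000000000000000000000000000000000000000000000000000000000000000000000000000000000000000000000000000000000000000000000000000000000000000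00a0000000000000000000000000000000000000000000000000000000000000080000000000000000000000000000000000000000000000000000000000000130000000000000000000000000000000000000000000000000000000000000000000000000000000000000000000000000000000000000000000000000000000000000000000000000000000000000000000000000000000024000000000000000000000000000000000000000000000000000000000000000000000000000000000000000000000000000000000000000000000000000000000000000000000000000000000000000000000000000000000000000000000000000000000000000000000000000000000000000000000000000000000000000000000000000000000000000000000000000000000000000000000000000000000000000000000000000000000000000000000000000000000000000000000000000000000000000000000000000000000000000000000000000000000000000000000000000000000000000000000003000000000000000000000000000000000000000000000007000000000000000000000000000000000000000000000000000000000000000000000000000000000000000000000000000000000000000000000000000000000000000000000000000000000000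00000000000000000000000000000000000000000000000000000001e000000000000000000000000000000000000000070000000000000000000000000000000000000000000000000000000000000000000000000000000000000000000000000000000000000000100000000000000000000000000000000000000000000000003400000000000000000000000000000000000000003000000000000000000000000000000000000000000000000000000000000500000000000000000000000000000000000000000000000000000000000000000000000000000000000000000000000000000000000000001100000000000000000000000000000000000580000000000000000000000000000000000000000000000000000000000000000000000000000000000000000000000000000000000000000000000000000000000000000000000000000000000000000000000000001600000000000000000000000000000000000000000000000000000000000000000000000000000000000000000000000000000000000000000000000000000000000000000000000000000000000000000000000000000000000000000000000000000000000000000000000000000000000000000000000000000000000000000000000000000000000000000000000000000000000000000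
noncomputable def L6tl1Q (u : ℕ) : ℕ := Nat.land (Nat.shiftRight L6tl1Qd (Nat.mul u (nat_lit 5))) (nat_lit 31)
noncomputable def L6tl1 : Lev := ⟨27, 14, L6tl1D, L6tl1P, L6tl1Q⟩
noncomputable def L6tl2Dd : ℕ := nat_lit 0x33b248957a22e60600
noncomputable def L6tl2D (u : ℕ) : ℕ := Nat.land (Nat.shiftRight L6tl2Dd (Nat.mul u (nat_lit 7))) (nat_lit 127)
noncomputable def L6tl2Pd : ℕ := nat_lit 0x17f72c2710f42498cc19c8058c480f
noncomputable def L6tl2P (u : ℕ) : ℕ := Nat.land (Nat.shiftRight L6tl2Pd (Nat.mul u (nat_lit 12))) (nat_lit 4095)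
noncomputable def L6tl2Qd : ℕ := nat_lit 0x40000000100000000000000000000000000000000000000000000000000000000000000000000000000000000000000000000000000000000000000000000000000000000000000000000000000000000000000000000000000000000000000000000002000000000000000000000000000000000000000000000000000000000000000000000000000000000000000000000000000000000000000000000000000000000000000000000000000000000000000000000000000000000000000000000000000000000000000000000000800000000000000000000000000000000000000000000000000000000000000000000000000000000000000000000000000000000000000000000000000000000000000000000000000000000000000000000000000000000000000000000000000000000000000000000000000000000000000000000000000000000000000000000000000000000000000000000000000000000000000000000000000000000000000000000000000000000000000000000000000000000000000000000000000000000000000000000000000000000000000000000000000000000000000000000000000000000000000000000000000000000000000000000000000000000000000000000000000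0000000000000000000000000000000000000000000000000000000000000000000000000000000000000000000000000000000000000000000000000000000000000000000000000000000000000000000000000000000000000000000000000000000000000000000000000000000000000000000000000000000000000000000000000000000000000000000000000000000000000000000000000000000000000000000000000000000000000000000000000000000000000000000000000000000000000000000000000000000000000000000000000000000000000000000000000000000000000000000000000000000000000000000000000000000000000000000000000000000000000000000000000000000000000000000000000000000000000000000000000000000000000000000000000000000000000000000000000000000000000000000000000000000070000000000000000000000000000000000000005000000000000000000000000000000000000000000000000000000000000000000000000000000000000000000000000000000000000000000000000000000000000000000000000000000000000000000000000000030000000000000000000000000000900000000000000000000000000000000000000000000000000000000000000000000000000000000000000000000000000000000000000000000000000000000000000000060000000000000000000000000000000000000000000000000000000000000000000000000000000000000000000000000000000000000000000000000000000000000000000000000000000000000000000000000000000000000000000000000000000000000000000000000000000000000000000000000000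
noncomputable def L6tl2Q (u : ℕ) : ℕ := Nat.land (Nat.shiftRight L6tl2Qd (Nat.mul u (nat_lit 4))) (nat_lit 15)
noncomputable def L6tl2 : Lev := ⟨10, 13, L6tl2D, L6tl2P, L6tl2Q⟩
noncomputable def L6tl3Dd : ℕ := nat_lit 0x8eb96162a5c580
noncomputable def L6tl3D (u : ℕ) : ℕ := Nat.land (Nat.shiftRight L6tl3Dd (Nat.mul u (nat_lit 7))) (nat_lit 127)
noncomputable def L6tl3Pd : ℕ := nat_lit 0x7c45ff8412ed7747933bd5cc
noncomputable def L6tl3P (u : ℕ) : ℕ := Nat.land (Nat.shiftRight L6tl3Pd (Nat.mul u (nat_lit 12))) (nat_lit 4095)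
noncomputable def L6tl3Qd : ℕ := nat_lit 0x28000000000000000000000000000000000000000000000000000000000000000000000000000000000000000000007000000000000000000000000000000000000400000000000000000000003000000000000000000000000000000000000000000000000000000000000000000000000000000000000000000000000000000000000000000000000000000000000000000000000000000000000000000000000000000000000000000000000000000000000000000000000000000000000000000000000000000000000000000000000000000000000000c00000000000000000000000000000000000000000000000000000000000000000000000000000000000000000000000000000000000000000000000000000000000000000000000000000000000000000000000000000000000000000000000000000000000000000000000000000000000000000000000000000000000000000000000000000000000000000000000000000000000000000000000000000000000000000000000000000000000000000000000000000000000000000000000000000000000000000000000000000000000000000000000008000000000000000000000000000000000000000000000000000000000000000000000000000000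000000000000000000000000000000000000000000000000000000000000000000000000000020000000000000000000000000000000000000000000000000000000000000000000000000000000000000000000000000000000000000000000000000000000000000000000000000000000000000000000000000000000000000000000000000000000000000000000000000000000000000000000000000000000000000000000000000000000000000000000000000000000000000000000000000000000000000000000000000000000000000000000000000000000000000000000000000000000000000000000000000000000000000000000000000000000000000000000000000000000000000000000000000000000000000000000000000000000000000000000000000000000000000000000000000000000000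
noncomputable def L6tl3Q (u : ℕ) : ℕ := Nat.land (Nat.shiftRight L6tl3Qd (Nat.mul u (nat_lit 3))) (nat_lit 7)
noncomputable def L6tl3 : Lev := ⟨8, 12, L6tl3D, L6tl3P, L6tl3Q⟩
noncomputable def L6tl4Dd : ℕ := nat_lit 0xa4d40
noncomputable def L6tl4D (u : ℕ) : ℕ := Nat.land (Nat.shiftRight L6tl4Dd (Nat.mul u (nat_lit 5))) (nat_lit 31)
noncomputable def L6tl4Pd : ℕ := nat_lit 0xf48cc805271
noncomputable def L6tl4P (u : ℕ) : ℕ := Nat.land (Nat.shiftRight L6tl4Pd (Nat.mul u (nat_lit 12))) (nat_lit 4095)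
noncomputable def L6tl4Qd : ℕ := nat_lit 0x20000000000000000000000000000000000000000000000000000000000000000000000000000000000000000000000000004000000000000000000000000000000000000000000000000000000000000000000000000000000000000000000000000000000000000000000000000000000000000000000000000000000000000000000000000000000000000000000000000000000000000000000000000000000000000000000000000000000000000000000000000000000000000000000000000000000000000000000000000000000000000000000000000000000000000000000000000000000000000000000000000000000000000000000000000000000000000000000000000000000000000000000000000000000000000000000000000000000000000000000000000000000000000000000000000000000000000000000000000000000000000000000000000000000000000000000000000000000000000000000000000000000000000000000000000000000000000000000000000000000000000000000000000000000000000000000000000000000000000000000000000000000000000000000000000000000000000000000000000000000000000000000000000000000000000000000000000000000000000000000000000000000000000000000000000000000000000000300000000000000000000000000000000000000000000000000000000000000000000000000000000000000000000000000000000000000000000000000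
noncomputable def L6tl4Q (u : ℕ) : ℕ := Nat.land (Nat.shiftRight L6tl4Qd (Nat.mul u (nat_lit 2))) (nat_lit 3)
noncomputable def L6tl4 : Lev := ⟨4, 11, L6tl4D, L6tl4P, L6tl4Q⟩
noncomputable def L6tl5Dd : ℕ := nat_lit 0x4920
noncomputable def L6tl5D (u : ℕ) : ℕ := Nat.land (Nat.shiftRight L6tl5Dd (Nat.mul u (nat_lit 5))) (nat_lit 31)
noncomputable def L6tl5Pd : ℕ := nat_lit 0x8058cc0f4
noncomputable def L6tl5P (u : ℕ) : ℕ := Nat.land (Nat.shiftRight L6tl5Pd (Nat.mul u (nat_lit 12))) (nat_lit 4095)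
noncomputable def L6tl5Qd : ℕ := nat_lit 0x10000000000000000000000000000000000000000000000000000000000000000000000000000000000000000000000000008000000000000000000000000000000000000000000000000000000000000000000000000000000000000000000000000000000000000000000000000000000000000000000000000000000000000000000000000000000000000000000000000000000000000000000000000000000000000000000000000000000000000000000000000000000000000000000000000000000000000000000000000000000000000000000000000000000000000000000000000000000000000000000000000000000000000000000000000000000000000000000000000000000000000000000000000000000000000000000000000000000000000000000000000000000000000000000000000000000000000000000000000000000000000000000000000000000000000000000000000000000000000000000000000000000000000000000000000000000000000000000000000000000000000000000000000000000000000000000000000000000000000000000000000000000000000000000000000000000000000000000000000000000000000000000000000000000000000000000000000000000000000000000000000000000000000000000000000000000000000000000000000000000000000000000000000000000000000000000000000000000000000000000000000000000000000000000000000000000000000000000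
noncomputable def L6tl5Q (u : ℕ) : ℕ := Nat.land (Nat.shiftRight L6tl5Qd (Nat.mul u (nat_lit 2))) (nat_lit 3)
noncomputable def L6tl5 : Lev := ⟨3, 10, L6tl5D, L6tl5P, L6tl5Q⟩
noncomputable def L6tl6Dd : ℕ := nat_lit 0x80
noncomputable def L6tl6D (u : ℕ) : ℕ := Nat.land (Nat.shiftRight L6tl6Dd (Nat.mul u (nat_lit 4))) (nat_lit 15)
noncomputable def L6tl6Pd : ℕ := nat_lit 0x9259c
noncomputable def L6tl6P (u : ℕ) : ℕ := Nat.land (Nat.shiftRight L6tl6Pd (Nat.mul u (nat_lit 10))) (nat_lit 1023)
noncomputable def L6tl6Qd : ℕ := nat_lit 0x200000000000000000000000000000000000000000000000000000000000000000000000000000000000000000000000000000000000000000000000000000000000000000000000000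
noncomputable def L6tl6Q (u : ℕ) : ℕ := Nat.land (Nat.shiftRight L6tl6Qd (Nat.mul u (nat_lit 1))) (nat_lit 1)
noncomputable def L6tl6 : Lev := ⟨2, 9, L6tl6D, L6tl6P, L6tl6Q⟩
noncomputable def L6tl7Dd : ℕ := nat_lit 0xbfb7776f655f574f554d442f27251f17241e150f0d140e1a0b21110705060400
noncomputable def L6tl7D (u : ℕ) : ℕ := Nat.land (Nat.shiftRight L6tl7Dd (Nat.mul u (nat_lit 8))) (nat_lit 255)
noncomputable def L6tl7Pd : ℕ := nat_lit 0x63930c2636fa6f526186412519450189d2fc5ab4762c059e8624a92cd1261022b160271a6095107e82d13333ff39a013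
noncomputable def L6tl7P (u : ℕ) : ℕ := Nat.land (Nat.shiftRight L6tl7Pd (Nat.mul u (nat_lit 12))) (nat_lit 4095)
noncomputable def L6tl7Qd : ℕ := nat_lit 0x2a0000000000000000000000000000000000000000000000000000000000000000000001903c000000000000000000000000000000000000000000000000000000000000000000000000000000000000000000000000000000000000000000000000000000000000000000000000000000050000000000000000000000000000000000000000000000000000000000000000000000000000000000000000000000000000000000000000000000000000000000000000000000000000000000000000000000000000000000000000000000000000000000000000000000000000000000000000000000000000000000000000200000000000000000000000000000000000000070000036000000000000000000000000000000000000000000000000000000000000000000000000000000000000000000000000000000000000000000000000000000000000000000000000000000000000000000000000000000000000000000000000000000000000000000000000000000000000000003e00000000000000000000000000000000000000000000000000000000000e000000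02400000000000000000000000000000000000000000000000000000000000000000000000000000000000000000000000000000000000980000000000000040000000000000000000000000000000000000000000000000000000000000000000000000000000000000000000000000000000000000000000000000000000000000000000000000000000000000000000000000000000006000000000000000002c0000000000000000000000000000000000000000000000000000000000000000000000000000000000000000000000000000000000001c00000000000000000000000000000000000000000000000000000000000000480000000000000000000000000000000000000000000000000000000000000000000000000000000000000000000000000000000000000000000000000000000000000000000000000001000000000000000000000000000000000000000000000000000000000000000000000000000000000000000000000000000000000000000000000000000000400000000000000000000000000000000000000000000000000000000000000000000000000000000000000000000000000000000000000000000000000000001800000000000000000000000000000000000000000000001e00000000000000000014000000000000000000000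0000000000000000000000000000000080001a00000000000000110000000000000000014000000000000000000000000000000000000000000000000000000000000000000000000000000000000000000000000e834000000000000000000000000000000000000000000000000000000000000000000000000000000000000000000000000000000000000000000000000000000000000000000000000000000000000000000000000000000000000000000000000000000000000000000000000000000000000000000000000000000000000001700000000000000000000000000000000000000000000000000000000000000000000000000000000000000000000000000000000000000000000000000000000000000003300000000000000000000000000000000000000000002c0000000000000000000000000000000000000000000000000000000000000000000000000000000000000000000000000000000000000000000000000000000000000000000000000000000000000000000000000000000000000000000000000000000000000000000000000000000000000000000000000000000000000000000000000000000000000000000000000000000000000000000000000000000000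
noncomputable def L6tl7Q (u : ℕ) : ℕ := Nat.land (Nat.shiftRight L6tl7Qd (Nat.mul u (nat_lit 5))) (nat_lit 31)
noncomputable def L6tl7 : Lev := ⟨32, 8, L6tl7D, L6tl7P, L6tl7Q⟩
noncomputable def L6tl8Dd : ℕ := nat_lit 0xc
noncomputable def L6tl8D (u : ℕ) : ℕ := Nat.land (Nat.shiftRight L6tl8Dd (Nat.mul u (nat_lit 2))) (nat_lit 3)
noncomputable def L6tl8Pd : ℕ := nat_lit 0x1cd609
noncomputable def L6tl8P (u : ℕ) : ℕ := Nat.land (Nat.shiftRight L6tl8Pd (Nat.mul u (nat_lit 11))) (nat_lit 2047)
noncomputable def L6tl8Qd : ℕ := nat_lit 0x400000000000000000000000000000000000000000000000000000000000000000000000000000000000000000000000000000000000000000000000000000000000000000000000000000000000000000000000000000000000000000000000000000000000000000000000000000000000000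
noncomputable def L6tl8Q (u : ℕ) : ℕ := Nat.land (Nat.shiftRight L6tl8Qd (Nat.mul u (nat_lit 1))) (nat_lit 1)
noncomputable def L6tl8 : Lev := ⟨2, 4, L6tl8D, L6tl8P, L6tl8Q⟩
noncomputable def L6tl9Dd : ℕ := nat_lit 8
noncomputable def L6tl9D (u : ℕ) : ℕ := Nat.land (Nat.shiftRight L6tl9Dd (Nat.mul u (nat_lit 2))) (nat_lit 3)
noncomputable def L6tl9Pd : ℕ := nat_lit 0x131efa
noncomputable def L6tl9P (u : ℕ) : ℕ := Nat.land (Nat.shiftRight L6tl9Pd (Nat.mul u (nat_lit 11))) (nat_lit 2047)
noncomputable def L6tl9Qd : ℕ := nat_lit 0x800000000000000000000000000000000000000000000000000000000000000000000000000000000000000000000000000000000000000000000000000000000000000000000000000000000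
noncomputable def L6tl9Q (u : ℕ) : ℕ := Nat.land (Nat.shiftRight L6tl9Qd (Nat.mul u (nat_lit 1))) (nat_lit 1)
noncomputable def L6tl9 : Lev := ⟨2, 3, L6tl9D, L6tl9P, L6tl9Q⟩
noncomputable def L6tl10Dd : ℕ := nat_lit 2
noncomputable def L6tl10D (u : ℕ) : ℕ := Nat.land (Nat.shiftRight L6tl10Dd (Nat.mul u (nat_lit 1))) (nat_lit 1)
noncomputable def L6tl10Pd : ℕ := nat_lit 0x158e02
noncomputable def L6tl10P (u : ℕ) : ℕ := Nat.land (Nat.shiftRight L6tl10Pd (Nat.mul u (nat_lit 11))) (nat_lit 2047)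
noncomputable def L6tl10Qd : ℕ := nat_lit 0x20000000000000000000000000000000000000000000000000000000000000000000000000000000000000000000000000000000000000000000000000000000000000000000000000000000000000000000000000000
noncomputable def L6tl10Q (u : ℕ) : ℕ := Nat.land (Nat.shiftRight L6tl10Qd (Nat.mul u (nat_lit 1))) (nat_lit 1)
noncomputable def L6tl10 : Lev := ⟨2, 2, L6tl10D, L6tl10P, L6tl10Q⟩
noncomputable def L6tl11Dd : ℕ := nat_lit 0
noncomputable def L6tl11D (u : ℕ) : ℕ := Nat.land (Nat.shiftRight L6tl11Dd (Nat.mul u (nat_lit 1))) (nat_lit 1)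
noncomputable def L6tl11Pd : ℕ := nat_lit 0x168d10
noncomputable def L6tl11P (u : ℕ) : ℕ := Nat.land (Nat.shiftRight L6tl11Pd (Nat.mul u (nat_lit 11))) (nat_lit 2047)
noncomputable def L6tl11Qd : ℕ := nat_lit 0x2000000000000000000000000000000000000000000000000000000000000000000000000000000000000000000000000000000000000000000000000000000000000000000000000000000000000000000000000000000000000
noncomputable def L6tl11Q (u : ℕ) : ℕ := Nat.land (Nat.shiftRight L6tl11Qd (Nat.mul u (nat_lit 1))) (nat_lit 1)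
noncomputable def L6tl11 : Lev := ⟨2, 1, L6tl11D, L6tl11P, L6tl11Q⟩
noncomputable def L6ce_W : List (List ℕ) := [[nat_lit 0, nat_lit 3, nat_lit 6, nat_lit 3, nat_lit 6, nat_lit 3, nat_lit 6, nat_lit 3, nat_lit 6],
  [nat_lit 5, nat_lit 3, nat_lit 1, nat_lit 6, nat_lit 2, nat_lit 1, nat_lit 6, nat_lit 3, nat_lit 5],
  [nat_lit 3, nat_lit 1, nat_lit 4, nat_lit 6, nat_lit 3, nat_lit 1, nat_lit 5, nat_lit 1, nat_lit 3, nat_lit 4, nat_lit 6, nat_lit 1, nat_lit 3],
  [nat_lit 0, nat_lit 4, nat_lit 3, nat_lit 6, nat_lit 3, nat_lit 2, nat_lit 4, nat_lit 3, nat_lit 6, nat_lit 2, nat_lit 3, nat_lit 5, nat_lit 1, nat_lit 3]]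
noncomputable def L6ce_P : ℕ → ℕ → ℕ := wdsP H15.XCo2C.P L6ce_W
noncomputable def L6cc7Dd : ℕ := nat_lit 0
noncomputable def L6cc7D (u : ℕ) : ℕ := Nat.land (Nat.shiftRight L6cc7Dd (Nat.mul u (nat_lit 1))) (nat_lit 1)
noncomputable def L6cc7Pd : ℕ := nat_lit 0x2d5813
noncomputable def L6cc7P (u : ℕ) : ℕ := Nat.land (Nat.shiftRight L6cc7Pd (Nat.mul u (nat_lit 11))) (nat_lit 2047)
noncomputable def L6cc7Qd : ℕ := nat_lit 0x800000000000000000000000000000000000000000000000000000000000000000000000000000000000000000000000000000000000000000000000000000000000000000000000000000000000000000000000000000000000000000000000000000000000000000000000000000000000000000000000000000000000000000000000000000000000000000000000000000000000000000000000000000000000000000000000000000000000000000000000000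
noncomputable def L6cc7Q (u : ℕ) : ℕ := Nat.land (Nat.shiftRight L6cc7Qd (Nat.mul u (nat_lit 1))) (nat_lit 1)
noncomputable def L6cc7 : Lev := ⟨2, 1, L6cc7D, L6cc7P, L6cc7Q⟩
noncomputable def L6tn0Fd : ℕ := nat_lit 0x99999a25a565a954
noncomputable def L6tn0F (u : ℕ) : ℕ := Nat.land (Nat.shiftRight L6tn0Fd (Nat.mul u (nat_lit 2))) (nat_lit 3)
noncomputable def L6tn0 : Nd := ⟨L6tn0F, (nat_lit 2), (nat_lit 1), [[nat_lit 0]], [((nat_lit 0), []), ((nat_lit 0), [nat_lit 0])], []⟩
noncomputable def L6cc6Dd : ℕ := nat_lit 2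
noncomputable def L6cc6D (u : ℕ) : ℕ := Nat.land (Nat.shiftRight L6cc6Dd (Nat.mul u (nat_lit 1))) (nat_lit 1)
noncomputable def L6cc6Pd : ℕ := nat_lit 0x9259c
noncomputable def L6cc6P (u : ℕ) : ℕ := Nat.land (Nat.shiftRight L6cc6Pd (Nat.mul u (nat_lit 10))) (nat_lit 1023)
noncomputable def L6cc6Qd : ℕ := nat_lit 0x200000000000000000000000000000000000000000000000000000000000000000000000000000000000000000000000000000000000000000000000000000000000000000000000000
noncomputable def L6cc6Q (u : ℕ) : ℕ := Nat.land (Nat.shiftRight L6cc6Qd (Nat.mul u (nat_lit 1))) (nat_lit 1)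
noncomputable def L6cc6 : Lev := ⟨2, 2, L6cc6D, L6cc6P, L6cc6Q⟩
noncomputable def L6tn1Fd : ℕ := nat_lit 0
noncomputable def L6tn1F (u : ℕ) : ℕ := Nat.land (Nat.shiftRight L6tn1Fd (Nat.mul u (nat_lit 1))) (nat_lit 1)
noncomputable def L6tn1 : Nd := ⟨L6tn1F, (nat_lit 2), (nat_lit 2), [], [((nat_lit 0), [])], []⟩
noncomputable def L6cc5Dd : ℕ := nat_lit 0x110
noncomputable def L6cc5D (u : ℕ) : ℕ := Nat.land (Nat.shiftRight L6cc5Dd (Nat.mul u (nat_lit 3))) (nat_lit 7)
noncomputable def L6cc5Pd : ℕ := nat_lit 0x8cc8050f4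
noncomputable def L6cc5P (u : ℕ) : ℕ := Nat.land (Nat.shiftRight L6cc5Pd (Nat.mul u (nat_lit 12))) (nat_lit 4095)
noncomputable def L6cc5Qd : ℕ := nat_lit 0x20000000000000000000000000000000000000000000000000000000000000000000000000000000000000000000000000004000000000000000000000000000000000000000000000000000000000000000000000000000000000000000000000000000000000000000000000000000000000000000000000000000000000000000000000000000000000000000000000000000000000000000000000000000000000000000000000000000000000000000000000000000000000000000000000000000000000000000000000000000000000000000000000000000000000000000000000000000000000000000000000000000000000000000000000000000000000000000000000000000000000000000000000000000000000000000000000000000000000000000000000000000000000000000000000000000000000000000000000000000000000000000000000000000000000000000000000000000000000000000000000000000000000000000000000000000000000000000000000000000000000000000000000000000000000000000000000000000000000000000000000000000000000000000000000000000000000000000000000000000000000000000000000000000000000000000000000000000000000000000000000000000000000000000000000000000000000000000000000000000000000000000000000000000000000000000000000000000000000000000000000000000000000000000000000000000000000000000000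
noncomputable def L6cc5Q (u : ℕ) : ℕ := Nat.land (Nat.shiftRight L6cc5Qd (Nat.mul u (nat_lit 2))) (nat_lit 3)
noncomputable def L6cc5 : Lev := ⟨3, 3, L6cc5D, L6cc5P, L6cc5Q⟩
noncomputable def L6tn2Fd : ℕ := nat_lit 0
noncomputable def L6tn2F (u : ℕ) : ℕ := Nat.land (Nat.shiftRight L6tn2Fd (Nat.mul u (nat_lit 1))) (nat_lit 1)
noncomputable def L6tn2 : Nd := ⟨L6tn2F, (nat_lit 3), (nat_lit 3), [], [((nat_lit 0), [])], []⟩
noncomputable def L6cc0Dd : ℕ := nat_lit 0xfb730
noncomputable def L6cc0D (u : ℕ) : ℕ := Nat.land (Nat.shiftRight L6cc0Dd (Nat.mul u (nat_lit 4))) (nat_lit 15)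
noncomputable def L6cc0Pd : ℕ := nat_lit 0x44e80f5cc271085
noncomputable def L6cc0P (u : ℕ) : ℕ := Nat.land (Nat.shiftRight L6cc0Pd (Nat.mul u (nat_lit 12))) (nat_lit 4095)
noncomputable def L6cc0Qd : ℕ := nat_lit 0x600000000000000000000000000000000000000000000000000000000000000000000000000000000000000000000000000000000000000000000000000000000000000000000000000000000000000000000000000000000000000000000000000000000000000000000000000000000000000000000000000000000000000000000000000000000000000000000000000000000000000000000000000000000000000000000000000000000000000000000000000000000000000000000000000000000000000000000000000000000000000000000000002000000000000000000000000000000000000000000000000000000000000000000000000000000000000000000000000000000000000000000000000000000000000000000000000000000000000000000000000000000000000000000000000000000000000000000000000000000000000000000000000000000000000000000000000000000000000000000000100000000000000000000000000000000000000000000000000000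000000000000000000000000000000000000000000000000000000000000000000000000000000000000000000000000000000000000000000000000000000000000000000000000000000000000000000000000000000000000000000000000000000000000000000000000000000000000000000000000000000000000000000000000000000000000000000000000000000000000000008000000000000000000000000000000000000000000000000000000000000000000000000000000000000000000000000000000000000000000000000000000000000000000000000000000000000000000000000000000000000000000000000000000000000000000000000000000000000000000000000000000000000000000000000000000000000000000000000000000000000000000000000000000000000000000000000000000000000000000000000000000000000000000000000000000000000000000000000000000000000000000000000000000000000000000000000000000000000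
noncomputable def L6cc0Q (u : ℕ) : ℕ := Nat.land (Nat.shiftRight L6cc0Qd (Nat.mul u (nat_lit 3))) (nat_lit 7)
noncomputable def L6cc0 : Lev := ⟨5, 4, L6cc0D, L6cc0P, L6cc0Q⟩
noncomputable def L6tn3Fd : ℕ := nat_lit 0xbdcab3866f03ceb98006781730bd6198420
noncomputable def L6tn3F (u : ℕ) : ℕ := Nat.land (Nat.shiftRight L6tn3Fd (Nat.mul u (nat_lit 5))) (nat_lit 31)
noncomputable def L6tn3 : Nd := ⟨L6tn3F, (nat_lit 4), (nat_lit 4), [[nat_lit 0]], [((nat_lit 0), []), ((nat_lit 0), [nat_lit 0]), ((nat_lit 0), [nat_lit 0, nat_lit 0])], []⟩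
noncomputable def L6Y_W : List (List ℕ) := [[nat_lit 0],
  [nat_lit 1],
  [nat_lit 3],
  [nat_lit 11]]
noncomputable def L6Y_P : ℕ → ℕ → ℕ := wdsP J_P L6Y_W
noncomputable def L6 : List (List ℕ) := [[],
  [nat_lit 0],
  [nat_lit 1],
  [nat_lit 3],
  [nat_lit 11],
  [nat_lit 1, nat_lit 0],
  [nat_lit 3, nat_lit 0],
  [nat_lit 11, nat_lit 0],
  [nat_lit 3, nat_lit 1],
  [nat_lit 11, nat_lit 1],
  [nat_lit 3, nat_lit 3],
  [nat_lit 11, nat_lit 3],
  [nat_lit 1, nat_lit 11],
  [nat_lit 11, nat_lit 11],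
  [nat_lit 3, nat_lit 1, nat_lit 0],
  [nat_lit 11, nat_lit 1, nat_lit 0],
  [nat_lit 3, nat_lit 3, nat_lit 0],
  [nat_lit 11, nat_lit 3, nat_lit 0],
  [nat_lit 1, nat_lit 11, nat_lit 0],
  [nat_lit 11, nat_lit 11, nat_lit 0],
  [nat_lit 3, nat_lit 3, nat_lit 1],
  [nat_lit 11, nat_lit 3, nat_lit 1],
  [nat_lit 3, nat_lit 3, nat_lit 3],
  [nat_lit 11, nat_lit 3, nat_lit 3],
  [nat_lit 1, nat_lit 11, nat_lit 3],
  [nat_lit 11, nat_lit 11, nat_lit 3],
  [nat_lit 3, nat_lit 3, nat_lit 1, nat_lit 0],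
  [nat_lit 11, nat_lit 3, nat_lit 1, nat_lit 0],
  [nat_lit 3, nat_lit 3, nat_lit 3, nat_lit 0],
  [nat_lit 11, nat_lit 3, nat_lit 3, nat_lit 0],
  [nat_lit 1, nat_lit 11, nat_lit 3, nat_lit 0],
  [nat_lit 11, nat_lit 11, nat_lit 3, nat_lit 0],
  [nat_lit 3, nat_lit 3, nat_lit 3, nat_lit 1],
  [nat_lit 11, nat_lit 3, nat_lit 3, nat_lit 1],
  [nat_lit 3, nat_lit 3, nat_lit 3, nat_lit 3],
  [nat_lit 11, nat_lit 3, nat_lit 3, nat_lit 3],
  [nat_lit 1, nat_lit 11, nat_lit 3, nat_lit 3],
  [nat_lit 11, nat_lit 11, nat_lit 3, nat_lit 3],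
  [nat_lit 3, nat_lit 3, nat_lit 3, nat_lit 1, nat_lit 0],
  [nat_lit 11, nat_lit 3, nat_lit 3, nat_lit 1, nat_lit 0],
  [nat_lit 3, nat_lit 3, nat_lit 3, nat_lit 3, nat_lit 0],
  [nat_lit 11, nat_lit 3, nat_lit 3, nat_lit 3, nat_lit 0],
  [nat_lit 1, nat_lit 11, nat_lit 3, nat_lit 3, nat_lit 0],
  [nat_lit 11, nat_lit 11, nat_lit 3, nat_lit 3, nat_lit 0],
  [nat_lit 3, nat_lit 3, nat_lit 3, nat_lit 3, nat_lit 1],
  [nat_lit 11, nat_lit 3, nat_lit 3, nat_lit 3, nat_lit 1],
  [nat_lit 11, nat_lit 3, nat_lit 3, nat_lit 3, nat_lit 3],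
  [nat_lit 1, nat_lit 11, nat_lit 3, nat_lit 3, nat_lit 3],
  [nat_lit 11, nat_lit 11, nat_lit 3, nat_lit 3, nat_lit 3],
  [nat_lit 3, nat_lit 3, nat_lit 3, nat_lit 3, nat_lit 1, nat_lit 0],
  [nat_lit 11, nat_lit 3, nat_lit 3, nat_lit 3, nat_lit 1, nat_lit 0],
  [nat_lit 11, nat_lit 3, nat_lit 3, nat_lit 3, nat_lit 3, nat_lit 0],
  [nat_lit 1, nat_lit 11, nat_lit 3, nat_lit 3, nat_lit 3, nat_lit 0],
  [nat_lit 11, nat_lit 11, nat_lit 3, nat_lit 3, nat_lit 3, nat_lit 0],
  [nat_lit 11, nat_lit 3, nat_lit 3, nat_lit 3, nat_lit 3, nat_lit 1],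
  [nat_lit 1, nat_lit 11, nat_lit 3, nat_lit 3, nat_lit 3, nat_lit 3],
  [nat_lit 11, nat_lit 11, nat_lit 3, nat_lit 3, nat_lit 3, nat_lit 3],
  [nat_lit 11, nat_lit 3, nat_lit 3, nat_lit 3, nat_lit 3, nat_lit 1, nat_lit 0],
  [nat_lit 1, nat_lit 11, nat_lit 3, nat_lit 3, nat_lit 3, nat_lit 3, nat_lit 0],
  [nat_lit 11, nat_lit 11, nat_lit 3, nat_lit 3, nat_lit 3, nat_lit 3, nat_lit 0]]
noncomputable def L6Td : List ℕ := [nat_lit 0xe37dbbeb9c2fbadb35d33cb19648e2860aeaa689e66585d65547de75c6da34c2ca2484d24503ce103087185001,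
  nat_lit 0xe73ef6bb8ca9eb5a2d8f7c229ddd31adc857bec9566d1aa67d054b92064a3c779a4c624461434348e04c200142,
  nat_lit 0x4d23cd309efa1f9178dc4d82d74cc1cb1c2fb80b6caeaa689e69648e28607de75c6da6585d655445038b288183,
  nat_lit 0xa31ea2b37726ef4e56838bf641ad73ab2294c2e92d18eae97a70c89636210457dd49b0026573154d13cd2c91c4]
noncomputable def L6T (k u : ℕ) : ℕ := Nat.land (Nat.shiftRight (nth (nat_lit 0) L6Td k) (Nat.mul u (nat_lit 6))) (nat_lit 63)
noncomputable def L7X_W : List (List ℕ) := [[nat_lit 1],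
  [nat_lit 5]]
noncomputable def L7X_P : ℕ → ℕ → ℕ := wdsP J_P L7X_W
noncomputable def L7th_W : List (List ℕ) := [[nat_lit 4, nat_lit 3, nat_lit 5, nat_lit 1, nat_lit 6, nat_lit 3, nat_lit 1, nat_lit 3, nat_lit 5, nat_lit 6, nat_lit 3, nat_lit 4],
  [nat_lit 1, nat_lit 2, nat_lit 5, nat_lit 1, nat_lit 3, nat_lit 6, nat_lit 3, nat_lit 1, nat_lit 3, nat_lit 6, nat_lit 3, nat_lit 5, nat_lit 2, nat_lit 1],
  [nat_lit 0, nat_lit 1, nat_lit 2, nat_lit 5, nat_lit 1, nat_lit 6, nat_lit 3, nat_lit 1, nat_lit 3, nat_lit 5, nat_lit 6, nat_lit 2, nat_lit 1, nat_lit 0],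
  [nat_lit 1, nat_lit 5, nat_lit 1, nat_lit 3, nat_lit 6, nat_lit 3, nat_lit 1, nat_lit 3, nat_lit 6, nat_lit 3, nat_lit 5, nat_lit 1],
  [nat_lit 3, nat_lit 1, nat_lit 6, nat_lit 3, nat_lit 1, nat_lit 3, nat_lit 6, nat_lit 3],
  [nat_lit 5, nat_lit 1, nat_lit 6, nat_lit 3, nat_lit 1, nat_lit 3, nat_lit 5, nat_lit 6],
  [nat_lit 2, nat_lit 1, nat_lit 6, nat_lit 3, nat_lit 1, nat_lit 3, nat_lit 6, nat_lit 2],
  [nat_lit 1, nat_lit 2, nat_lit 3, nat_lit 6, nat_lit 3, nat_lit 1, nat_lit 3, nat_lit 6, nat_lit 2, nat_lit 3],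
  [nat_lit 2, nat_lit 1, nat_lit 2, nat_lit 6, nat_lit 3, nat_lit 5, nat_lit 1, nat_lit 3, nat_lit 6, nat_lit 2, nat_lit 0, nat_lit 2, nat_lit 0],
  [nat_lit 3, nat_lit 2, nat_lit 6, nat_lit 3, nat_lit 5, nat_lit 6, nat_lit 2, nat_lit 6, nat_lit 3, nat_lit 6, nat_lit 3, nat_lit 1, nat_lit 2, nat_lit 1],
  [nat_lit 6, nat_lit 3, nat_lit 5, nat_lit 0, nat_lit 6, nat_lit 3, nat_lit 5, nat_lit 3, nat_lit 1, nat_lit 6, nat_lit 3, nat_lit 6, nat_lit 1, nat_lit 0],
  [nat_lit 2],
  [nat_lit 2, nat_lit 4, nat_lit 6, nat_lit 3, nat_lit 4, nat_lit 5, nat_lit 0, nat_lit 1, nat_lit 5, nat_lit 3, nat_lit 6, nat_lit 4, nat_lit 2],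
  [nat_lit 2, nat_lit 1, nat_lit 2, nat_lit 6, nat_lit 3, nat_lit 1, nat_lit 6, nat_lit 3, nat_lit 1, nat_lit 5, nat_lit 6, nat_lit 3, nat_lit 6, nat_lit 4, nat_lit 2],
  [nat_lit 5],
  [nat_lit 0],
  [nat_lit 1],
  [nat_lit 3],
  [nat_lit 4],
  [nat_lit 6]]
noncomputable def L7th_P : ℕ → ℕ → ℕ := wdsP H15.XCo2C.P L7th_W
noncomputable def L7tl0Dd : ℕ := nat_lit 0xa9e32cb3f9f4de2ac77543d168a439c89e612689c4c252d8883e13090441e00
noncomputable def L7tl0D (u : ℕ) : ℕ := Nat.land (Nat.shiftRight L7tl0Dd (Nat.mul u (nat_lit 9))) (nat_lit 511)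
noncomputable def L7tl0Pd : ℕ := nat_lit 0x852cc84139753e27144e22872c5ff80524917f63186819c7745cc3bd8cc1f77c480f2ed7938578c40f4
noncomputable def L7tl0P (u : ℕ) : ℕ := Nat.land (Nat.shiftRight L7tl0Pd (Nat.mul u (nat_lit 12))) (nat_lit 4095)
noncomputable def L7tl0Qd : ℕ := nat_lit 0x80000000001000000000000000000000000000000000000000000000000000000000000000000000000000000000000000000000000000000000000000000d0000000000000000000010000000000000000000000000032000000000000000000000000000000000000000000000000000000000000028000000000022000000000000000000000000000000000000000000000000000000000000000000000000000000006000000000000000000000000000000000000000000000000000000000000180000000000000000000000000000000000000b00000000000000000000000000000000000000000000000000000000000000000000000000000000000000001300000000000000000000000000000000000000000000000000000000000000000000000000000000000000000000000000000000000000000000000000000000000000000000000000000000000000000000000000000000000000000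00000000000000000000000000000000000000000000000000000000000000000000000000000000000000000000000000000000000000000000000000000001c00000000000000000000000000000000000000000000000000000000000009000000000000000000000000000000000000000000000000000000000000000a000000000000000000000000000000000000000000000000000000000000000000000000000000000000000000000000000000000000000000000000000000000000000000000000000000000000000000000000000000005c00000000000000000000000000000000000000000000000000000000000000000000000000000000000000000000000000000000000000000000000000000000000000000000000000000000000000000000000000000000000000000000000000000000000000000000000000000000000000000000000000000000000000000000000000000000000000000000000000000000005400000000000000000000000000000000000000000000000000000000000000000000000000000000000000000000000000000000000000000000000000000000000000000000000000000000000000000000000000000000000120000000000000000000000000000000000000000000000c000000000000000000000000000000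0000000000000000000000000000000000000000000000000000000000000000000000000000000000000000000000000000000000000000000000000000000000000000000000000000000000000000000000000000000000000080000000000000000000000000000000000000001a00000000000000000000000000000000000000000000000000000000000000000000000000000000000000000000000000000000000000002c0000000000000000000000000000000000000000000000002000000000000000000000000000000000000000014000000000000000000000000000000000000000000000000000000000000380000000000000000000000000000000000000000000000000000000000000000000000000000000000000000000000000000000000000000c00000000000000000000000000000000000780000000000000000000000000000000000000000000000000000000000000000000000000000000000000000000000000000000000000000000000000000000000000000000000000000000000000000000000000000000000000000000000000000000000000000000000000000000000000000000000000000000000000000000000000000000000000000000000000000000000000000000000360000000000000000000000000000000000000000000000000000000000000000000000000000000000000000000000000000000000000000000000000000000000000000000000000000000000000000000000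
noncomputable def L7tl0Q (u : ℕ) : ℕ := Nat.land (Nat.shiftRight L7tl0Qd (Nat.mul u (nat_lit 5))) (nat_lit 31)
noncomputable def L7tl0 : Lev := ⟨28, 20, L7tl0D, L7tl0P, L7tl0Q⟩
noncomputable def L7tl1Dd : ℕ := nat_lit 0x58ee71b9346a12cd77b81a2c2589d908633a158883a1b8a072380c06c1c00
noncomputable def L7tl1D (u : ℕ) : ℕ := Nat.land (Nat.shiftRight L7tl1Dd (Nat.mul u (nat_lit 9))) (nat_lit 511)
noncomputable def L7tl1Pd : ℕ := nat_lit 0x3977938578cc84177472c80f8058c40856315cc7c42288682ed44e2cc5ff53e1f727117f19c2493bd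
noncomputable def L7tl1P (u : ℕ) : ℕ := Nat.land (Nat.shiftRight L7tl1Pd (Nat.mul u (nat_lit 12))) (nat_lit 4095)
noncomputable def L7tl1Qd : ℕ := nat_lit 0x170000000011000000000000000000000000000000000000000000000000000000000000000000000000000000000000000000000000000000000000000000b00000000000000000000c000000000000000000000000002c00000000000000000000000000000000000000000000000000000000000009800000000002400000000000000000000000000000000000000000000000000000000000000000000000000000000d000000000000000000000000000000000000000000000000000000000000c80000000000000000000000000000000000001500000000000000000000000000000000000000000000000000000000000000000000000000000000000000001400000000000000000000000000000000000000000000000000000000000000000000000000000000000000000000000000000000000000000000000000000000000000000000000000000000000000000000000000000000000000000000000000000000000000000000000000000000000000000000000000000000000000000000000000000000000000000000000000000000000000000000000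01e00000000000000000000000000000000000000000000000000000000000003800000000000000000000000000000000000000000000000000000000000000e000000000000000000000000000000000000000000000000000000000000000000000000000000000000000000000000000000000000000000000000000000000000000000000000000000000000000000000000000000001800000000000000000000000000000000000000000000000000000000000000000000000000000000000000000000000000000000000000000000000000000000000000000000000000000000000000000000000000000000000000000000000000000000000000000000000000000000000000000000000000000000000000000000000000000000000000000000000000000000002400000000000000000000000000000000000000000000000000000000000000000000000000000000000000000000000000000000000000000000000000000000000000000000000000000000000000000000000000000000000000000000000000000000000000000000000000000000000d000000000000000000000000000000000000000000000000000000000000000000000000000000000000000000000000000000000000000000000000000000000000000000000000000000000000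00000000000000000000000000000000000000000000000000000001400000000000000000000000000000000000000008000000000000000000000000000000000000000000000000000000000000000000000000000000000000000000000000000000000000000008000000000000000000000000000000000000000000000000020000000000000000000000000000000000000000c000000000000000000000000000000000000000000000000000000000000280000000000000000000000000000000000000000000000000000000000000000000000000000000000000000000000000000000000000000200000000000000000000000000000000000180000000000000000000000000000000000000000000000000000000000000000000000000000000000000000000000000000000000000000000000000000000000000000000000000000000000000000000000000000000000000000000000000000000000000000000000000000000000000000000000000000000000000000000000000000000000000000000000000000000000000000000000200000000000000000000000000000000000000000000000000000000000000000000000000000000000000000000000000000000000000000000000000000000000000000000000000000000000000000000000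
noncomputable def L7tl1Q (u : ℕ) : ℕ := Nat.land (Nat.shiftRight L7tl1Qd (Nat.mul u (nat_lit 5))) (nat_lit 31)
noncomputable def L7tl1 : Lev := ⟨27, 15, L7tl1D, L7tl1P, L7tl1Q⟩
noncomputable def L7tl2Dd : ℕ := nat_lit 0x283486c929b4e34600
noncomputable def L7tl2D (u : ℕ) : ℕ := Nat.land (Nat.shiftRight L7tl2Dd (Nat.mul u (nat_lit 7))) (nat_lit 127)
noncomputable def L7tl2Pd : ℕ := nat_lit 0x858cc8c439777480f793857841805
noncomputable def L7tl2P (u : ℕ) : ℕ := Nat.land (Nat.shiftRight L7tl2Pd (Nat.mul u (nat_lit 12))) (nat_lit 4095)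
noncomputable def L7tl2Qd : ℕ := nat_lit 0x80000000700000000000000000000000000000000000000000000000000000000000000000000000000000000000000000000000000000000000020000000000000000000001000000000000000000000000000000000000000000000000040000000000000000000000000000000000000000000000000000000000000000000000000000000000000000000000000000000000000000000000000003000000000000000000000000000000500000000000000000000000000000000000000000000000000000000000000000000000000000000000000000000000000000000000000000000000000000000000000000000000000000000000000000000000000000000000000000000000000000000000000000000000000000000000000000000000000000000000000000000000000000000000000000000000000000000000000000000000000000000000000000000000000000000000000000000000000000000000000000000000000000000000000000000000000000000000000000000000000000000000000000000000000000000000000000000000000000000000000000000000000000000000000000000000000000000000000000000000000000000000000000000000000000000000000000000000000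0000000000000000000000000000000000000000000000000000000000000000000000000000000000000000000000000000000000000000000000000000000000000000000000000000000000000000000000000000000000000000000000000000000000000000000000000000000000000000000000000000000000000000000000000000000000000000000000000000000000000000000000000000000000000000000000000000000000000000000000000000000000000000000000000060000000000000000000000000000000000000000000000000000000000000000000000000000000000000000000000000000000000000000000000000000000000000000000000000000000000000000000000000000000000000000000000000000000000000000000000000000000000000000000000000000000000000000000000000000000000000000000000000000000000000000000000000000000000000000000000000000000000000000000000000000000000000000000000000000000000000000000000000000000000000000000000000000000000000000000000000000000000000000000000000000000000000000000000000000000000000000000000000000000000000000000000000000000000000000000000000000000000000000000000000000000000000000000000000000000000000000000000000000000000000000000000000000000000000000000000000000000000000000000000000000000000000000000000000000000000000000000000000000000000000000090000000000000000000000000000000000000000000000000000000000000000000000000000000000000000000000000000000000000000000000000000000000000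
noncomputable def L7tl2Q (u : ℕ) : ℕ := Nat.land (Nat.shiftRight L7tl2Qd (Nat.mul u (nat_lit 4))) (nat_lit 15)
noncomputable def L7tl2 : Lev := ⟨10, 14, L7tl2D, L7tl2P, L7tl2Q⟩
noncomputable def L7tl3Dd : ℕ := nat_lit 0xba1bd65542c0
noncomputable def L7tl3D (u : ℕ) : ℕ := Nat.land (Nat.shiftRight L7tl3Dd (Nat.mul u (nat_lit 6))) (nat_lit 63)
noncomputable def L7tl3Pd : ℕ := nat_lit 0xe588a31899cf894f9769f7
noncomputable def L7tl3P (u : ℕ) : ℕ := Nat.land (Nat.shiftRight L7tl3Pd (Nat.mul u (nat_lit 11))) (nat_lit 2047)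
noncomputable def L7tl3Qd : ℕ := nat_lit 0x30000000000000000000000000000000000000000000000000000000000000000000000000000000000000000000000000000000000000000070000000000000000000000000000000000000000000000000000000000000000000000000000000000000000000000000000000000000000000000000000000000000000000000000000000000000000000000000000000000000000000280000000000000000000000000000000000000000000000000000000000000000000000000000000000000000000000000000000000000000000000000000000000000000000000000000000000000000000000000000000000000800000000000000000000000000000000000000000000000000000000000000000000000000000000000000000000000000000000000000000000000000000000000000000000000000000000000000000000000000000000000000000000000000000000000000000000000000000000000000000000000000000000000000000000000000000000000000000000000000000000000000000000000000000000000000000000000000000000000000000000000000000000000000000000000000000000000000000000000000000000000000000000000000000000000080000000000000000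00000000000000000000000000000000000000000000000000000000000000000000000000000000000000000000000000000000000000000000000000000000006000000000000000000000000000000000000000000000000000000000000000000000000000000000000000000000000000000004000000000000000000000000000000000000000000000000000000000000000000000000000000000000000000000000000000000000000000000000000000000000000000000000000000000000000000000000000000000000000000000000000000000000000000000000000000000000000000000000000000000000000000000000000000000000000000000000000000000000000000000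
noncomputable def L7tl3Q (u : ℕ) : ℕ := Nat.land (Nat.shiftRight L7tl3Qd (Nat.mul u (nat_lit 3))) (nat_lit 7)
noncomputable def L7tl3 : Lev := ⟨8, 12, L7tl3D, L7tl3P, L7tl3Q⟩
noncomputable def L7tl4Dd : ℕ := nat_lit 0xd9f513280
noncomputable def L7tl4D (u : ℕ) : ℕ := Nat.land (Nat.shiftRight L7tl4Dd (Nat.mul u (nat_lit 6))) (nat_lit 63)
noncomputable def L7tl4Pd : ℕ := nat_lit 0xce2eda7df111472c
noncomputable def L7tl4P (u : ℕ) : ℕ := Nat.land (Nat.shiftRight L7tl4Pd (Nat.mul u (nat_lit 11))) (nat_lit 2047)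
noncomputable def L7tl4Qd : ℕ := nat_lit 0x20000000000000000000000000000000000000000000000000000000000000000000000000000000000000000000000000000000000000000000000000000000000000000000000000000000000000000000000000000000000000000000000000000000000000000000000000000000000000000000000000000000000000000000000000000000000000000000000000000000000000000000000000000000000000000000000000000000000000000000000000000000000000000000000000000000000000000000000000000000000000000000000000000000000000000000000000000000000000000000000000000c00000000000000000000000000000000000000000000000000000000000000000000000000000000000000000000000000000000000000000000000000000000000000000000000000000000000000000000000000000000000000000000000000000000000000000000000000000000000000000000000000000000000000000000000000000000000000000000000000000000000000000000000000000000000000000000000000000000000000000000000000000000000000000000000000000000000000000000000000000000000000000000000000000000000200000000000000000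00000000000000000000000000000000000000000000000000000000000000000000000000000000000000000000000000000000000000000000000000000000001000000000000000000000000000000000000000000000000000000000000000000000000000000000000000000000000000000005000000000000000000000000000000000000000000000000000000000000000000000000000000000000000000000000000000000000000000000000000000000000000000000000000000000000000000000000000000000000000000000000000000000000000000000000000000000000000000000000000000000000000000000000000000000000000000000000000000000000000000000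
noncomputable def L7tl4Q (u : ℕ) : ℕ := Nat.land (Nat.shiftRight L7tl4Qd (Nat.mul u (nat_lit 3))) (nat_lit 7)
noncomputable def L7tl4 : Lev := ⟨6, 11, L7tl4D, L7tl4P, L7tl4Q⟩
noncomputable def L7tl5Dd : ℕ := nat_lit 0x90
noncomputable def L7tl5D (u : ℕ) : ℕ := Nat.land (Nat.shiftRight L7tl5Dd (Nat.mul u (nat_lit 4))) (nat_lit 15)
noncomputable def L7tl5Pd : ℕ := nat_lit 0x9257f
noncomputable def L7tl5P (u : ℕ) : ℕ := Nat.land (Nat.shiftRight L7tl5Pd (Nat.mul u (nat_lit 10))) (nat_lit 1023)
noncomputable def L7tl5Qd : ℕ := nat_lit 0x200000000000000000000000000000000000000000000000000000000000000000000000000000000000000000000000000000000000000000000000000000000000000000000000000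
noncomputable def L7tl5Q (u : ℕ) : ℕ := Nat.land (Nat.shiftRight L7tl5Qd (Nat.mul u (nat_lit 1))) (nat_lit 1)
noncomputable def L7tl5 : Lev := ⟨2, 10, L7tl5D, L7tl5P, L7tl5Q⟩
noncomputable def L7tl6Dd : ℕ := nat_lit 0x80
noncomputable def L7tl6D (u : ℕ) : ℕ := Nat.land (Nat.shiftRight L7tl6Dd (Nat.mul u (nat_lit 4))) (nat_lit 15)
noncomputable def L7tl6Pd : ℕ := nat_lit 0x227271
noncomputable def L7tl6P (u : ℕ) : ℕ := Nat.land (Nat.shiftRight L7tl6Pd (Nat.mul u (nat_lit 11))) (nat_lit 2047)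
noncomputable def L7tl6Qd : ℕ := nat_lit 0x400000000000000000000000000000000000000000000000000000000000000000000000000000000000000000000000000000000000000000000000000000000000000000000000000000000000000000000000000000000000000000000000000000000000000000000000000000000000000000000000000000000000000000000000000000000000
noncomputable def L7tl6Q (u : ℕ) : ℕ := Nat.land (Nat.shiftRight L7tl6Qd (Nat.mul u (nat_lit 1))) (nat_lit 1)
noncomputable def L7tl6 : Lev := ⟨2, 9, L7tl6D, L7tl6P, L7tl6Q⟩
noncomputable def L7tl7Dd : ℕ := nat_lit 0x98b69687775866653028563f37452f2e230b18101f25170f160e0d0706050400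
noncomputable def L7tl7D (u : ℕ) : ℕ := Nat.land (Nat.shiftRight L7tl7Dd (Nat.mul u (nat_lit 8))) (nat_lit 255)
noncomputable def L7tl7Pd : ℕ := nat_lit 0x8744073d17605172ec2d44806831054d32e60662f25b717d30102f29379d5317833d313c4ab01b4a35c15f934e740011
noncomputable def L7tl7P (u : ℕ) : ℕ := Nat.land (Nat.shiftRight L7tl7Pd (Nat.mul u (nat_lit 12))) (nat_lit 4095)
noncomputable def L7tl7Qd : ℕ := nat_lit 0x1f00000000000000000000000000000000000000000000000000000000000000000000000000000000000000000000000000000000000000000000000000000000000000000000000000000000000000000000000000000000000000000000000000000000000000000000000000000000000000000000000000000000000000000000000000018000000000000000000000000000000050000000000000000000000000000000000000000001c000000000000000000000000000000000000000100000000000000000000000000000000000000000000000000000000000000000000000000000000000000000000000000000000000000000000000000000000000000000000000000000000000000000000000000000000000000000000000000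00000000000000000000000000000000000000000b8000000000000000000000000000000000000000000000000000000000000000000000000000000000000000000000000000000000000000000000000000000000000000000000000000000000000000000000000000600000000000000000000000000000000000000000000000000000000000000000000080000000000088000000000000000000000000000000000000000000000000000000000000000000000000000000000000000000000000000000000000000000000000000000000000000000000000000000000000000000000160000000000000000000000000000000d800000000000000000000000000000000000000000000000000000000000000000000000000000000000a80000000000000000000000000000000000000000000000003800000000280000000000000000000000000000000000000000018000000000000000000000000000000000000000000000000000000000000000000000000000000000000000000000000000000000000000000000000000000000000000000000000000000f0000000000000000000000000000000000000000000000000000000000000000483a00000000000000000000000000000000000000000000000000000000000000000000000000000000000000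00000000000000000000000000000000000000000000000000000000000000000000000000000800000000000000000000000000000000000000000000000000000000000000000000000000000000000000000000001e0000000000000000048000001a00000050000000000000000000001900000000000000000000000000000000000000000000000000000000000000000000000000000000680000000000000000000000000000000000000000000000000000000000000000000000000000000000000000000000000000000000000000000000000000000000000000000000000000000000000000000000000000000000000000000000000000000000000000000000000000000000000000000000000000000000000000000000000000000000000000000000000000000000000000000000000000000000000000000000000000000002000000000000000000000000000000000000000000000000000000000000000000000000000000000800000000000000000000000000000000000000000000000000000000000000000002c000000000000000000000000000000000000000000000000000000000000000000000000000000000000000000000000000000000000000000000000000000000000000000000000000000000000000000000000000000000000000000000000000004c0000000000000000000000000000000000000000000000000000000000000000000700000000000000000000000030000000000000000000000000000000000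
noncomputable def L7tl7Q (u : ℕ) : ℕ := Nat.land (Nat.shiftRight L7tl7Qd (Nat.mul u (nat_lit 5))) (nat_lit 31)
noncomputable def L7tl7 : Lev := ⟨32, 8, L7tl7D, L7tl7P, L7tl7Q⟩
noncomputable def L7tl8Dd : ℕ := nat_lit 0xc
noncomputable def L7tl8D (u : ℕ) : ℕ := Nat.land (Nat.shiftRight L7tl8Dd (Nat.mul u (nat_lit 2))) (nat_lit 3)
noncomputable def L7tl8Pd : ℕ := nat_lit 0x16a4ab
noncomputable def L7tl8P (u : ℕ) : ℕ := Nat.land (Nat.shiftRight L7tl8Pd (Nat.mul u (nat_lit 11))) (nat_lit 2047)
noncomputable def L7tl8Qd : ℕ := nat_lit 0x10000000000000000000000000000000000000000000000000000000000000000000000000000000000000000000000000000000000000000000000000000000000000000000000000000000000000000000000000000000000000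
noncomputable def L7tl8Q (u : ℕ) : ℕ := Nat.land (Nat.shiftRight L7tl8Qd (Nat.mul u (nat_lit 1))) (nat_lit 1)
noncomputable def L7tl8 : Lev := ⟨2, 4, L7tl8D, L7tl8P, L7tl8Q⟩
noncomputable def L7tl9Dd : ℕ := nat_lit 8
noncomputable def L7tl9D (u : ℕ) : ℕ := Nat.land (Nat.shiftRight L7tl9Dd (Nat.mul u (nat_lit 2))) (nat_lit 3)
noncomputable def L7tl9Pd : ℕ := nat_lit 0x1e8f60
noncomputable def L7tl9P (u : ℕ) : ℕ := Nat.land (Nat.shiftRight L7tl9Pd (Nat.mul u (nat_lit 11))) (nat_lit 2047)
noncomputable def L7tl9Qd : ℕ := nat_lit 0x20000000000000000000000000000000000000000000000000000000000000000000000000000000000000000000000000000000000000000000000000000000000000000000000000000000000000000000000000000000000000000000000000000000000000000000000000000000000000000000000000000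
noncomputable def L7tl9Q (u : ℕ) : ℕ := Nat.land (Nat.shiftRight L7tl9Qd (Nat.mul u (nat_lit 1))) (nat_lit 1)
noncomputable def L7tl9 : Lev := ⟨2, 3, L7tl9D, L7tl9P, L7tl9Q⟩
noncomputable def L7tl10Dd : ℕ := nat_lit 2
noncomputable def L7tl10D (u : ℕ) : ℕ := Nat.land (Nat.shiftRight L7tl10Dd (Nat.mul u (nat_lit 1))) (nat_lit 1)
noncomputable def L7tl10Pd : ℕ := nat_lit 0x2e0b01
noncomputable def L7tl10P (u : ℕ) : ℕ := Nat.land (Nat.shiftRight L7tl10Pd (Nat.mul u (nat_lit 11))) (nat_lit 2047)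
noncomputable def L7tl10Qd : ℕ := nat_lit 0x200000000000000000000000000000000000000000000000000000000000000000000000000000000000000000000000000000000000000000000000000000000000000000000000000000000000000000000000000000000000000000000000000000000000000000000000000000000000000000000000000000000000000000000000000000000000000000000000000000000000000000000000000000000000000000000000000000000000000000000000000000000
noncomputable def L7tl10Q (u : ℕ) : ℕ := Nat.land (Nat.shiftRight L7tl10Qd (Nat.mul u (nat_lit 1))) (nat_lit 1)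
noncomputable def L7tl10 : Lev := ⟨2, 2, L7tl10D, L7tl10P, L7tl10Q⟩
noncomputable def L7tl11Dd : ℕ := nat_lit 0
noncomputable def L7tl11D (u : ℕ) : ℕ := Nat.land (Nat.shiftRight L7tl11Dd (Nat.mul u (nat_lit 1))) (nat_lit 1)
noncomputable def L7tl11Pd : ℕ := nat_lit 0x293800
noncomputable def L7tl11P (u : ℕ) : ℕ := Nat.land (Nat.shiftRight L7tl11Pd (Nat.mul u (nat_lit 11))) (nat_lit 2047)
noncomputable def L7tl11Qd : ℕ := nat_lit 0x800000000000000000000000000000000000000000000000000000000000000000000000000000000000000000000000000000000000000000000000000000000000000000000000000000000000000000000000000000000000000000000000000000000000000000000000000000000000000000000000000000000000000000000000000000000000000000000000000000000000000000000000000000000000000000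
noncomputable def L7tl11Q (u : ℕ) : ℕ := Nat.land (Nat.shiftRight L7tl11Qd (Nat.mul u (nat_lit 1))) (nat_lit 1)
noncomputable def L7tl11 : Lev := ⟨2, 1, L7tl11D, L7tl11P, L7tl11Q⟩
noncomputable def L7ce_W : List (List ℕ) := [[nat_lit 4, nat_lit 3, nat_lit 5, nat_lit 1, nat_lit 6, nat_lit 3, nat_lit 1, nat_lit 3, nat_lit 5, nat_lit 6, nat_lit 3, nat_lit 4],
  [nat_lit 0, nat_lit 3, nat_lit 6, nat_lit 3, nat_lit 6, nat_lit 3, nat_lit 6, nat_lit 3, nat_lit 6],
  [nat_lit 3, nat_lit 6, nat_lit 3, nat_lit 5, nat_lit 3, nat_lit 6, nat_lit 3],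
  [nat_lit 2, nat_lit 4, nat_lit 2, nat_lit 5, nat_lit 1, nat_lit 5, nat_lit 1, nat_lit 2, nat_lit 4, nat_lit 2, nat_lit 5],
  [nat_lit 3, nat_lit 1, nat_lit 5, nat_lit 1, nat_lit 6, nat_lit 3, nat_lit 4, nat_lit 3, nat_lit 6, nat_lit 3, nat_lit 6, nat_lit 5, nat_lit 0, nat_lit 5],
  [nat_lit 2, nat_lit 1, nat_lit 4, nat_lit 2, nat_lit 0, nat_lit 5, nat_lit 0, nat_lit 5, nat_lit 6, nat_lit 2, nat_lit 4, nat_lit 1, nat_lit 2]]
noncomputable def L7ce_P : ℕ → ℕ → ℕ := wdsP H15.XCo2C.P L7ce_W
noncomputable def L7cc11Dd : ℕ := nat_lit 0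
noncomputable def L7cc11D (u : ℕ) : ℕ := Nat.land (Nat.shiftRight L7cc11Dd (Nat.mul u (nat_lit 1))) (nat_lit 1)
noncomputable def L7cc11Pd : ℕ := nat_lit 0x293800
noncomputable def L7cc11P (u : ℕ) : ℕ := Nat.land (Nat.shiftRight L7cc11Pd (Nat.mul u (nat_lit 11))) (nat_lit 2047)
noncomputable def L7cc11Qd : ℕ := nat_lit 0x800000000000000000000000000000000000000000000000000000000000000000000000000000000000000000000000000000000000000000000000000000000000000000000000000000000000000000000000000000000000000000000000000000000000000000000000000000000000000000000000000000000000000000000000000000000000000000000000000000000000000000000000000000000000000000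
noncomputable def L7cc11Q (u : ℕ) : ℕ := Nat.land (Nat.shiftRight L7cc11Qd (Nat.mul u (nat_lit 1))) (nat_lit 1)
noncomputable def L7cc11 : Lev := ⟨2, 1, L7cc11D, L7cc11P, L7cc11Q⟩
noncomputable def L7tn0Fd : ℕ := nat_lit 0
noncomputable def L7tn0F (u : ℕ) : ℕ := Nat.land (Nat.shiftRight L7tn0Fd (Nat.mul u (nat_lit 1))) (nat_lit 1)
noncomputable def L7tn0 : Nd := ⟨L7tn0F, (nat_lit 2), (nat_lit 1), [], [((nat_lit 0), [])], []⟩
noncomputable def L7cc7Dd : ℕ := nat_lit 2
noncomputable def L7cc7D (u : ℕ) : ℕ := Nat.land (Nat.shiftRight L7cc7Dd (Nat.mul u (nat_lit 1))) (nat_lit 1)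
noncomputable def L7cc7Pd : ℕ := nat_lit 0x240011
noncomputable def L7cc7P (u : ℕ) : ℕ := Nat.land (Nat.shiftRight L7cc7Pd (Nat.mul u (nat_lit 11))) (nat_lit 2047)
noncomputable def L7cc7Qd : ℕ := nat_lit 0x1000000000000000000000000000000000000000000000000000000000000000000000000000000000000000000000000000000000000000000000000000000000000000000000000000000000000000000000000000000000000000000000000000000000000000000000000000000000000000000000000000000000000000000000000000000000000000000000000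
noncomputable def L7cc7Q (u : ℕ) : ℕ := Nat.land (Nat.shiftRight L7cc7Qd (Nat.mul u (nat_lit 1))) (nat_lit 1)
noncomputable def L7cc7 : Lev := ⟨2, 2, L7cc7D, L7cc7P, L7cc7Q⟩
noncomputable def L7tn1Fd : ℕ := nat_lit 0x7ddc5d75f5755554
noncomputable def L7tn1F (u : ℕ) : ℕ := Nat.land (Nat.shiftRight L7tn1Fd (Nat.mul u (nat_lit 2))) (nat_lit 3)
noncomputable def L7tn1 : Nd := ⟨L7tn1F, (nat_lit 2), (nat_lit 2), [[nat_lit 0],
  [nat_lit 1, nat_lit 1]], [((nat_lit 0), []), ((nat_lit 0), [nat_lit 0]), ((nat_lit 0), [nat_lit 1])], []⟩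
noncomputable def L7cc6Dd : ℕ := nat_lit 8
noncomputable def L7cc6D (u : ℕ) : ℕ := Nat.land (Nat.shiftRight L7cc6Dd (Nat.mul u (nat_lit 2))) (nat_lit 3)
noncomputable def L7cc6Pd : ℕ := nat_lit 0x227271
noncomputable def L7cc6P (u : ℕ) : ℕ := Nat.land (Nat.shiftRight L7cc6Pd (Nat.mul u (nat_lit 11))) (nat_lit 2047)
noncomputable def L7cc6Qd : ℕ := nat_lit 0x400000000000000000000000000000000000000000000000000000000000000000000000000000000000000000000000000000000000000000000000000000000000000000000000000000000000000000000000000000000000000000000000000000000000000000000000000000000000000000000000000000000000000000000000000000000000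
noncomputable def L7cc6Q (u : ℕ) : ℕ := Nat.land (Nat.shiftRight L7cc6Qd (Nat.mul u (nat_lit 1))) (nat_lit 1)
noncomputable def L7cc6 : Lev := ⟨2, 3, L7cc6D, L7cc6P, L7cc6Q⟩
noncomputable def L7tn2Fd : ℕ := nat_lit 0
noncomputable def L7tn2F (u : ℕ) : ℕ := Nat.land (Nat.shiftRight L7tn2Fd (Nat.mul u (nat_lit 1))) (nat_lit 1)
noncomputable def L7tn2 : Nd := ⟨L7tn2F, (nat_lit 3), (nat_lit 3), [], [((nat_lit 0), [])], []⟩
noncomputable def L7cc5Dd : ℕ := nat_lit 0xc
noncomputable def L7cc5D (u : ℕ) : ℕ := Nat.land (Nat.shiftRight L7cc5Dd (Nat.mul u (nat_lit 2))) (nat_lit 3)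
noncomputable def L7cc5Pd : ℕ := nat_lit 0x9257f
noncomputable def L7cc5P (u : ℕ) : ℕ := Nat.land (Nat.shiftRight L7cc5Pd (Nat.mul u (nat_lit 10))) (nat_lit 1023)
noncomputable def L7cc5Qd : ℕ := nat_lit 0x200000000000000000000000000000000000000000000000000000000000000000000000000000000000000000000000000000000000000000000000000000000000000000000000000
noncomputable def L7cc5Q (u : ℕ) : ℕ := Nat.land (Nat.shiftRight L7cc5Qd (Nat.mul u (nat_lit 1))) (nat_lit 1)
noncomputable def L7cc5 : Lev := ⟨2, 4, L7cc5D, L7cc5P, L7cc5Q⟩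
noncomputable def L7tn3Fd : ℕ := nat_lit 0
noncomputable def L7tn3F (u : ℕ) : ℕ := Nat.land (Nat.shiftRight L7tn3Fd (Nat.mul u (nat_lit 1))) (nat_lit 1)
noncomputable def L7tn3 : Nd := ⟨L7tn3F, (nat_lit 4), (nat_lit 4), [], [((nat_lit 0), [])], []⟩
noncomputable def L7cc0Dd : ℕ := nat_lit 0x89c590284140
noncomputable def L7cc0D (u : ℕ) : ℕ := Nat.land (Nat.shiftRight L7cc0Dd (Nat.mul u (nat_lit 6))) (nat_lit 63)
noncomputable def L7cc0Pd : ℕ := nat_lit 0x3bd8416311f772c19c8050f4
noncomputable def L7cc0P (u : ℕ) : ℕ := Nat.land (Nat.shiftRight L7cc0Pd (Nat.mul u (nat_lit 12))) (nat_lit 4095)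
noncomputable def L7cc0Qd : ℕ := nat_lit 0x30000000000000000000000000000000000000000000008000000000000000000000000000000000000000000000000000000000000000000000000000000000000000000000000000000000000000000000000000000000000000000000000000000000000000003000000000000000000000000000000000000000000000000000000000000000000000000000000000000000000000000000000000000000000000000000000000000000000000000000000000000000000000000000000000000000000028000000000000000000000000000000000000000000000000000000000000000000000000000000000000000000000000000000000000000000000000000000000000000000000000000000000000000000000000000000000000000000000000000000000000000000000000000000000000000000000000000000000000000000000000000000000000000000000000000000000000000000000000000000000000000000000000000000000000000000000000000000000000000000000000000000000000000000000000000000000000000000000000000000000000000000000000000000000000038000000000000000000000000000000000000000000000000000000000000000000000000000000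000000000000000000000000000000000000000000000000000000000000000000000000000000000000000000000000000000000000000000000000000000000000000000000000000000000000000000000000000000000000000000000000000000000000000000000000000000000000000000000000000000000000000000000800000000000000000000000000000000000000000000000000000000000000000002000000000000000000000000000000000000000000000000000000000000000000000000000000000000000000000000000000000000000000000000000000000000000000000000000000000000000000000000000000000000000000000000000000000000000000000000000000000000000000000000000000000000000000000000000000000000000000000000000000000000000000000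
noncomputable def L7cc0Q (u : ℕ) : ℕ := Nat.land (Nat.shiftRight L7cc0Qd (Nat.mul u (nat_lit 3))) (nat_lit 7)
noncomputable def L7cc0 : Lev := ⟨8, 6, L7cc0D, L7cc0P, L7cc0Q⟩
noncomputable def L7tn4Fd : ℕ := nat_lit 0xdf5ad7e
noncomputable def L7tn4F (u : ℕ) : ℕ := Nat.land (Nat.shiftRight L7tn4Fd (Nat.mul u (nat_lit 1))) (nat_lit 1)
noncomputable def L7tn4 : Nd := ⟨L7tn4F, (nat_lit 6), (nat_lit 6), [[nat_lit 0],
  [nat_lit 1]], [((nat_lit 0), [])], []⟩
noncomputable def L7Y_W : List (List ℕ) := [[nat_lit 0],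
  [nat_lit 1],
  [nat_lit 5],
  [nat_lit 7],
  [nat_lit 2],
  [nat_lit 12]]
noncomputable def L7Y_P : ℕ → ℕ → ℕ := wdsP J_P L7Y_W
noncomputable def L7 : List (List ℕ) := [[],
  [nat_lit 0],
  [nat_lit 1],
  [nat_lit 5],
  [nat_lit 7],
  [nat_lit 2],
  [nat_lit 12],
  [nat_lit 1, nat_lit 0],
  [nat_lit 5, nat_lit 0],
  [nat_lit 7, nat_lit 0],
  [nat_lit 2, nat_lit 0],
  [nat_lit 12, nat_lit 0],
  [nat_lit 5, nat_lit 1],
  [nat_lit 7, nat_lit 1],
  [nat_lit 2, nat_lit 1],
  [nat_lit 12, nat_lit 1],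
  [nat_lit 5, nat_lit 5],
  [nat_lit 7, nat_lit 5],
  [nat_lit 2, nat_lit 5],
  [nat_lit 12, nat_lit 5],
  [nat_lit 2, nat_lit 7],
  [nat_lit 12, nat_lit 7],
  [nat_lit 12, nat_lit 2],
  [nat_lit 5, nat_lit 1, nat_lit 0],
  [nat_lit 7, nat_lit 1, nat_lit 0],
  [nat_lit 2, nat_lit 1, nat_lit 0],
  [nat_lit 12, nat_lit 1, nat_lit 0],
  [nat_lit 5, nat_lit 5, nat_lit 0],
  [nat_lit 7, nat_lit 5, nat_lit 0],
  [nat_lit 2, nat_lit 5, nat_lit 0],
  [nat_lit 12, nat_lit 5, nat_lit 0],
  [nat_lit 2, nat_lit 7, nat_lit 0],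
  [nat_lit 12, nat_lit 7, nat_lit 0],
  [nat_lit 12, nat_lit 2, nat_lit 0],
  [nat_lit 5, nat_lit 5, nat_lit 1],
  [nat_lit 7, nat_lit 5, nat_lit 1],
  [nat_lit 2, nat_lit 5, nat_lit 1],
  [nat_lit 12, nat_lit 5, nat_lit 1],
  [nat_lit 2, nat_lit 7, nat_lit 1],
  [nat_lit 12, nat_lit 7, nat_lit 1],
  [nat_lit 12, nat_lit 2, nat_lit 1],
  [nat_lit 5, nat_lit 5, nat_lit 5],
  [nat_lit 7, nat_lit 5, nat_lit 5],
  [nat_lit 2, nat_lit 5, nat_lit 5],
  [nat_lit 12, nat_lit 5, nat_lit 5],
  [nat_lit 2, nat_lit 7, nat_lit 5],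
  [nat_lit 12, nat_lit 7, nat_lit 5],
  [nat_lit 12, nat_lit 2, nat_lit 5],
  [nat_lit 12, nat_lit 2, nat_lit 7],
  [nat_lit 5, nat_lit 5, nat_lit 1, nat_lit 0],
  [nat_lit 7, nat_lit 5, nat_lit 1, nat_lit 0],
  [nat_lit 2, nat_lit 5, nat_lit 1, nat_lit 0],
  [nat_lit 12, nat_lit 5, nat_lit 1, nat_lit 0],
  [nat_lit 2, nat_lit 7, nat_lit 1, nat_lit 0],
  [nat_lit 12, nat_lit 7, nat_lit 1, nat_lit 0],
  [nat_lit 12, nat_lit 2, nat_lit 1, nat_lit 0],
  [nat_lit 5, nat_lit 5, nat_lit 5, nat_lit 0],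
  [nat_lit 7, nat_lit 5, nat_lit 5, nat_lit 0],
  [nat_lit 2, nat_lit 5, nat_lit 5, nat_lit 0],
  [nat_lit 12, nat_lit 5, nat_lit 5, nat_lit 0],
  [nat_lit 2, nat_lit 7, nat_lit 5, nat_lit 0],
  [nat_lit 12, nat_lit 7, nat_lit 5, nat_lit 0],
  [nat_lit 12, nat_lit 2, nat_lit 5, nat_lit 0],
  [nat_lit 12, nat_lit 2, nat_lit 7, nat_lit 0],
  [nat_lit 5, nat_lit 5, nat_lit 5, nat_lit 1],
  [nat_lit 7, nat_lit 5, nat_lit 5, nat_lit 1],
  [nat_lit 2, nat_lit 5, nat_lit 5, nat_lit 1],
  [nat_lit 12, nat_lit 5, nat_lit 5, nat_lit 1],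
  [nat_lit 2, nat_lit 7, nat_lit 5, nat_lit 1],
  [nat_lit 12, nat_lit 7, nat_lit 5, nat_lit 1],
  [nat_lit 12, nat_lit 2, nat_lit 5, nat_lit 1],
  [nat_lit 12, nat_lit 2, nat_lit 7, nat_lit 1],
  [nat_lit 7, nat_lit 5, nat_lit 5, nat_lit 5],
  [nat_lit 2, nat_lit 5, nat_lit 5, nat_lit 5],
  [nat_lit 12, nat_lit 5, nat_lit 5, nat_lit 5],
  [nat_lit 2, nat_lit 7, nat_lit 5, nat_lit 5],
  [nat_lit 12, nat_lit 7, nat_lit 5, nat_lit 5],
  [nat_lit 12, nat_lit 2, nat_lit 5, nat_lit 5],
  [nat_lit 12, nat_lit 2, nat_lit 7, nat_lit 5],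
  [nat_lit 5, nat_lit 5, nat_lit 5, nat_lit 1, nat_lit 0],
  [nat_lit 7, nat_lit 5, nat_lit 5, nat_lit 1, nat_lit 0],
  [nat_lit 2, nat_lit 5, nat_lit 5, nat_lit 1, nat_lit 0],
  [nat_lit 12, nat_lit 5, nat_lit 5, nat_lit 1, nat_lit 0],
  [nat_lit 2, nat_lit 7, nat_lit 5, nat_lit 1, nat_lit 0],
  [nat_lit 12, nat_lit 7, nat_lit 5, nat_lit 1, nat_lit 0],
  [nat_lit 12, nat_lit 2, nat_lit 5, nat_lit 1, nat_lit 0],
  [nat_lit 12, nat_lit 2, nat_lit 7, nat_lit 1, nat_lit 0],
  [nat_lit 7, nat_lit 5, nat_lit 5, nat_lit 5, nat_lit 0],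
  [nat_lit 2, nat_lit 5, nat_lit 5, nat_lit 5, nat_lit 0],
  [nat_lit 12, nat_lit 5, nat_lit 5, nat_lit 5, nat_lit 0],
  [nat_lit 2, nat_lit 7, nat_lit 5, nat_lit 5, nat_lit 0],
  [nat_lit 12, nat_lit 7, nat_lit 5, nat_lit 5, nat_lit 0],
  [nat_lit 12, nat_lit 2, nat_lit 5, nat_lit 5, nat_lit 0],
  [nat_lit 12, nat_lit 2, nat_lit 7, nat_lit 5, nat_lit 0],
  [nat_lit 7, nat_lit 5, nat_lit 5, nat_lit 5, nat_lit 1],
  [nat_lit 2, nat_lit 5, nat_lit 5, nat_lit 5, nat_lit 1],
  [nat_lit 12, nat_lit 5, nat_lit 5, nat_lit 5, nat_lit 1],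
  [nat_lit 2, nat_lit 7, nat_lit 5, nat_lit 5, nat_lit 1],
  [nat_lit 12, nat_lit 7, nat_lit 5, nat_lit 5, nat_lit 1],
  [nat_lit 12, nat_lit 2, nat_lit 5, nat_lit 5, nat_lit 1],
  [nat_lit 12, nat_lit 2, nat_lit 7, nat_lit 5, nat_lit 1],
  [nat_lit 2, nat_lit 7, nat_lit 5, nat_lit 5, nat_lit 5],
  [nat_lit 12, nat_lit 7, nat_lit 5, nat_lit 5, nat_lit 5],
  [nat_lit 12, nat_lit 2, nat_lit 5, nat_lit 5, nat_lit 5],
  [nat_lit 12, nat_lit 2, nat_lit 7, nat_lit 5, nat_lit 5],
  [nat_lit 7, nat_lit 5, nat_lit 5, nat_lit 5, nat_lit 1, nat_lit 0],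
  [nat_lit 2, nat_lit 5, nat_lit 5, nat_lit 5, nat_lit 1, nat_lit 0],
  [nat_lit 12, nat_lit 5, nat_lit 5, nat_lit 5, nat_lit 1, nat_lit 0],
  [nat_lit 2, nat_lit 7, nat_lit 5, nat_lit 5, nat_lit 1, nat_lit 0],
  [nat_lit 12, nat_lit 7, nat_lit 5, nat_lit 5, nat_lit 1, nat_lit 0],
  [nat_lit 12, nat_lit 2, nat_lit 5, nat_lit 5, nat_lit 1, nat_lit 0],
  [nat_lit 12, nat_lit 2, nat_lit 7, nat_lit 5, nat_lit 1, nat_lit 0],
  [nat_lit 2, nat_lit 7, nat_lit 5, nat_lit 5, nat_lit 5, nat_lit 0],
  [nat_lit 12, nat_lit 7, nat_lit 5, nat_lit 5, nat_lit 5, nat_lit 0],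
  [nat_lit 12, nat_lit 2, nat_lit 5, nat_lit 5, nat_lit 5, nat_lit 0],
  [nat_lit 12, nat_lit 2, nat_lit 7, nat_lit 5, nat_lit 5, nat_lit 0],
  [nat_lit 2, nat_lit 7, nat_lit 5, nat_lit 5, nat_lit 5, nat_lit 1],
  [nat_lit 12, nat_lit 7, nat_lit 5, nat_lit 5, nat_lit 5, nat_lit 1],
  [nat_lit 12, nat_lit 2, nat_lit 5, nat_lit 5, nat_lit 5, nat_lit 1],
  [nat_lit 12, nat_lit 2, nat_lit 7, nat_lit 5, nat_lit 5, nat_lit 1],
  [nat_lit 12, nat_lit 2, nat_lit 7, nat_lit 5, nat_lit 5, nat_lit 5],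
  [nat_lit 2, nat_lit 7, nat_lit 5, nat_lit 5, nat_lit 5, nat_lit 1, nat_lit 0],
  [nat_lit 12, nat_lit 7, nat_lit 5, nat_lit 5, nat_lit 5, nat_lit 1, nat_lit 0],
  [nat_lit 12, nat_lit 2, nat_lit 5, nat_lit 5, nat_lit 5, nat_lit 1, nat_lit 0],
  [nat_lit 12, nat_lit 2, nat_lit 7, nat_lit 5, nat_lit 5, nat_lit 1, nat_lit 0],
  [nat_lit 12, nat_lit 2, nat_lit 7, nat_lit 5, nat_lit 5, nat_lit 5, nat_lit 0],
  [nat_lit 12, nat_lit 2, nat_lit 7, nat_lit 5, nat_lit 5, nat_lit 5, nat_lit 1],
  [nat_lit 12, nat_lit 2, nat_lit 7, nat_lit 5, nat_lit 5, nat_lit 5, nat_lit 1, nat_lit 0]]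
noncomputable def L7Td : List ℕ := [nat_lit 0xfdffc77edd7a7df9efd79d19f365c98f161c17ef73e5c786fddb766bd5a674d992e549911e345890e1418176e5bb566c57ad56a53a54684f60bd72d58ad529509d325488d13f7cf5e3b74e5c376cd5a3364c4b15284c911203c70d188501f3c74e1b3464c170c14203042c509101c001,
  nat_lit 0xfbe3ff3e5c787ed19f365f9efd79bb72ddab362bf7edd7a4e9b325ca93237eedbb35ead2fdf3d78edd3971931e2c382fde60bd72d58ad529ad56a53a54684f4280f9e3a70dc78d1624385060162a509922241bb66ad19b2622c50910a13a64a911a20c142033464c17023c70d1800382,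
  nat_lit 0xad1dfff6ed9ab0fca13a6fa8501ff9efd793464c782c54a77edd7a0f1c379f2e3c058a13bf76dd9af5690fa33e6ca18284c98f161c17ef02bb72ddab362b81ab529d2a3427ce9b325ca93200468b121c28301f3d78edd3970d19b262bd72d58ad5294a911a23c74e1b2e4c9112030403,
  nat_lit 0xf7db96effaf567c7fb05fb9f6cd8abf2951f5e67cdf12a4c6ef0e175e901f7376eb8f070df7b467b7631d2bf42c579b2a951912a4c58515e4374f1db768dd7ac68cd4a65e8169c4c94c96424471e3a2c41905f8b14f5e0872d9a8764c03055cb41aa4e98123407c09c3054a002234484,
  nat_lit 0xf5d78edd7ff4e6c583f5eb767ed7a94be50f73fccc95e244587de0f681d1ebbe6e7938e0d9a6f65b98ecd4b9668559d4e54e97223c68b0df407ae9cb86ed583558c552f4e89527388cd212e48f8e3630c89085bf12f843c74dc3b566198045e0d6ab50093244204f9d32580142438505,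
  nat_lit 0xf3d386cd5a7fe5c37ef7eb562bfda74687c9fefd4b9323c448507bc0edd5e3a73cdc72e2d59b2dec776dd6b55aad0a73e64c911e4458f1603e74e5d3772dd93262b17ab5291424467109b3250e1b1c6468b0c5097e21f3d761dbb6681423006bd72c04a13a5028501e3400b15263c586]
noncomputable def L7T (k u : ℕ) : ℕ := Nat.land (Nat.shiftRight (nth (nat_lit 0) L7Td k) (Nat.mul u (nat_lit 7))) (nat_lit 127)
noncomputable def Zi : List (List ℕ) := [[nat_lit 1],
  [nat_lit 1],
  [nat_lit 1, nat_lit 0],
  [nat_lit 1, nat_lit 0]]
noncomputable def Ti : List (List ℕ) := [[nat_lit 0],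
  [nat_lit 1, nat_lit 0],
  [nat_lit 0],
  [nat_lit 1]]
noncomputable def R0 : List (List ℕ × List ℕ) := [([nat_lit 2, nat_lit 2], []), ([nat_lit 2, nat_lit 3, nat_lit 2, nat_lit 3, nat_lit 2, nat_lit 3, nat_lit 2, nat_lit 3, nat_lit 2, nat_lit 3], [])]
noncomputable def R1 : List (List ℕ × List ℕ) := [([nat_lit 7, nat_lit 7], []), ([nat_lit 0, nat_lit 3, nat_lit 3, nat_lit 7, nat_lit 3, nat_lit 5, nat_lit 7, nat_lit 3, nat_lit 7, nat_lit 4, nat_lit 4, nat_lit 7, nat_lit 4, nat_lit 7], [])]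
noncomputable def R2 : List (List ℕ × List ℕ) := [([nat_lit 0, nat_lit 2, nat_lit 3, nat_lit 7, nat_lit 3, nat_lit 2, nat_lit 7, nat_lit 3, nat_lit 7, nat_lit 3, nat_lit 7, nat_lit 2, nat_lit 3, nat_lit 7, nat_lit 3, nat_lit 7], []), ([nat_lit 1, nat_lit 2, nat_lit 3, nat_lit 7, nat_lit 4, nat_lit 2, nat_lit 7, nat_lit 3, nat_lit 7, nat_lit 4, nat_lit 7, nat_lit 2, nat_lit 3, nat_lit 7, nat_lit 4, nat_lit 7], [])]
noncomputable def X8 (e : List ℕ) : List (List ℕ) := [[0], [1], e, [3], [4], [5], [6], [7]]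
noncomputable def Im (u v i : ℕ) (e : List ℕ) : List (List ℕ) :=
  [nth [] Zi u, nth [] Ti u, e, [3], [4], nth [] V4 v ++ [5], nth [] V4 v ++ [6], nth [] L7 i]
noncomputable def LA : List ℕ := [nat_lit 0, nat_lit 5, nat_lit 21, nat_lit 48]
noncomputable def CH : List (List ℕ × List (Bool × List ℕ × List ℕ)) := [([nat_lit 3, nat_lit 6, nat_lit 2, nat_lit 0, nat_lit 1, nat_lit 3, nat_lit 5, nat_lit 6, nat_lit 3, nat_lit 5, nat_lit 1], [(false, [nat_lit 0, nat_lit 6, nat_lit 2, nat_lit 4, nat_lit 2, nat_lit 6, nat_lit 2, nat_lit 0, nat_lit 5, nat_lit 0, nat_lit 6], [nat_lit 2, nat_lit 5, nat_lit 5, nat_lit 7]), (false, [nat_lit 4, nat_lit 2, nat_lit 4, nat_lit 5, nat_lit 1, nat_lit 5, nat_lit 3, nat_lit 6, nat_lit 2, nat_lit 4, nat_lit 2], [nat_lit 0, nat_lit 7])]), ([nat_lit 0, nat_lit 1, nat_lit 6, nat_lit 2, nat_lit 6, nat_lit 3, nat_lit 4, nat_lit 3, nat_lit 5, nat_lit 1, nat_lit 6, nat_lit 0], [(true, [nat_lit 4, nat_lit 5, nat_lit 1, nat_lit 3, nat_lit 5, nat_lit 1, nat_lit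 5, nat_lit 6, nat_lit 3, nat_lit 4, nat_lit 5, nat_lit 2, nat_lit 1], [nat_lit 2, nat_lit 3, nat_lit 2, nat_lit 4, nat_lit 7, nat_lit 3, nat_lit 2, nat_lit 4, nat_lit 7]), (false, [nat_lit 5, nat_lit 3, nat_lit 2, nat_lit 6, nat_lit 3, nat_lit 1, nat_lit 5, nat_lit 3, nat_lit 4, nat_lit 5, nat_lit 6, nat_lit 3, nat_lit 2], [nat_lit 0, nat_lit 7])]), ([nat_lit 5, nat_lit 1, nat_lit 5, nat_lit 0, nat_lit 2, nat_lit 6, nat_lit 3, nat_lit 4, nat_lit 2, nat_lit 5, nat_lit 6, nat_lit 4, nat_lit 0], [(true, [nat_lit 4, nat_lit 3, nat_lit 5, nat_lit 0, nat_lit 2, nat_lit 5, nat_lit 3, nat_lit 5, nat_lit 0, nat_lit 6, nat_lit 2, nat_lit 1, nat_lit 0], [nat_lit 1, nat_lit 2, nat_lit 7]), (true, [nat_lit 5, nat_lit 3, nat_lit 1, nat_lit 4, nat_lit 5, nat_lit 3, nat_lit 5, nat_lit 6, nat_lit 2, nat_lit 1, nat_lit 2, nat_lit 6, nat_lit 0], [nat_lit 2, nat_lit 5, nat_lit 5, nat_lit 7])]), ([nat_lit 6, nat_lit 2, nat_lit 3, nat_lit 6, nat_lit 3, nat_lit 2, nat_lit 5, nat_lit 0, nat_lit 2, nat_lit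 6, nat_lit 5, nat_lit 4, nat_lit 3], [(false, [nat_lit 3, nat_lit 6, nat_lit 3, nat_lit 2, nat_lit 4, nat_lit 6, nat_lit 2, nat_lit 4, nat_lit 3, nat_lit 5, nat_lit 3, nat_lit 1, nat_lit 3, nat_lit 5], [nat_lit 2, nat_lit 5, nat_lit 5, nat_lit 7]), (false, [nat_lit 5, nat_lit 0, nat_lit 3, nat_lit 6, nat_lit 3, nat_lit 2, nat_lit 5, nat_lit 1, nat_lit 2, nat_lit 4], [nat_lit 0, nat_lit 1, nat_lit 7]), (false, [nat_lit 0, nat_lit 4, nat_lit 2, nat_lit 6, nat_lit 2, nat_lit 1, nat_lit 4, nat_lit 2, nat_lit 6, nat_lit 2, nat_lit 1, nat_lit 5, nat_lit 2, nat_lit 0], [nat_lit 0, nat_lit 2, nat_lit 3, nat_lit 2, nat_lit 4, nat_lit 7, nat_lit 3, nat_lit 2, nat_lit 4, nat_lit 7])]), ([nat_lit 0, nat_lit 2, nat_lit 6, nat_lit 2, nat_lit 4, nat_lit 3, nat_lit 2, nat_lit 5, nat_lit 3, nat_lit 1, nat_lit 6, nat_lit 5, nat_lit 0, nat_lit 2], [(true, [nat_lit 0, nat_lit 6, nat_lit 2, nat_lit 6, nat_lit 3, nat_lit 4, nat_lit 5, nat_lit 0, nat_lit 3, nat_lit 4, nat_lit 6], [nat_lit 1, nat_lit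 2, nat_lit 7]), (true, [nat_lit 2, nat_lit 4, nat_lit 5, nat_lit 3, nat_lit 2, nat_lit 4, nat_lit 5, nat_lit 0, nat_lit 6, nat_lit 3, nat_lit 6, nat_lit 2, nat_lit 6, nat_lit 3], [nat_lit 0, nat_lit 2, nat_lit 3, nat_lit 2, nat_lit 4, nat_lit 7, nat_lit 4, nat_lit 2, nat_lit 3, nat_lit 7])]), ([nat_lit 4, nat_lit 2, nat_lit 4, nat_lit 6, nat_lit 3, nat_lit 6, nat_lit 2, nat_lit 3, nat_lit 6, nat_lit 2, nat_lit 3, nat_lit 5, nat_lit 0], [(true, [nat_lit 2, nat_lit 3, nat_lit 4, nat_lit 5, nat_lit 1, nat_lit 6, nat_lit 2, nat_lit 0, nat_lit 4, nat_lit 6, nat_lit 3, nat_lit 5, nat_lit 4, nat_lit 1], [nat_lit 2, nat_lit 3, nat_lit 2, nat_lit 4, nat_lit 7, nat_lit 3, nat_lit 2, nat_lit 4, nat_lit 7]), (true, [nat_lit 4, nat_lit 3, nat_lit 5, nat_lit 1, nat_lit 5, nat_lit 0, nat_lit 1, nat_lit 3, nat_lit 5, nat_lit 3, nat_lit 6, nat_lit 3, nat_lit 6, nat_lit 3], [nat_lit 2, nat_lit 5, nat_lit 5, nat_lit 7])]), ([nat_lit 3, nat_lit 4, nat_lit 3, nat_lit 4, nat_lit 6, nat_lit 3, nat_lit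 5, nat_lit 1, nat_lit 2, nat_lit 0, nat_lit 4, nat_lit 2, nat_lit 0], [(true, [nat_lit 1, nat_lit 5, nat_lit 0, nat_lit 2, nat_lit 0, nat_lit 1, nat_lit 4, nat_lit 5, nat_lit 1, nat_lit 2, nat_lit 6, nat_lit 4, nat_lit 2, nat_lit 0], [nat_lit 1, nat_lit 2, nat_lit 7]), (true, [nat_lit 2, nat_lit 6, nat_lit 3, nat_lit 2, nat_lit 6, nat_lit 3, nat_lit 4, nat_lit 2, nat_lit 5, nat_lit 0, nat_lit 6, nat_lit 2, nat_lit 1], [nat_lit 0, nat_lit 2, nat_lit 3, nat_lit 2, nat_lit 4, nat_lit 7, nat_lit 4, nat_lit 2, nat_lit 3, nat_lit 7])]), ([nat_lit 2, nat_lit 3, nat_lit 5, nat_lit 3, nat_lit 4, nat_lit 2, nat_lit 1, nat_lit 4, nat_lit 6, nat_lit 3, nat_lit 5, nat_lit 2], [(false, [nat_lit 0, nat_lit 4, nat_lit 2, nat_lit 3, nat_lit 4, nat_lit 6, nat_lit 3, nat_lit 4, nat_lit 2, nat_lit 5, nat_lit 3, nat_lit 6, nat_lit 1], [nat_lit 4, nat_lit 5, nat_lit 5, nat_lit 7, nat_lit 3]), (true, [nat_lit 5, nat_lit 1, nat_lit 2, nat_lit 1, nat_lit 3, nat_lit 4, nat_lit 5, nat_lit 3, nat_lit 6,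 nat_lit 2, nat_lit 1, nat_lit 5], [nat_lit 0, nat_lit 2, nat_lit 3, nat_lit 2, nat_lit 4, nat_lit 7, nat_lit 4, nat_lit 2, nat_lit 3, nat_lit 7])]), ([nat_lit 1, nat_lit 5, nat_lit 6, nat_lit 3, nat_lit 2, nat_lit 5, nat_lit 0, nat_lit 3, nat_lit 1, nat_lit 4], [(true, [nat_lit 0, nat_lit 3, nat_lit 4, nat_lit 2, nat_lit 1, nat_lit 6, nat_lit 3, nat_lit 6, nat_lit 2, nat_lit 1, nat_lit 6, nat_lit 5], [nat_lit 1, nat_lit 2, nat_lit 7]), (true, [], [nat_lit 2, nat_lit 5, nat_lit 5, nat_lit 7]), (false, [nat_lit 0, nat_lit 1, nat_lit 3, nat_lit 2, nat_lit 6, nat_lit 2, nat_lit 1, nat_lit 4, nat_lit 5, nat_lit 3, nat_lit 6, nat_lit 5, nat_lit 3, nat_lit 6], [nat_lit 0, nat_lit 2, nat_lit 3, nat_lit 2, nat_lit 4, nat_lit 7, nat_lit 3, nat_lit 2, nat_lit 4, nat_lit 7])]), ([nat_lit 5, nat_lit 0, nat_lit 6, nat_lit 2, nat_lit 0, nat_lit 2, nat_lit 6, nat_lit 3, nat_lit 1, nat_lit 6, nat_lit 3, nat_lit 5, nat_lit 2], [(false, [nat_lit 0, nat_lit 4, nat_lit 5, nat_lit 6, nat_lit 3, nat_lit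 5, nat_lit 6, nat_lit 3, nat_lit 2, nat_lit 5, nat_lit 6, nat_lit 1, nat_lit 3, nat_lit 4], [nat_lit 4, nat_lit 5, nat_lit 5, nat_lit 7, nat_lit 3]), (true, [nat_lit 4, nat_lit 5, nat_lit 0, nat_lit 1, nat_lit 2, nat_lit 6, nat_lit 3, nat_lit 4, nat_lit 5, nat_lit 6, nat_lit 3, nat_lit 1, nat_lit 0], [nat_lit 0, nat_lit 2, nat_lit 3, nat_lit 2, nat_lit 4, nat_lit 7, nat_lit 4, nat_lit 2, nat_lit 3, nat_lit 7])]), ([nat_lit 3, nat_lit 5, nat_lit 0, nat_lit 5, nat_lit 1, nat_lit 2, nat_lit 4, nat_lit 3, nat_lit 2, nat_lit 5, nat_lit 6, nat_lit 3, nat_lit 2, nat_lit 1], [(true, [nat_lit 2, nat_lit 0, nat_lit 4, nat_lit 3, nat_lit 5, nat_lit 6, nat_lit 3, nat_lit 2, nat_lit 5, nat_lit 3, nat_lit 6, nat_lit 5, nat_lit 3], [nat_lit 2, nat_lit 3, nat_lit 2, nat_lit 4, nat_lit 7, nat_lit 3, nat_lit 2, nat_lit 4, nat_lit 7]), (false, [nat_lit 0, nat_lit 1, nat_lit 5, nat_lit 3, nat_lit 5, nat_lit 1, nat_lit 6, nat_lit 3, nat_lit 4, nat_lit 6, nat_lit 2, nat_lit 0, nat_lit 2], [nat_lit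 0, nat_lit 7])]), ([nat_lit 0, nat_lit 1, nat_lit 2, nat_lit 0, nat_lit 6, nat_lit 2, nat_lit 1, nat_lit 2, nat_lit 5, nat_lit 3, nat_lit 5, nat_lit 0], [(true, [nat_lit 3, nat_lit 2, nat_lit 6, nat_lit 3, nat_lit 5, nat_lit 6, nat_lit 3, nat_lit 4, nat_lit 5, nat_lit 1], [nat_lit 1, nat_lit 2, nat_lit 7]), (true, [nat_lit 2, nat_lit 1, nat_lit 2, nat_lit 6, nat_lit 2, nat_lit 4, nat_lit 3, nat_lit 4, nat_lit 5, nat_lit 6, nat_lit 3], [nat_lit 0, nat_lit 2, nat_lit 3, nat_lit 2, nat_lit 4, nat_lit 7, nat_lit 4, nat_lit 2, nat_lit 3, nat_lit 7])]), ([nat_lit 1, nat_lit 6, nat_lit 2, nat_lit 0, nat_lit 5, nat_lit 6, nat_lit 3, nat_lit 2, nat_lit 6, nat_lit 2, nat_lit 3, nat_lit 6, nat_lit 0], [(true, [nat_lit 2, nat_lit 1, nat_lit 4, nat_lit 6, nat_lit 2, nat_lit 3, nat_lit 6, nat_lit 3, nat_lit 5, nat_lit 0, nat_lit 2, nat_lit 6, nat_lit 1], [nat_lit 1, nat_lit 2, nat_lit 7]), (true, [nat_lit 5, nat_lit 3, nat_lit 4, nat_lit 5, nat_lit 6, nat_lit 3, nat_lit 1, nat_lit 5, nat_lit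 6, nat_lit 2, nat_lit 4, nat_lit 0], [nat_lit 4, nat_lit 5, nat_lit 5, nat_lit 7, nat_lit 3])]), ([nat_lit 2, nat_lit 3, nat_lit 5, nat_lit 3, nat_lit 6, nat_lit 2, nat_lit 0, nat_lit 5, nat_lit 3, nat_lit 4, nat_lit 3, nat_lit 6, nat_lit 5, nat_lit 4], [(false, [nat_lit 1, nat_lit 3, nat_lit 6, nat_lit 3, nat_lit 1, nat_lit 6, nat_lit 3, nat_lit 1, nat_lit 5, nat_lit 1, nat_lit 3, nat_lit 4, nat_lit 1], [nat_lit 4, nat_lit 5, nat_lit 5, nat_lit 7, nat_lit 3]), (false, [nat_lit 3, nat_lit 2, nat_lit 5, nat_lit 1, nat_lit 2, nat_lit 5, nat_lit 1, nat_lit 6, nat_lit 3, nat_lit 4, nat_lit 6, nat_lit 1], [nat_lit 0, nat_lit 7])]), ([nat_lit 0, nat_lit 2, nat_lit 0, nat_lit 1, nat_lit 4, nat_lit 2, nat_lit 4, nat_lit 5, nat_lit 3, nat_lit 6], [(true, [nat_lit 0, nat_lit 1, nat_lit 2, nat_lit 0, nat_lit 6, nat_lit 3, nat_lit 1, nat_lit 3, nat_lit 6], [nat_lit 2, nat_lit 3, nat_lit 2, nat_lit 4, nat_lit 7, nat_lit 3, nat_lit 2, nat_lit 4, nat_lit 7]), (false, [nat_lit 0, nat_lit 4, nat_lit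 5, nat_lit 3, nat_lit 1, nat_lit 5, nat_lit 6, nat_lit 3, nat_lit 5, nat_lit 0, nat_lit 2, nat_lit 4, nat_lit 1], [nat_lit 0, nat_lit 1, nat_lit 7]), (false, [nat_lit 2, nat_lit 4, nat_lit 2, nat_lit 1, nat_lit 5, nat_lit 6, nat_lit 3, nat_lit 4, nat_lit 2, nat_lit 1, nat_lit 6, nat_lit 3], [nat_lit 0, nat_lit 2, nat_lit 3, nat_lit 2, nat_lit 4, nat_lit 7, nat_lit 3, nat_lit 2, nat_lit 4, nat_lit 7])])]
noncomputable def enB (u v i : ℕ) : ℕ := force u fun u => force v fun v => force i fun i => orZ (kill NE (Im u v i []) R1) (sumL (fun l =>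
  orZ (kill NE (Im u v i (nth [] L7 l)) R2) (Nat.add u (orZ (sumL (fun k => EQ (nth [] (Im u v i (nth [] L7 l)) k) (nth [] VY k)) (List.range 8))
    (anyL (fun s => chn CJ (X8 [2]) (Im u v i (nth [] L7 l)) s.1 s.2 [1]) CH)))) LA)
noncomputable def LKX_W : List (List ℕ) := [[nat_lit 0, nat_lit 1, nat_lit 7, nat_lit 4, nat_lit 5, nat_lit 7],
  [nat_lit 1, nat_lit 5, nat_lit 8, nat_lit 1, nat_lit 8, nat_lit 6]]
noncomputable def LKX_Pd0 : BT := (.node (.node (.node (.node (.leaf (nat_lit 0xbe10730708453b5137024f149b2907116311a41c688e44680788c8371fa00f43d1cf4958a42368c013a7b779e6f306230f43b8b847a07820b34c58c1760d63b111318871316a40922f13316310e5251ea27e4e12357ac2138605a74fe0fb12411a2081c34153a10b67c55811dd1a53991c70cd1088a116b09182b1d56b61411704c561b06f54a24b0a40541068d168b4cb63d8e06a58b958f17c81d5a98158d57078910877ab3653e243a63758d0f14e53e87e25a82875cc2065bd4c71f884c8768de54729d06c0f94d78905948f47e41a73ea7157d276a53c44782814060a3394ef44f0ab76c6f23d285a34f3a437608a8d71713837216383e00c35971495935cb2f18be4f267a3d08325458c55ec79863051e1eb24c6bc30238b4ec7fa7f65c57102d48e13f04ca1fb3ac0a039f1890a502d7da0b97f95d032627a2b215d2f30b86367c26558947450718830276937271a84a65e17c702c59026d7e369d21a8fb7e74ab78b53d63b6ce71b8726df4da8136c70576c527b3c225a7731de232))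 (.leaf (nat_lit 0x43e8231ce7968d91f94ce88a42666f1396e95f382484f20025122d2808b271e87e76431781f2727185ba6ef37511834874834167482d19e8a254b6bb1f14fc5b92d305083e2378687eb2704692a030977c88d7937bd2857991b387902b8215f18252c34d20aa5805145f981686965d3553a334e1584356292f854e8bb6f458e14f5178744fa3011983b903750d1ab7624fd51f78f37d3a92db8611ad6fa13b85c2d94455a03ab6665eb4531f30a882279582a8188a52773473d95db55b11272a4575f28bf00e0fa66829c5f439a2472522cd8647d16b865b03a59f7f82cc1aa2a18cb7f201774688f7e93da26c8363158b42e90213082718784cf81483425d2782aa4361c916c66131643343f31046733f0af8ed60f3330f42dc55f4e94042a735d3f41346e54cd37e40e27f3e928632f4f08064f406e6ee6143387af7040c40483d18ee2c502e2c439324039b6590038777d56a002639445c33724669a4001db8393974820471ef12762e20c5e38b06221f78890154983435b1))) (.leaf (nat_lit 0x2073720d37e51b87894583133c632761e62b0d768665c68f74b3d52d82eb3de2e01be28e8af36626529614756d37b6f75716826b03603f788137a5863db2694054413b45ef83146b4b88eb6c489835f1362920355d43fe27d1932264641c28023c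74173b01d44a21a90191ae8cf3eb5794104631e41742031797b82f91617c916876638a76f75b19a3b71e331174f1607ff78c89d17779a0581e21f50bd16665115a2191533fa06728321115661186a55570c8301373ff6db0984547335835c074c1574222e46a96126c61d811120a07912c39822e1426a638f0806ea5b61b50ee0107cd54122a21b0e236f1452235ac0994d82b685b5e204a0070e95056197ba2540763ae7d685360b17f77d19b1ec2fd8675638d875f89544d1861845763b533a1ee53f15c08866d03e8fa5ed8445083bb5883863a73ba07a1d140f0423b84064716628b35b268c80e64747d50f1041ed0b438c4bf0691d93460a90b71204ff10d1720bb2440ce19d8a87727385962a60b23e10e15460cc4eb8f15a64ed722))) (.node (.leaf (nat_lit 0x2ff52c7191fd0bf11536b7df56f5c21522958ae0655d742a8638d07c47d842c2ae7ef2e631c2e31e947c3884b92a426286675710584060c7ec0db24e2752a86b36c22c810923d4317d070148677434b13050a2ee5de89743857507251d0ca2b057b5126811260df3be68d7560fd16d12127929e7c88732c00a77f485455e2ea2910b51350362b381241425e59e7672ce42940a0c567148f39d59975e1017a76f83f666b75c3dd57842105a1d00ff51c2d009d8295fc5a462521531a0f81d718345085241823b56069538d48063c39e2d735e7ad6a30853b324a5692ec2584d61223814075bb41c05f5ab69413e86f5078b60750c94191a170a71f1961ca5010c15a21f60a68f516f0dc4011dc04d50c23e24910a73b2ad69f41131f0a31d35592b43282d141209c0d932354d00149947748900b2e56e140c66577e66a39c4727750303bd6e44c35dd3875235f73923596500736a843c87d5ae47986258223065784e07c3f87b45d23e764004f11418d47667528c0bc7c60395ea56234d4d4645))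 (.leaf (nat_lit 0x557b25fb2057908937231bc04518f7e083526873f30c6992fa56c3038ab1e105926a2f579f83344b14466e45d6ed7165bc4614b61fc36a68e46675d79474d67f1486b543070b6b413d85632569b5b77aa5a162a0814935d60ed6483cf4083af6c06158ea4e072408970f7a244a3522b58c72d53f110f1c165a07b2576dc5fe2ba47b73e11f25b27c08335b33b5fa6735cd76d01645b80871d2213902392450332637c14dc7dc87a4884028c61b989f8267507686ab5aa09f62156b7e62c20c03c107d0f66037f54b770067e7657261d25925bf5d93c50e30492be1c08888436bd36e63a8e946a3068b779268346e8c23c38ac3f92820971f448487b1ff7c388445a75a78a77f21f01e3857516907440283f37403340ae1293ed7f74444252122b14e26915c855d07f2184e826e1b65406b97d986553e8f213180a51172532980159b03c6708dc6605f06c911b2996c33a847401c31e66c4517db6ba02984780064640324f48c20229375889660d7a16fe5216085167032d611052b55472f378)))) (.node (.node (.leaf (nat_lit 0x2844f72fc1546fc0ec5270082284bd4c03693c84d38d312a6430142948385d35490006795e94a35d50941bf0e63aa57f2278cd4be85f0437710fe47849f3fc64e4a127657342e4ee4f95332d28f95df5897ed0da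3140f218546f7f04c13a208e1e68ce37c2f47810136411b778e64a57054c3001506070128a38555e81ac1945611b47ca2da4f331b4ac4bb78d4703cc0d17533d772c2cb7827b552f5f885e58a49d74a0c819f33e6885101c849c52d58b5b489b0118a72177976672b87771628c40b318c5318f85007a961d17d1a649e8c11f24f84aa0dd2504f66e26ca3541911bb05d8994964c473a17e7be0f318112f5dc0523706d452600602a4c66447416ac30a14685d4e351a15b7b037402472e8db14e1b26e864b1df82c29f4906ae7fc4ea6cf32b1a065f61313841d86b6055724b44b057a2ca11962f3df4f56101f08ec7063b26f15a35068f68f06d320f49167b4521cd82f5481038dd1288a68df3c40d54650c75ee7124d52e148e00469811c0d041a55a12d77915f256598100)) (.leaf (nat_lit 0x5ff3f50055368b13567a619715e6566a10e767264c01b56609b3ef43746c2102042250255024687a07a36cc7801788b51cb3051e72227476a48ef7f17421596cb32c80d88b4cc5c32ac8ca6968572425917208827d388570914b7cb2f60208518195645da23326728973181a1e504b2294c821d7606be18786e80362452484205186c7d749a6da42304e6f54833e508b3802a26bf23465e0f06843cd4592e76343ca7b18f76002e209044365334a76162d6ad3ce30e7637871c48da1c561779b7fd7324d945573612e33567d7082018bd6262098108584d03e361a36d14342856708d11e3445ad2bf0321991324495fd83b3d30eb6d85223848e36d53b66a229860931d07e5f651b70e7a44734ba5198712c12fb6782f004628820d1e061689e7598418c92af2551023045b84af0864b55341cc33645f5180b16dd7a814c35a57e6d24b312370553072b6de8e66024de5e468a2bd54f5391160950cb0223d856a35181b6e319518e7917146350342c63bc2bb7ea84b6806587ee6925e553a669)))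 (.node (.leaf (nat_lit 0x87047e1820414856a78e820e61f41f68783a42b2c96d16e060480b48d86d52e3dc76b6184164926236eb77847f38946d2dd83d85021e47524d2241b142d81728d0235cf0648a954303d84a29789242073d2b78042663778758090e43305584a406130b8053f250e5297b36493505570d21735ce3ee0d425359d7dd11760604c3e450b4db28a0f555c73c0ef4dd23c43983c2414a822c57763f36223880f82039572d7a56f025c2485847fe23f48781129a6c12e88804320ad0a250444226b48b01d1515d14e619237106d5ca1fe7765522fe0f733257d21c52817a63e4c97bf3fb6af8d27541bd09a8487292a987f5036855c783f35c8e267c6cd3121675f56fd32423a7fb25f3c073977012b35344c33c18057400a39152a5156c816e4813a66631a27300d832279c8c35c67b65325355a52640c28d610b73736416908260e18a82e26f3428872200b031855655332035827374e40b0ba29b03169758526009341e4132431a332e5090446772bc6aa3e66d04df3c90cf7ce5502315873310e5)) (.leaf (nat_lit 0x28138e5420400ac1d65b542780c13f5682ab77b26107049706305c2140746328ad8277e171a5203682a32ef0de4a91256ec5af11d09e7cc5be2cf01809256e53803f2743d47de6337cf2c779d45602f64f1b001a8bc0fc31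92ed5518595c11554ad34906a8aa1e877a30d64d62709644810c71706b6ff14d54476961c78384584d53774976e5e03967bc89a3ec0685e740d4c25e68496643734b165438270d69e68944e84628f8e53574fb1907855b06521af7888e44a517506075278632d69c0e822b6422b900257c3cb2f74a07846d98cc7f36e71da4e73674e48862de6e65d87ae6f62df7e87b96fb45e89c32a8f359a48a3a536c37f08c0ea13c0663fd7284a705e0c64ae6d74bc3216d608f41b16518b0563616395c44626b10537346202f25b30773bf00c1640e02164d15658d47c04243450a133d00d6f93d619c46067605b75501f87c62c73514a2a53635c98e725900971c6011ba6b76288a003b8ba4344407433403a059528b17b59c6b281c7d481e4b23ad49437903842f8c87bb)))))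
noncomputable def LKX_Pd1 : BT := (.node (.node (.node (.node (.leaf (nat_lit 0x1475977625dd60b29c1a56ce6ee0196c10f46dd7f36f97f161f6be1a96c02f98276f02b92de2a52a60482be2bf6c23a50df4dc6ea5531a37e568070464272001443e3a88972c119972d7bf7c004d51960673b6b97972ac1a17642f72d97447a016e7632b66e650a6d816c2f37226d91967762f674e30472a85c30e2c92fa88c2c56e03f20a73e68942d86df1922ba7270165257395038582fe0182eb8472f13c62e56f41c129d8292d562d3a03bf2bd2c23ef8303ea2cb0856408493898386ff2a385338638c77a5e225b15e49629266828f57f5874b250f4a74b82434b32657501042554fe5315cf40165824b25346c1672ef85d4ef8468a88b85238ae42184c1763d284478e2dc5b87ca0cc8614723ac42e0e458d86b87169029641b7fe6562065d427803c2692478e55365c747340c48845701d21e36748067757854647e40223934b63c5d143b33554333157732b1cb42a03267c5f94b10f609919e09f1a80d56f51877401656d47ef2870064f34741227115d200c13834d6d16cf7286ab)) (.leaf (nat_lit 0x8c38d48ca6a93073066dc70b3b42ca72b7323b12d02b37232d27133b87182c76e803915b29f2a82c66e41082f56c93d76c66d32b78ce8c88d68d58fa8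cd8d28d18148c28d88d38cc8cb8f94158d78ba67a8c58c48fb8cf5ae8be7888c08bd8bc8bb8c730205989c74b8af8b45985846828b08b505716488130379f2e305a74c17882573f2e72e86db17b2e489e2d18b73f718f7148840d23fe7310a58424cf84519588f6fe30b0ab58157d5e93bc8662b43de89888330d8ac27d25883485987c85e3082ff29b8482fb3fb2ec86f5a20452b08732af84a84b0461a77db8681aa8877062cd2ce71a04c70583387b05d0af2aa39987d09b8571af6ec2ee07e6c55b045c82d84e1e005586c86d08387709705b89105284389384139d69529e24182a2e283a3c30814ba57b3db87e85f2f058b0887106e384f1b41bc83c0908280ea5028a54316bb2a13918202e92e16da3e370a3944d82c44bf2ad7428d03f652a6c82d680f3ae3b02cf3e43e56af6343963a680572913e2203852b5))) (.leaf (nat_lit 0x6b80677a511710a2a911344d7dc4a535a77300b14c7475ba05c34a33721071f4062f84704e77ec7b21db6ae15472612f24d5fb41f0de4db5e752f8197ab3253341a676076b56276a8924ce79a4cc49742349a2306224477bc5714c315d22671681726a4246eb5f083740b06e1306765cb37f06c07101a11152b1ee2176cc40715712528506f63b4f61f179d66d6437e311e2bb6f16f36c44c913f2594cb07774d5ec34916949131124071d71e6a27485ef15c03431523d31045924c46066602f5c202b32241135031d78116332a60940e00a03604b31c4e866a32146d0601195ad4334684677807651a055d78619848276c78720485028919b4847b803330f5be1592235d321255278244e4f871b11b2fd7196124c61495b95bc43573714b4405110d41fb43c0255bd6e543820313b44314a4691a282466c34f0493483185ce01e3624287854267844bd4ca7610565eb4dd7af2137ad0427795753382117788c91125767a747c28b7e64751d30354b92317b526e4ab4ea5d654e75a02a064551)))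 (.node (.leaf (nat_lit 0x87909a44a1948760ac0eb4e90c30b38de74a0b83d309683205e8542ed8740982ea81f8a28a33d109489f8a983b81e1747080e75f10501b36bc0c20a460881008f17d2d38eb89d8ee80c8638642cc0868f20ad3dd8e78e10aa8183e908a0d139a0e20e308b63f49e0a10e87fa8d90bd8008868ed64f6fa87086e38d8160c63cd85b4fa8e23d90e50e639b07f1ba8227018e383e0910fa87868d56d61429704358857e68307629165c0746a63587ba41055745b20500d7c84a811467d5056281ce55b25488068f5bb55927903d76764435c68b1e962927164979940855e55f2244be03b6485fd68706b1fd6023285ab59912b3425a537d07975c49887f7f05a306827e06159f65b1327b17b64df4830625a424952c03a24650c35e06d77d83d48f50921a48652969f14f0295de7b37d733b2345c45ca40a4c83787e922d7d036569276f22875d4c11eb26b4535b167280251503153921c7c223e2095214ad5b431e21441d4514174ec36a6631ff5383567e121954f75e03f28845d43768e53578f)) (.leaf (nat_lit 0x8088e6fd1b73902b10f164c5d863201309349c5d549d0e97fb0f73cc8554bc0dd3dc8e63870bc4398e082e5005650a90a31200f38f58a181d0b60ba39238a61d00f8da38b0035f20020f87724ac7577fc8dd8113e18db852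49b5c30e10f50ec6500ee67b2da82358a0c84ff5615933e83ce3d83c53cb7f68094e35f86160003ab8f837a6a728e69c5835e148c76852823b1011ca6a569b54268952651470283f7e769322a51804427c20229a15a27465e6996882663766696842938b150e0d961e62b28301c6bd8c61e11c602e4b657058057c22137177b77c13d4a24307c746f6850751cc4815fe59220e1e611563035b68a65d2902515275040637070406551ea1f33af6256bf2b262a7946f819a72f2702685457a23572764a10d753f0842bc63e63d0274a653b7e81371f85fc5fa8083aa6f663166031b5a108e19067e64e2722815476266515f71184c75415c00ef67f6d518b3437d47f433210f6ac3722985c54483823837cd60e1be37e0fb1294762d773a0ca3c134159b2635497a8)))) (.node (.node (.leaf (nat_lit 0x20d54b2641fc43d3447d56371f733f7a41e46537c14a474f7bb4ae7c332c2256542731da7926627521f47707c567984d77575631953d4e41e83305081d775576e77140d79177f3127512801cd66701f69d1c95e47596785861c45941c20925ee1bf60d18082b1b52a21b81b96fc19f1bb82c2db18558e3cf85616855c7ae7f28670ed01586a4d40f916b0db4320c54641b601719d19c45a64b0d04613ca0b58902fc5550a270362c89a76618d7c961c16f18918801217e1b25ed1837967531bd17f1862d47ac8a073d5068a67cb05476d2e017374579e17018a0bf1660b91a47984921ae05f16d0108ad47830a16177737c0784c24898e468c45410b4aa3597ea4e21033757df13323a5bf7b04f24414344467da0ff52211a7e254c35d11075b49980366e5c14361167dd00563810e3475e51502505e84b74e05cd5e612425f12760a7a312a3334a912c7d200979c6de7ed49f7c636d44b14546b6234fc13a6612844f94144b01416171363267aa1584fb3168df7ee5e334e06915351069e79b))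 (.leaf (nat_lit 0x5ff6652676364de63501b6ad6247b45f57d87bd6d02dd4bb48a1c018449442035f8891314da12d1341c810607a6a35e07d32380fc33a7895663396f73204056f203e45200702678b06542b12e5cc4b52327cf7b90377ce6132336c347f13c62014e45543a44427b4f044504f7833747de21636c75822285153c8c146a7d62615445a934551b32325d24a25687262e51d25250153259c60354a2608b30fe31a5951c36b66643693617901b10473798316ba36e2950721c551c8b26a436f88b67407329488a67383636031302d02141341935536634c4c46753643632993737a633634056878a5da6e170e3524d16b771c26c26d4631ad27f35427a35328a32f1937e00dc45040032e2084043811431fe59a60132762702c6475aa02369a62136864153e1dc5af63a74621d20c51e03820176953359d0665304d952e3c42484af81223c6a065a69809e73c05814621852051f5375a05855a77a90cb69130174121f69773e72543f1020706817eb24550b0bb23f1d850717928265909c82659e6e2))) (.node (.leaf (nat_lit 0x30c8963b77178753fa3b573389b8133d43f43f30a83e730508973039871570f0872c36b53f10a680a80b81c7346c77243df8852c86e98353092a76b38dc7493d53f52f20532e63c71b06b42ab6ed6b11973957093d00956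b252d8397436053b908c3be3bd88872e3a13c08e93fd3a73f98f33b37f78ef80d65280e3ad04a6aa6337f50d33b68060e07213937fd3ba08d39e39f8407002a42c085a3ed3978073c981a3a36d78216fb7ff70d2ae07c6d26d60823886e707d80138461061154d7be4b460c25c15f37b6a858c22f3776861525b656c61567170c58258911c5b331720f59154003057322b56f56e42959057a5ea24414227565f4f515628d64520b57455a55856371247b42f1050045720284ee49342d1353465a81fa61b25e6045691f67b77d933c2355dc5d94184ed56a0244d51266180221d955655075f1ec02047778d26254810d4d63245a647d46e5d731f21547a47162f5961dd42c36b10948777e5791d04904854560ae8823ff88d1623da87a8f78f63f00b18ab8b9517736)) (.leaf (nat_lit 0x38f0413a26ca6ef2b87f97f83b26b03a96190f21ab0f025700e10711f4e650d15522e63969440f0da7a14a014420a5541515b51394f786914833d5f42365ac1f961a5df1237d122c5c95c660f7cc17704e18c28666b11d1e27c41ed21b1f20cd0ce3805f34c51ef28c5c845833e24e4095f62374e524f14d41e1ac41c17c4d710c51a60041256b4fd1f51286467e40c08aa1714a31211004cd26f16a0c718279564d7931e71d258f20005132978c5d05675db8bf45e4624274255b744f4794661d131424266f67007b41a4161600b41df7744f46cd1d41e32291d517545f4d24d05346a127718e4650c40be0fd4224d332d20722725a1404031c75b26cb1de1d67541811e51cf06a1f00b24958a78b62f43d648b4f153a1720c13c28155160118a451317a5240c960709d7384423007353e23f88f08953ee64a3bb0cf72c8f10b08040010a04e15123e08ec0b73a40d64eb48d48e56044c8624498e83fc4c03ec8998ea35100882f3eb56438e3708f481b3c82df6578658600d81916962a039c)))))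
noncomputable def LKX_Pd : List BT := [LKX_Pd0, LKX_Pd1]
noncomputable def LKX_P (k u : ℕ) : ℕ := force (Nat.shiftRight u (nat_lit 8)) fun j => Nat.land (Nat.shiftRight ((nth (BT.leaf (nat_lit 0)) LKX_Pd k).get j) (Nat.mul (Nat.land u (nat_lit 255)) (nat_lit 12))) (nat_lit 4095)
noncomputable def LKth_W : List (List ℕ) := [[nat_lit 0, nat_lit 3, nat_lit 6, nat_lit 3, nat_lit 6, nat_lit 3, nat_lit 6, nat_lit 3, nat_lit 6],
  [nat_lit 5, nat_lit 1, nat_lit 3, nat_lit 5, nat_lit 0, nat_lit 3, nat_lit 6, nat_lit 3, nat_lit 5, nat_lit 3, nat_lit 1, nat_lit 5],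
  [nat_lit 0, nat_lit 1, nat_lit 2, nat_lit 1, nat_lit 5, nat_lit 0, nat_lit 5, nat_lit 1, nat_lit 6, nat_lit 2, nat_lit 1, nat_lit 0],
  [nat_lit 4, nat_lit 2, nat_lit 5, nat_lit 0, nat_lit 2, nat_lit 5, nat_lit 3, nat_lit 6, nat_lit 3, nat_lit 2, nat_lit 5, nat_lit 4, nat_lit 0],
  [nat_lit 4, nat_lit 6, nat_lit 2, nat_lit 3, nat_lit 4, nat_lit 3, nat_lit 5, nat_lit 1, nat_lit 5, nat_lit 1, nat_lit 6, nat_lit 5, nat_lit 0, nat_lit 2, nat_lit 4],
  [nat_lit 1, nat_lit 5, nat_lit 3, nat_lit 6, nat_lit 3, nat_lit 5, nat_lit 1, nat_lit 2, nat_lit 3],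
  [nat_lit 2, nat_lit 5, nat_lit 6, nat_lit 3, nat_lit 6, nat_lit 2, nat_lit 0, nat_lit 5, nat_lit 3, nat_lit 6, nat_lit 3, nat_lit 1, nat_lit 5],
  [nat_lit 1],
  [nat_lit 0, nat_lit 5, nat_lit 1, nat_lit 2, nat_lit 4, nat_lit 2, nat_lit 6, nat_lit 2, nat_lit 3, nat_lit 6, nat_lit 3, nat_lit 4, nat_lit 0, nat_lit 2],
  [nat_lit 0],
  [nat_lit 2],
  [nat_lit 3],
  [nat_lit 4],
  [nat_lit 5],
  [nat_lit 6],
  [nat_lit 0, nat_lit 2, nat_lit 1, nat_lit 5, nat_lit 0, nat_lit 2, nat_lit 1, nat_lit 6, nat_lit 2, nat_lit 1, nat_lit 5, nat_lit 1, nat_lit 0]]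
noncomputable def LKth_P : ℕ → ℕ → ℕ := wdsP H15.XCo2C.P LKth_W
noncomputable def LKtl0Dd : ℕ := nat_lit 0xd2edfad9bccc143c3bc89bdd2a5bbb1f5b4bb4ab0d02fb39a7da3d99eaeaa5ba2c9cd9bd95e94e9eb96db17a2aa0a9ab99b97b90d87e82e87d85d7ee7de056a67a579a999992a91a79e77ea27a1787b76e73e99781a7bc78c76d70e0267fa8f775b70a1456cd0f50d56cb6ca0a504103201169d67e63d6b969a65b60d5fd5ed5ae61b60c5fc5bd5ad51e63a5cb56d4ee4ce4be68758b56c4fd4bd44e41e58a51b50b4ec3fe3ee5b953a4bb48b43c42c3fd3be3ae4fa4aa46a44b40b3ec39e5b74d94b945a42a5675574193ca39c4b74973ba39b36d35e4173b935d37a02532d2fe33b2fd2fc2dd29e32a30b2cc25e2fa2cb2ab26d21e2aa28b22d1ee32728a25b24b22c1fd1ed18e3072f72e729924a21b1ad19d18d17e2c725920a1db17d16e2971cb16d15e25715d2171c91d715a17713d11e14b0ee14a12b10d13a12a0cd0ae0ad09e08e0ac09d07e0f90d907d06e0ba07c06d0d70b909a07b06c06b07906903e05b02e03c05904a02c01d01c05701b02901a03702700d00c00b00a009000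
noncomputable def LKtl0D (u : ℕ) : ℕ := Nat.land (Nat.shiftRight LKtl0Dd (Nat.mul u (nat_lit 12))) (nat_lit 4095)
noncomputable def LKtl0Pd : ℕ := nat_lit 0x5d288a2238487b66ad8752b630458157d1ca8f773d6d455025a3717f00294ed21d38388b1484b449705805c8e470a76221006920836b1586644637877783204d951c41a7638b609840212b6590965390531041c507749a0a489c3648192f12028a17123376de28c5045130326b206c70e55d68e4536b169742c20f24e2046db52807651423919725f29228b1470ff4594b36735bf35181b1334ad4850fd1d95a67ee6d175c45d1b23e336e31809f81d0bd10f4a66a081c5d706479b4205893e77bf6e267457c77a8ae5820575858154100424d84cb1984615945ea51b56473e3306717da3fb3c52573237ba0b137f32e15b5b33ca10015031735f2f741b17a07b37a52f5238b70fe0eb6ae3c24ef77987736c5f84550be1408d974340100310b1201c359270b5970b814e2b74ec6da56f34d41669d49636a74b75b01d3073d23952172eb29c00410716d3f13cb6a86855a78f40ce36f3102d84c96170075eb0c34842f945e58061074254f5862f302a0fa1853c966916600f63b4e35005be016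
noncomputable def LKtl0P (u : ℕ) : ℕ := Nat.land (Nat.shiftRight LKtl0Pd (Nat.mul u (nat_lit 12))) (nat_lit 4095)
noncomputable def LKtl0Qd : BT := (.node (.node (.node (.leaf (nat_lit 0x960000000000000000000000000000f400000000c8003e00000000000000000000000000000000900000000000000000000000000000000000000000000000000071a600000000000000000000000000000000000900000000000000000000560000000000000000000000002400000000000006000000000000000000005f0000db000000000000005b00390000000000e7a2000000000000450000000000000000000000009a00000000000000ce000000000000000000003f000000000000000000000000000000008900000040000000250000c90000005ca1509700000a00000000000000000000000000004f000000000000000000000000000000000000000000000000000000001d000000000000000000001500000000468a000000003a00000000000062000000000000000000000000c5000000008c000000000000d000cc000000000000000000000000000000000000000000000000000055000000c7a9000000000000000000b60000de000000008400000000000000e3000000e478000000ca0000000000000000000000000000000074000000000000000000000000000000b8000000000000000bec00000000000000000000002d0000000000000000000000000005000000000000001700002641000000))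 (.leaf (nat_lit 0xf300001e000000000000000000000000000000e2000000000000000000004400000000000000000000000000000000000000000000000000000000000000000051d1000000000000007a000000000000000000000000bf00000000c400000000000000000000000000000000e8fe0000000000000000000000000000000000004a00f90000000000000000000000000000000000000000000000000000000000000000000000000000000000000000fc0000000000000000000000000000000000000000000000000000000000000000000000000000000000008b869b00c200000076000000000000000000000000000000000000000000))) (.leaf (nat_lit 0x48000000000000000000000000166e0000000000000000000000000000000000008500000000ff0000000000000000000000000000000000009d01000000000000000000005e00000000000000000000001f9500000000000000000000000000003b00006f003d00000000000000008100000d77000079f6110000f57c00000000000000000000000035000000000000000000006c000000000000b4000000000000000000000000f00e000000000000000000000000000000000000000000cb00000000000000000053000000000000aa0000000052000000000000d46d0000000000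00a8b90000000000000000000000000000ba00000002000000000000000000000000000000004c00eb37000000000000000003000000000000000000d5730000000000000000000000007200190000000000000000000000000000000000000000e69f000000000099000000000000880000000000000000000000c60000e5310000000000000000000000000000000098140000000000000000000000000000000000000000000000000000000000000000d9007000001291000000a00000004700b20000000000000000000000000000000000000000000000000000000000000000000000000000af0000000000000000000000820000000057d30000003300000000007500000000000000000000000000cf4200))) (.node (.leaf (nat_lit 0x6700000000000000000023000000000000000000800000008f000000000000000000000000000000002b000000000000225d080000006600004d00000000000000000000000000000000000000000000000000000000000000000000000000000000000000002a0000000000000000000000000000000000e90000006100000000540000000000000000ee001c8e0049dc300000000000c30000000059000000000000000000000000009c00000034000000000000000000000000000000000000000000bd000000000000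6a006000000000000000000000640000d6000000000000008d5a0000000000001b00000000000000002c0000f7000000000000000000001300580000000c00c10000000000280000000000000000000000000000000000001a000000000000000000000000000000000000000000000000000000000000000038f80000000000000000000000000000000000000000000000000027000000000000000000a40000000000bba300000000000000000000000000000000000000000000000000000000000000000000000000000000000000a500000000ef0000650000000000000000ad0000000000000000000000000000000000000000a7000000000000000000000000000000000000000000fd0000000000ea000000000029000000000000dfae000000000000dd000000ac00c00000)) (.leaf (nat_lit 0xed0094000000000000000000000000000000000000006800000000000000000000000000000000000000000000000000007f0000000063000000fb00000000000000000000000000000000000000000000000000008300000000000000000000000000000000000000d80000000000000000000000007b4bd70000000000000000000000000000000000000000d2e00000000000922e0000000000000000000000000000002f00000000000000430f0000006bf2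000000000000000000000000000000000000000000000000000000000000000000000000000000000000be000000b500003ce10000000000000000000000000000000000000000000000000000000000000000000000000000007e000000bc0000ab360000000000f1000093000000000000000000000000000000000000000000000000000000000000b7b100004efa000000002100000000000000870000320000000000b00000000000000000b3000000000000000020000000000000000000000000000000007d9e0069000000000000000700000000da00000000000000000000cd0000000000000000000000000000000000000000000000000000000000040000000000000000000000000000000000000000000000000000000000000000000000180000000000001000000000000000000000000000000000))))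
noncomputable def LKtl0Q (u : ℕ) : ℕ := force (Nat.shiftRight u (nat_lit 9)) fun j => Nat.land (Nat.shiftRight (LKtl0Qd.get j) (Nat.mul (Nat.land u (nat_lit 511)) (nat_lit 8))) (nat_lit 255)
noncomputable def LKtl0 : Lev := ⟨256, 16, LKtl0D, LKtl0P, LKtl0Q⟩
noncomputable def LKtl1Dd : ℕ := nat_lit 0x9f8da21086c7c0aa912313001f715c4424f9d7ba62083ec748c52222e0e81c71aad31a18c336a22d8b1911e83446430d31031d7d949108b389b91c0f62695e1131124053e8dd1a81d93125916091c53a350e0869041ed11820ce91c90e41acdb86f0c4154261a50d26702c9782de180aa14209c11c9383e218114250351f43a02483c1ac334388230662ec590680422a40f0970ac0741288e09a0683e0440300ec0a81405204c1004f08c0f41a01101e0300580803203803800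
noncomputable def LKtl1D (u : ℕ) : ℕ := Nat.land (Nat.shiftRight LKtl1Dd (Nat.mul u (nat_lit 11))) (nat_lit 2047)
noncomputable def LKtl1Pd : ℕ := nat_lit 0x2d86ae74b4e31b26644853231976e236e2046a04d83186693f17636da5813714d93cb1d90762eb0292f92b70eb0bd04270a8755f830421d76288a7ee2b689c70b5d75be69d63b36a87775c45349701d7da52846300f41b17a1588ae1665644c925706c51c5bf77806902a70e77a41a3c207b46150014e7bf45552351338325f58081967375b0033ca3951c36a835f4010645ea51b0321000fe8f46973070535b310b1044ef0073c581c7f058949614055d67156f73e6d43d251407759729c0a43201072f340225a23909f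
noncomputable def LKtl1P (u : ℕ) : ℕ := Nat.land (Nat.shiftRight LKtl1Pd (Nat.mul u (nat_lit 12))) (nat_lit 4095)
noncomputable def LKtl1Qd : BT := (.node (.node (.node (.leaf (nat_lit 0x6f0000000000000000000000000000000000000000002a000000000000000000000000000000008200000000000000000000000000000000000000000000000000007e000000000000000000000000000000000000000000000000000000004c0000000000000000000000000000000000000049000000000000000000000000004b000000000000000000380000000000000000000000000012000000000000000000000000000000000000000000000000000000000000000000000000000000000000000000000000000000001b0000000500001a000000220021000000000000000000000000000000000000690000000000000000000000000000000000000000000000000000000000000000000000000000000000000000006800000000000000000000000000000000000000000000000007000000000000000000000000000000000000000000000000000000000000000000000000000000003b0000000a6e000000000000000000450000410000000026000000000000000000000000000000001d00000000000000000000000000000000670000000000000000000000000000002300000000000000406c000000000000000000000052000000000000000000000000004e00000000000000180000002d000000))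 (.leaf (nat_lit 0x200000000000000000000000000000000000000000000000000000000000000000000000000000000000000000000000000000000000000000000000000000000000000000004a00000000000000000000000000000000005d000000000000000000000000000000000060000000000000000000000000000000000000560065000000000000000000000000000000000000000000000000000000000000000000000000000000000000000000000000000000000000000000000000000000000000000000000000000000000000000000000000000000001600003000000000000000000000000000000000000000000000000000))) (.leaf (nat_lit 0x6400000000000000000000000000250000000000000000000000000000000000005b0000000000000000000000000000000000000000000000435a000000000000000000001c000000000000000000000000000000000000000000000000000000090000000000000000000000000014000000000000007331000000000000000000000000000000000f0000000000000000000048000000000000110000000000000000000000000000000000000000000000000000000000000000000000000000000000000000000000000000000050000000003500000000000044240000000000000b34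000000000000000000000000000000000000390000000000000000000000000000000019000000000000000000000083000000000000000000717900000000000000000000000000004700000000000000000000000000000000000000000000000000000000000000000000000000000000000000000000000000531300000000000000000000000000000000800000000000000000000000000000000000000000000000000000000000000000004f003a0000000000000000000000360054000000000000000000000000000000000000000000000000000000000000000000000000000000000000000000000000000000000000004d3d0000000000000000000000000000000000000000000000032700))) (.node (.leaf (nat_lit 0x760000000000000000000000000000000000000000000000000000000000000c000000000000702c000000001700003c00000000000000000000000000000000000000000000000000000000000000000000000000000000000000002b00000000000000000000000000000000003300000000000000000000000000000000007200007c0000005700000000000000000000280000000000000000000000000000000000000000000000000000000000000000000000000000000000000000000000000000000000000000000000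7f0000060000000000000078000000000000000000000000000000001e000063000000000000000000006b000000000004000000000000006d0000000000000000000000000000000000008600000000000000000000000000000000000000000000000000000000000000006a5e0000000000000000000000000000000000000000000000000008000000000000000000000000000000000000000000000000000000000000000000000000000000000000000000000000000000000000000000000000320000000002000046000000000000000000000000000000000000000000000000000000000001000000000000000000000000000000000000000000000000000000620000000000000000000000000000000000000000000000007b00000000)) (.leaf (nat_lit 0x15005f000000000000000000000000000000000000005100000000000000000000000000000000000000000000000000003700000000000000000000000000000000000000000000000000000000000000000000000000000000000000000000000000000000000000000000000000000000000000003e0042000000000000000000000000000000000000000075610000000000552e000000000000000000000000000000840000000000000000000000000e0000000000000000000000000000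0000000000000000000000000000000000000000000000000000000000000000003f00005c660000000000000000000000000000000000000000000000000000000000000000000000000000007d000000000000007400000000000d0000000000000000000000000000000000000000000000000000000000000000000000000085000000000029000000000000007a00005900000000001f00000000000000000000000000000000000000000000000000000000000000000000002f00100000000000000077000000008100000000000000000000000000000000000000000000000000000000000000000000000000000000580000000000000000000000000000000000000000000000000000000000000000000000000000000000000000000000000000000000000000000000))))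
noncomputable def LKtl1Q (u : ℕ) : ℕ := force (Nat.shiftRight u (nat_lit 9)) fun j => Nat.land (Nat.shiftRight (LKtl1Qd.get j) (Nat.mul (Nat.land u (nat_lit 511)) (nat_lit 8))) (nat_lit 255)
noncomputable def LKtl1 : Lev := ⟨135, 9, LKtl1D, LKtl1P, LKtl1Q⟩
noncomputable def LKtl2Dd : ℕ := nat_lit 0x4bb1d72e25aa9e10c554a6cb0843b32568713598d227c33944c05327914843e1a89c743910148604b1a0a46644158883e3d0c8d85e1b140602e160a0441e0b098341408060180a00
noncomputable def LKtl2D (u : ℕ) : ℕ := Nat.land (Nat.shiftRight LKtl2Dd (Nat.mul u (nat_lit 9))) (nat_lit 511)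
noncomputable def LKtl2Pd : ℕ := nat_lit 0x7631b23f152349732320456f87529c00351c17a5f851b2f33183c52b707687776241a88a74b81c3c21c37bf4d977830436a6697da4616644c96da4533956a838321d70a16689c4ef1d95b367306c8ae2eb0074853cb10058158063b25f30769d
noncomputable def LKtl2P (u : ℕ) : ℕ := Nat.land (Nat.shiftRight LKtl2Pd (Nat.mul u (nat_lit 12))) (nat_lit 4095)
noncomputable def LKtl2Qd : BT := (.node (.node (.node (.leaf (nat_lit 0x3c000000000000000000000000000000090000000000000000000000003e00000000000000000000000000000000000000000000000000000000000000000000000000000000003300000000000000000000000000001200000000000000000000000000000000000000000000000000000000000000000000000000000000000000000000000000000000000000000000000000000000000000000000000000000000600000000000000000000000000000000000000000000000000000000000000000000000000000000000000000000000000000000000000000000000000000000000000000000000000000000000000000000000000000000000000000000000000000000000002c00000000000000c000000000000000000000000000000000000000000000000000000000000000000000000000000000000000000000000000000000000000000000000000000000000000000000000000000240000d40000))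 (.leaf (nat_lit 0xb000000000000000000000000011000000000000000000000000028000000000000000000000000000ac0dc0000000000000000000000000000000000000000000000000000000000000000000000000000000000000000000000000000000000000000000000000000000000026000000000000000000000000000000000000000000))) (.leaf (nat_lit 0x32000000000000000000000000000000000000000000000000000000000000000000000000000000000000000000000000000000380000000000000000000000000000000000000000000000000000000000000000000000000144000000000000000000000000e00000000000000000000000000000000000000000000000000000000000000000000000000000000000000000000000000000000000000000f00000000034c40000000000000000000000000000000000000000000000000000000000000000400000000000000000000000000000000880000000000000000000000680000000000000000000000000000000000000000000000000000000000000000000000000ec0000000000000000000000000200000000000000000000000000000000000000000000000000000700000000000000000000600000000000000000000000000000000000000000000000000000000000000000000000000000000000029000000000000000000000000000000000000000)))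 (.node (.leaf (nat_lit 0xf400000000000000000000000000000000000000000000000000000001c0000000b800250000000000000000000000000000000000000000000000000000000000000000005c000000000000000000000000054000000000000000000000000000000000001f000000000000000000000000000000000000000000000000000000000000000000000000000000000000000000000000000000000e8000000000000002f000000000000000000000000040020000000000000000000000000c00000000000280000000000000000000000000000000000000000000000000000000000000000000000000000b40000000000000000000000000000000000000036000000000000000000000000000000000000000000000000000000000000000000000000000000000000000000080000000000000000000000000000000000000000000000000000000000000000000000000000000000000000000000000500000000000000000000000000000000000039000000)) (.leaf (nat_lit 0x1d0000000000000000000000000000000000000008c0000000000000000000000000000000000000000000000000000000000000000000000000000000000000000000000000000000021000000000000000000000000000000fea000000000000000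0000000000000000009c000000000000000000000000000000000000000000000000000000000000000000000000000000000000000000000001300000000000000000000000000000000000000000000000000000000000000000000001900000000000000000000000000000000000000000000000000000000000000000000000001600000000000000000000000000000000000000000000000000000000000000000000000000000034000000000000078000001b0000000000000000000000000000000000000000000000000000000000000c0000000000000000000000000000000000000000000000000000000000000000000000000000000000000000))))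
noncomputable def LKtl2Q (u : ℕ) : ℕ := force (Nat.shiftRight u (nat_lit 9)) fun j => Nat.land (Nat.shiftRight (LKtl2Qd.get j) (Nat.mul (Nat.land u (nat_lit 511)) (nat_lit 6))) (nat_lit 63)
noncomputable def LKtl2 : Lev := ⟨64, 7, LKtl2D, LKtl2P, LKtl2Q⟩
noncomputable def LKtl3Dd : ℕ := nat_lit 0x567ad9ab04ed17a25c4c7151a304880e18200
noncomputable def LKtl3D (u : ℕ) : ℕ := Nat.land (Nat.shiftRight LKtl3Dd (Nat.mul u (nat_lit 7))) (nat_lit 127)
noncomputable def LKtl3Pd : ℕ := nat_lit 0x3c97796ad79b37a68542c0fa5a62923306d16b257d14881b36c57c4b34a64cb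
noncomputable def LKtl3P (u : ℕ) : ℕ := Nat.land (Nat.shiftRight LKtl3Pd (Nat.mul u (nat_lit 12))) (nat_lit 4095)
noncomputable def LKtl3Qd : ℕ := nat_lit 0x2800000000000000000000000000000000000000000000000000000000000000000000000000000000000000000000000000000000000000000000000000000000000000000000000000000000000000880000000000000000000000000000000000000000260000000000000000000000000000000000000000000000000000000000000000000000000000000000000000000000000000000000000000000000000000000000000000000000000000000000000000000000000000000000000000000000000000000000000000120000000000000000000000000000000000000200000240000000000000000000000000000000000000000000000001e000000000000000000000000000000000000000000000000000000000000000000000000000000000000000000000000000000000000000000000000000000000000000000000000000000000000000000000000000000000000000000000000000000000000000000000000000000000000000000000000000000000000000000000000000000000000030000000000000000000000000000000000000000000000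00000e300000000000000000000000000000000000000000000000000000000000000000000000000000000000000000000000000000000000000000000000000000000000000000000000000000000000000000000000000000000000000000000000000000000000000000000000000000000000000000000000000000000001000000000000000040000000000000000000000000000000000000000000000000000000000000000000000000000000000000000000000000000000000000000000000000000000000000000000000000000000e00000000000000000000000000000000000000000000000000000000000000000000000000000000000000000000000000000000000000000000000000280000000000000000000000000000000000000000000000000000000000000000000000000000000000000000000000000400000000000000000400000000000000000000000000000000000000000000000000000000000000000000000000a00000000000000000000000000000000000000000000000000000000000000000000000000000000000000000000000000000000000000000000000000000000000000000000000000000000000000000000000000000000000000000000000000002c000000000000000000000000000000000000000000000000000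000000000000000000000000000000000000000000000000000000000000000000000000000000000000000000000000000000000000000000000000000000000000000000000000000000000000000000000000000000000000000000000000000000000000000000000000000000000000000000000000000000000000000000000000000000000000000000000000000000000000000000000000000000000000000000000000000000000000000000000000600000000000000000000000000000000000000000000000000000000000000000000000000000000000000000000000034000000000000000000000000000000000000000000000000000000000000000000000000000000000000000000000000000000000000000000000000000000000000000000000000000000000000000000000000000000000000000000000000000000000000000000000000000000000000000000000000000000000000000000000000000000000000000000000000000000000000000000000000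
noncomputable def LKtl3Q (u : ℕ) : ℕ := Nat.land (Nat.shiftRight LKtl3Qd (Nat.mul u (nat_lit 5))) (nat_lit 31)
noncomputable def LKtl3 : Lev := ⟨21, 5, LKtl3D, LKtl3P, LKtl3Q⟩
noncomputable def LKtl4Dd : ℕ := nat_lit 0xc
noncomputable def LKtl4D (u : ℕ) : ℕ := Nat.land (Nat.shiftRight LKtl4Dd (Nat.mul u (nat_lit 2))) (nat_lit 3)
noncomputable def LKtl4Pd : ℕ := nat_lit 0x95f5f
noncomputable def LKtl4P (u : ℕ) : ℕ := Nat.land (Nat.shiftRight LKtl4Pd (Nat.mul u (nat_lit 10))) (nat_lit 1023)
noncomputable def LKtl4Qd : ℕ := nat_lit 0x800000000000000000000000000000000000000000000000000000000000000000000000000000000000000000000000000000000000000000000000000000000000000000000000000000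
noncomputable def LKtl4Q (u : ℕ) : ℕ := Nat.land (Nat.shiftRight LKtl4Qd (Nat.mul u (nat_lit 1))) (nat_lit 1)
noncomputable def LKtl4 : Lev := ⟨2, 4, LKtl4D, LKtl4P, LKtl4Q⟩
noncomputable def LKtl5Dd : ℕ := nat_lit 8
noncomputable def LKtl5D (u : ℕ) : ℕ := Nat.land (Nat.shiftRight LKtl5Dd (Nat.mul u (nat_lit 2))) (nat_lit 3)
noncomputable def LKtl5Pd : ℕ := nat_lit 0x276004
noncomputable def LKtl5P (u : ℕ) : ℕ := Nat.land (Nat.shiftRight LKtl5Pd (Nat.mul u (nat_lit 11))) (nat_lit 2047)
noncomputable def LKtl5Qd : ℕ := nat_lit 0x1000000000000000000000000000000000000000000000000000000000000000000000000000000000000000000000000000000000000000000000000000000000000000000000000000000000000000000000000000000000000000000000000000000000000000000000000000000000000000000000000000000000000000000000000000000000000000000000000000000000000000000000000000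
noncomputable def LKtl5Q (u : ℕ) : ℕ := Nat.land (Nat.shiftRight LKtl5Qd (Nat.mul u (nat_lit 1))) (nat_lit 1)
noncomputable def LKtl5 : Lev := ⟨2, 3, LKtl5D, LKtl5P, LKtl5Q⟩
noncomputable def LKtl6Dd : ℕ := nat_lit 2
noncomputable def LKtl6D (u : ℕ) : ℕ := Nat.land (Nat.shiftRight LKtl6Dd (Nat.mul u (nat_lit 1))) (nat_lit 1)
noncomputable def LKtl6Pd : ℕ := nat_lit 0xbafc2
noncomputable def LKtl6P (u : ℕ) : ℕ := Nat.land (Nat.shiftRight LKtl6Pd (Nat.mul u (nat_lit 10))) (nat_lit 1023)
noncomputable def LKtl6Qd : ℕ := nat_lit 0x8000000000000000000000000000000000000000000000000000000000000000000000000000000000000000000000000000000000000000000000000000000000000000000000000000000000000000000000000000000000000000000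
noncomputable def LKtl6Q (u : ℕ) : ℕ := Nat.land (Nat.shiftRight LKtl6Qd (Nat.mul u (nat_lit 1))) (nat_lit 1)
noncomputable def LKtl6 : Lev := ⟨2, 2, LKtl6D, LKtl6P, LKtl6Q⟩
noncomputable def LKtl7Dd : ℕ := nat_lit 0
noncomputable def LKtl7D (u : ℕ) : ℕ := Nat.land (Nat.shiftRight LKtl7Dd (Nat.mul u (nat_lit 1))) (nat_lit 1)
noncomputable def LKtl7Pd : ℕ := nat_lit 0x2c6800
noncomputable def LKtl7P (u : ℕ) : ℕ := Nat.land (Nat.shiftRight LKtl7Pd (Nat.mul u (nat_lit 11))) (nat_lit 2047)
noncomputable def LKtl7Qd : ℕ := nat_lit 0x20000000000000000000000000000000000000000000000000000000000000000000000000000000000000000000000000000000000000000000000000000000000000000000000000000000000000000000000000000000000000000000000000000000000000000000000000000000000000000000000000000000000000000000000000000000000000000000000000000000000000000000000000000000000000000000000000000000000000000000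
noncomputable def LKtl7Q (u : ℕ) : ℕ := Nat.land (Nat.shiftRight LKtl7Qd (Nat.mul u (nat_lit 1))) (nat_lit 1)
noncomputable def LKtl7 : Lev := ⟨2, 1, LKtl7D, LKtl7P, LKtl7Q⟩
noncomputable def LKce_W : List (List ℕ) := [[nat_lit 0, nat_lit 3, nat_lit 6, nat_lit 3, nat_lit 6, nat_lit 3, nat_lit 6, nat_lit 3, nat_lit 6],
  [nat_lit 0, nat_lit 1, nat_lit 2, nat_lit 1, nat_lit 5, nat_lit 0, nat_lit 5, nat_lit 1, nat_lit 6, nat_lit 2, nat_lit 1, nat_lit 0],
  [nat_lit 2, nat_lit 5, nat_lit 3, nat_lit 4, nat_lit 3, nat_lit 6, nat_lit 3, nat_lit 4, nat_lit 3, nat_lit 2, nat_lit 5],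
  [nat_lit 2, nat_lit 3, nat_lit 4, nat_lit 6, nat_lit 3, nat_lit 5, nat_lit 3, nat_lit 4, nat_lit 6, nat_lit 3, nat_lit 2]]
noncomputable def LKce_P : ℕ → ℕ → ℕ := wdsP H15.XCo2C.P LKce_W
noncomputable def LKcc7Dd : ℕ := nat_lit 0
noncomputable def LKcc7D (u : ℕ) : ℕ := Nat.land (Nat.shiftRight LKcc7Dd (Nat.mul u (nat_lit 1))) (nat_lit 1)
noncomputable def LKcc7Pd : ℕ := nat_lit 0x2c6800
noncomputable def LKcc7P (u : ℕ) : ℕ := Nat.land (Nat.shiftRight LKcc7Pd (Nat.mul u (nat_lit 11))) (nat_lit 2047)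
noncomputable def LKcc7Qd : ℕ := nat_lit 0x20000000000000000000000000000000000000000000000000000000000000000000000000000000000000000000000000000000000000000000000000000000000000000000000000000000000000000000000000000000000000000000000000000000000000000000000000000000000000000000000000000000000000000000000000000000000000000000000000000000000000000000000000000000000000000000000000000000000000000000
noncomputable def LKcc7Q (u : ℕ) : ℕ := Nat.land (Nat.shiftRight LKcc7Qd (Nat.mul u (nat_lit 1))) (nat_lit 1)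
noncomputable def LKcc7 : Lev := ⟨2, 1, LKcc7D, LKcc7P, LKcc7Q⟩
noncomputable def LKtn0Fd : ℕ := nat_lit 0
noncomputable def LKtn0F (u : ℕ) : ℕ := Nat.land (Nat.shiftRight LKtn0Fd (Nat.mul u (nat_lit 1))) (nat_lit 1)
noncomputable def LKtn0 : Nd := ⟨LKtn0F, (nat_lit 2), (nat_lit 1), [], [((nat_lit 0), [])], []⟩
noncomputable def LKcc5Dd : ℕ := nat_lit 2
noncomputable def LKcc5D (u : ℕ) : ℕ := Nat.land (Nat.shiftRight LKcc5Dd (Nat.mul u (nat_lit 1))) (nat_lit 1)
noncomputable def LKcc5Pd : ℕ := nat_lit 0x276004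
noncomputable def LKcc5P (u : ℕ) : ℕ := Nat.land (Nat.shiftRight LKcc5Pd (Nat.mul u (nat_lit 11))) (nat_lit 2047)
noncomputable def LKcc5Qd : ℕ := nat_lit 0x1000000000000000000000000000000000000000000000000000000000000000000000000000000000000000000000000000000000000000000000000000000000000000000000000000000000000000000000000000000000000000000000000000000000000000000000000000000000000000000000000000000000000000000000000000000000000000000000000000000000000000000000000000
noncomputable def LKcc5Q (u : ℕ) : ℕ := Nat.land (Nat.shiftRight LKcc5Qd (Nat.mul u (nat_lit 1))) (nat_lit 1)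
noncomputable def LKcc5 : Lev := ⟨2, 2, LKcc5D, LKcc5P, LKcc5Q⟩
noncomputable def LKtn1Fd : ℕ := nat_lit 0
noncomputable def LKtn1F (u : ℕ) : ℕ := Nat.land (Nat.shiftRight LKtn1Fd (Nat.mul u (nat_lit 1))) (nat_lit 1)
noncomputable def LKtn1 : Nd := ⟨LKtn1F, (nat_lit 2), (nat_lit 2), [], [((nat_lit 0), [])], []⟩
noncomputable def LKcc0Dd : ℕ := nat_lit 0xed0
noncomputable def LKcc0D (u : ℕ) : ℕ := Nat.land (Nat.shiftRight LKcc0Dd (Nat.mul u (nat_lit 3))) (nat_lit 7)
noncomputable def LKcc0Pd : ℕ := nat_lit 0x32f7aa4b016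
noncomputable def LKcc0P (u : ℕ) : ℕ := Nat.land (Nat.shiftRight LKcc0Pd (Nat.mul u (nat_lit 11))) (nat_lit 2047)
noncomputable def LKcc0Qd : ℕ := nat_lit 0x20000000000000000000000000000000000000000000000000000000000000000000000000000000000000000000000000000000000000000000000000000000000000000000000000000000000000000000000000100000000000000000000000000000000000000000000000000000000000000000000000000000000000000000000000000000000000000000000000000000000000000000000000000000000000000000000000000000000000000000000000000000000000000000000000000000000000000000000000000000000000000000000000000000000000000000000000000000000000000000000000000000000000000000000000000000000000000000000000000000000000000000000000c00000000000000000000000000000000000000000000000000000000000000000000000000000000000000000000000000000000000000000000000000000000000000000000000000000000000000000000000000000000000000000000000000000000000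
noncomputable def LKcc0Q (u : ℕ) : ℕ := Nat.land (Nat.shiftRight LKcc0Qd (Nat.mul u (nat_lit 2))) (nat_lit 3)
noncomputable def LKcc0 : Lev := ⟨4, 4, LKcc0D, LKcc0P, LKcc0Q⟩
noncomputable def LKtn2y358_W : List (List ℕ) := [[nat_lit 2, nat_lit 5, nat_lit 1, nat_lit 6, nat_lit 3, nat_lit 1, nat_lit 6, nat_lit 3, nat_lit 1, nat_lit 5, nat_lit 3, nat_lit 4, nat_lit 3, nat_lit 6, nat_lit 0, nat_lit 5, nat_lit 2],
  [nat_lit 0, nat_lit 2, nat_lit 5, nat_lit 3, nat_lit 1, nat_lit 6, nat_lit 3, nat_lit 1, nat_lit 3, nat_lit 6, nat_lit 3, nat_lit 5, nat_lit 2, nat_lit 0]]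
noncomputable def LKtn2y358_P : ℕ → ℕ → ℕ := wdsP H15.XCo2C.P LKtn2y358_W
noncomputable def LKtr3k_W : List (List ℕ) := [[nat_lit 2, nat_lit 3, nat_lit 4, nat_lit 3, nat_lit 5, nat_lit 6, nat_lit 2, nat_lit 4, nat_lit 3, nat_lit 4, nat_lit 5, nat_lit 1, nat_lit 3, nat_lit 1],
  [nat_lit 0, nat_lit 3, nat_lit 6, nat_lit 3, nat_lit 6, nat_lit 3, nat_lit 6, nat_lit 3, nat_lit 6]]
noncomputable def LKtr3k_P : ℕ → ℕ → ℕ := wdsP H15.XCo2C.P LKtr3k_W
noncomputable def LKtn3y4_W : List (List ℕ) := [[nat_lit 2, nat_lit 5, nat_lit 1, nat_lit 6, nat_lit 3, nat_lit 1, nat_lit 6, nat_lit 3, nat_lit 1, nat_lit 5, nat_lit 3, nat_lit 4, nat_lit 3, nat_lit 6, nat_lit 0, nat_lit 5, nat_lit 2],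
  [nat_lit 0, nat_lit 2, nat_lit 5, nat_lit 3, nat_lit 1, nat_lit 6, nat_lit 3, nat_lit 1, nat_lit 3, nat_lit 6, nat_lit 3, nat_lit 5, nat_lit 2, nat_lit 0]]
noncomputable def LKtn3y4_P : ℕ → ℕ → ℕ := wdsP H15.XCo2C.P LKtn3y4_W
noncomputable def LKtr4k_W : List (List ℕ) := [[nat_lit 0, nat_lit 3, nat_lit 6, nat_lit 3, nat_lit 6, nat_lit 3, nat_lit 6, nat_lit 3, nat_lit 6],
  [nat_lit 0, nat_lit 3, nat_lit 6, nat_lit 3, nat_lit 6, nat_lit 3, nat_lit 6, nat_lit 3, nat_lit 6]]
noncomputable def LKtr4k_P : ℕ → ℕ → ℕ := wdsP H15.XCo2C.P LKtr4k_W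
noncomputable def LKtn4Fd : ℕ := nat_lit 9
noncomputable def LKtn4F (u : ℕ) : ℕ := Nat.land (Nat.shiftRight LKtn4Fd (Nat.mul u (nat_lit 2))) (nat_lit 3)
noncomputable def LKtn4 : Nd := ⟨LKtn4F, (nat_lit 2), (nat_lit 2), [], [((nat_lit 0), []), ((nat_lit 1), [nat_lit 1])], []⟩
noncomputable def LKtn3Fd : ℕ := nat_lit 9
noncomputable def LKtn3F (u : ℕ) : ℕ := Nat.land (Nat.shiftRight LKtn3Fd (Nat.mul u (nat_lit 2))) (nat_lit 3)
noncomputable def LKtn3 : Nd := ⟨LKtn3F, (nat_lit 2), (nat_lit 2), [], [((nat_lit 0), []), ((nat_lit 0), [nat_lit 0])], [((nat_lit 4), LKtn3y4_W)]⟩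
noncomputable def LKtn2Fd : ℕ := nat_lit 0x11111111111111111111111111111116111111111111111111111111111111111111111111111111111b1111101111111111111111111111111111111116111111111111111111111011111111111111111111111111111111111117111111111111111111111601111111111111111111111111111111111111111111111110
noncomputable def LKtn2F (u : ℕ) : ℕ := Nat.land (Nat.shiftRight LKtn2Fd (Nat.mul u (nat_lit 4))) (nat_lit 15)
noncomputable def LKtn2 : Nd := ⟨LKtn2F, (nat_lit 4), (nat_lit 4), [[nat_lit 0, nat_lit 0],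
  [nat_lit 0]], [((nat_lit 0), []), ((nat_lit 0), [nat_lit 1]), ((nat_lit 0), [nat_lit 0]), ((nat_lit 0), [nat_lit 1, nat_lit 0]), ((nat_lit 0), [nat_lit 1, nat_lit 0, nat_lit 0])], [((nat_lit 358), LKtn2y358_W)]⟩
noncomputable def LKY_W : List (List ℕ) := [[nat_lit 0],
  [nat_lit 2, nat_lit 3, nat_lit 2, nat_lit 7, nat_lit 4, nat_lit 2, nat_lit 3, nat_lit 7, nat_lit 4],
  [nat_lit 2, nat_lit 4, nat_lit 2, nat_lit 7, nat_lit 4, nat_lit 2, nat_lit 3, nat_lit 7, nat_lit 3],
  [nat_lit 1]]
noncomputable def LKY_P : ℕ → ℕ → ℕ := wdsP J_P LKY_W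
noncomputable def LK : List (List ℕ) := [[],
  [nat_lit 0],
  [nat_lit 2, nat_lit 3, nat_lit 2, nat_lit 7, nat_lit 4, nat_lit 2, nat_lit 3, nat_lit 7, nat_lit 4],
  [nat_lit 2, nat_lit 4, nat_lit 2, nat_lit 7, nat_lit 4, nat_lit 2, nat_lit 3, nat_lit 7, nat_lit 3],
  [nat_lit 1],
  [nat_lit 0, nat_lit 2, nat_lit 3, nat_lit 2, nat_lit 7, nat_lit 4, nat_lit 2, nat_lit 3, nat_lit 7, nat_lit 4],
  [nat_lit 0, nat_lit 2, nat_lit 4, nat_lit 2, nat_lit 7, nat_lit 4, nat_lit 2, nat_lit 3, nat_lit 7, nat_lit 3],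
  [nat_lit 0, nat_lit 1],
  [nat_lit 0, nat_lit 1, nat_lit 5, nat_lit 7, nat_lit 3, nat_lit 2, nat_lit 4, nat_lit 6, nat_lit 7],
  [nat_lit 1, nat_lit 2, nat_lit 3, nat_lit 2, nat_lit 7, nat_lit 4, nat_lit 2, nat_lit 3, nat_lit 7, nat_lit 4],
  [nat_lit 1, nat_lit 2, nat_lit 4, nat_lit 2, nat_lit 7, nat_lit 4, nat_lit 2, nat_lit 3, nat_lit 7, nat_lit 3],
  [nat_lit 1, nat_lit 5, nat_lit 7, nat_lit 3, nat_lit 2, nat_lit 4, nat_lit 6, nat_lit 7],
  [nat_lit 0, nat_lit 1, nat_lit 2, nat_lit 3, nat_lit 2, nat_lit 7, nat_lit 4, nat_lit 2, nat_lit 3, nat_lit 7, nat_lit 4],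
  [nat_lit 0, nat_lit 1, nat_lit 2, nat_lit 4, nat_lit 2, nat_lit 7, nat_lit 4, nat_lit 2, nat_lit 3, nat_lit 7, nat_lit 3],
  [nat_lit 0, nat_lit 5, nat_lit 7, nat_lit 3, nat_lit 2, nat_lit 4, nat_lit 6, nat_lit 7],
  [nat_lit 5, nat_lit 7, nat_lit 3, nat_lit 2, nat_lit 4, nat_lit 6, nat_lit 7]]
noncomputable def LKTd : List ℕ := [nat_lit 0xefa98dcb43276501,
  nat_lit 0xdaf76e43cb198052,
  nat_lit 0xc97f54e2d1ba0863,
  nat_lit 0xb865f32e1dc0a974]
noncomputable def LKT (k u : ℕ) : ℕ := Nat.land (Nat.shiftRight (nth (nat_lit 0) LKTd k) (Nat.mul u (nat_lit 4))) (nat_lit 15)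
noncomputable def LRX_W : List (List ℕ) := [[nat_lit 0, nat_lit 3, nat_lit 7, nat_lit 8, nat_lit 4, nat_lit 7, nat_lit 3, nat_lit 2, nat_lit 8, nat_lit 1, nat_lit 4],
  [nat_lit 0, nat_lit 8, nat_lit 1, nat_lit 2, nat_lit 5, nat_lit 8, nat_lit 5, nat_lit 4]]
noncomputable def LRX_Pd0 : BT := (.node (.node (.node (.node (.leaf (nat_lit 0x54f05379b5b64658e437805b26f4952682ed35c1246ff6ce02234780385102946c56b3532291d681f0e452b6cd5a23d629352489f01f6be8b151a7d371c3681097ac8af76c2cb1cb80d36c8e74ea81456101a3127478542910333e75712bb8960275a732e83d8d63c730551434c83b5381f585e5a05642d776779f5a16766fc8dc59b0182f201022f0b85fd27535840f5134560340004b90a945c68e2c800738d5652d333852240a39801c18c2666f652006745151172f08570767f5c06c20377182973e202e2172584505aa6db4b476552a2a77a286a3023f306e88d5b363502631038f6297ab07f4ef52777c1804f208061264450421987e40936f14806316b5353c242905132a0136c04066ea7fd04a48108e04408183035d0992f16111de1b54ca6470bf2222b215a0d705f53715c4fa52d4553c33b554c3d150551502b00377844a03c69e31c5bb3bf86c4d34e260a01113304815226e67053c5930c303e65b3b95456ee4d24ad07a86743900b04b21104d5974c71b60588194da1eb85f))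 (.leaf (nat_lit 0x7a62448a961c2b71a02ad81c5411786577a07701db2246fd7a58252e37d87fe79560c7ee4a864c4f76ab1704708438c824d27289c0364ee2e13a92e41f308a51f46f5667b428480f6fe0200f90aa5cd35b18d5cc12d2d65696ca6cc27628123f81e40b50f47a3077bf11a5b74315b22bd11c7e40be2c76b41c746a84b14629f8933466844bd8bd3e34222ba8ec1da7627448086267947527c526513965147e3156946883be4a00e24b30571537a781142b7bb0e98667b811935a5e24e83927b174d74a4ac5dd5ea8862b61a10e88060b55474323f95590ef3a07891cc8c444d4300b04a124380c28d7a409c77b7fc41411e2dc0d512e77428526b23c27908d7ca2962db11f8e20c88f97800ee2577de09b09142f5980f28414a21c67845831795783fa49262049b42507941d14234014441c5a512c22e6c467d5b114c69b30030e5305e031d6d764d26021576e4a649681d84402a3672cd8b02f349f60550238863f5ff1e754323256246872d6085f15d07c40234ab6a40e7521))) (.leaf (nat_lit 0x700db8f376906009d09e0ca2af8075d82034f34fb68d33e5eb4de3236a851e5d413b05a50912f2a061b2108ca4fc2957be8d77553f559974635f4ec7d11e108279840e0a67164d05ec0d413e6280320155000352782e97d08aa70c8274c18a059e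8ac16866564182c8468e51558b816a10746141511b10c86f3c66ad7680ed09073073a18881b6491868537e012306d0cb66762704e56c09f54d0735288f42508928027f61c91dc75d82623a7e27d727d23023b2f52b97ba3048c18586f11430e64944f10f11d84b66bc85a22a39c6778ce3414eb28225b7dc73587c2312204c478176d7512121d729b45d70888b20919a2041c50433d06df4166ac0fc4f94cb5a407741e1bd8352b485700d1911595cb2334e550c3097531720626a531316e6ec26d5904c34881b718732469215d87b05e2f44af1bf88381a65f3bb57c8764803691751ee7c230322b1a84c08e04ed3b265c29d0453d210b42757f38170e2835170053a750e55d7040210924891ff4aa6b94541a900883240436537a5a63f0))) (.node (.leaf (nat_lit 0x55a8f05c46438691064848294c924b2136141586f474382f0b25292284d710f6835d363d09438c5263552d22270bb78a4402ee63a47875916207441a8652a21dd4cd7838e97fa62a7d63e038e2cc64a1418ee1836798184452aa4698d10867281e23320da67e3a30dd66d65358075c1fd3f70b76c771742e8e14ae53376f89b66a48f6f74982457f75d90d28c201444813d17183437f3c47ea88244634e5d56c600937515b53131e71e11272710445e42875a58f44940758b71a4b27398a260f78c6c11218f619f2534a30065c11167066f96005e52711e67400c95074246156ba50610e5366af12838a8f832c0013dd61749e32885b8de5391d300e6de8f267b6375553e92a40f633c2eb58764f51244b3978ab5ae0663d47e65fb14b61d02d3e559d1a20c643b59a0b14f53822a84dd1c22878620ea40c1a779060b74126c6308010f469f2266095e136e5730956d55b04900bd5b41d55320f88cf6697380e56a74871932946d11d93760f086d6346cf3a569d07269083e28b5967b6444701))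 (.leaf (nat_lit 0x47c19d89e6e05c61271998802363487000a702c5af0495e641101e5f672273335e7d92ea35026a01203f89073e45b0ab13884872006f45318502540361681046b5bf1a32d04e375e5dc20d88c5e41fc3c13df60e03a4e08384ba17404664849c6bf4fe45f3087b56e60596b81a651d05d4be6963cb51c31108c40200f39b4213575c54d87b02777254938601af5345be2e206a31766f10880b6cb0ba7427b729a6e321b3868c35033635d747d68c6812bc8a472380e1df6d46896e872e55308368068a5e962d1e56668ad0c77601d030a0fd6b257552f7371326a24861738212c407b10d25e7e139a3c960d4a514a1632b01ba0754522a183340158d1f91f08b265412656a8a66521ec41266b84d7ff0d166227e62275f6326b51f627b3a26406d61cf7f51c420f3966a97f97cb44c3ab5c97217316314773293bc6248002b56d20891f233a3ad11067c3ba03d3b86c53b46d33ce2633b679282423d3208228554332b14343257631455c83624b83260dc3c089a31b2fd39053f3fe3aa3353ae)))) (.node (.node (.leaf (nat_lit 0x8ba8ef62b6997753368f11771f72fc37230c1024cc7615ed18441958a24c26171b3b05ac68753b2556028985bd1115ee70932f3e421e2c95ca63b3de0fb47f6934d11564e68310ac55e7cd5f32fb16714714d1a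c2483d846378636b37041748b8b334f0881a56581902904dc7324136e41b457b70a3452e066e28907d70f7f34d42867110a534b7dd6bb61e61875427c6421158cb19c0246bd2748b65500611ab70d4660d663665e0f339d7148523ff4c521c36d00c31936a38709733b34a1962493ed79a46717e4103ec25613617628a5677b92017e937b41f2df01d4003797192698a30d06a03e66e955c59f24f6b68b985d1574c871237e24a81543625970261f5db7f88784970ae5f84912f857977725288a1403db2801d142a65a7e71ca57e2d48a728e77e6fb10345a8b41f87a90d916d69c3063221d24826915a32021f47fb8953a42b83b784286441848a4d93f425c19481673b3a87c38882ff8be7b22d15d113c4d67f224e0f550b33d2d873685982807658c27f5238948d31138b7)) (.leaf (nat_lit 0x8cc6f55491ea8636828e677a5f75f088e06873f32d4f66ed1e05ef65678e06437182b56e8703918da8bf82357a8ed6190a179c15120a8892642512380982628500cc4c641b10187264b34274986802889d20b6c812913a63960623e39e6a64d56851662bf5bc19b1307e32c01374574db18974b65553d5463f271028f3336eb3f67bd7568ae6592f040882e3893a12ef2da3fd5c321609a48d5b58dd0964f43210ff78f59243d59152c8851bb2fa8563498a16468db7873c58a50bc0690ce8f71223d961036479e87f2420b62e62677850d803b70571d87a6b137487d8378846504834626c32182e723931f69a4f86012e563e17a6607cc11720c18e4e76e727a2be68b8915513fb5940b93597998fb8120a38975e721f6e57ce0cf1f14fd72a71f80582a0a82708c63ca8718d85767453eb8f53cf0c58ea7f05630c42887662d92de15005655f30f7af28c84562c8d22c247216056f38313486e3b185c2a56f30a449a2f67762cf15f6ef7ae73c6684265575a843e16924033720654a3ee2f7)))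 (.node (.leaf (nat_lit 0x3fc7724bf18b1977ed51947644f0781b884e6dc6f26e216c1357d217b83c6a157214954401676a8bc2d55891ad25d3d77f447b8207b38a867513f83f2ce7f15952a66385d207c6e121a2415ce47367325a3951be6982ae3184647150fe8c02258045f53bd38b7a334304f32b7c64e437d15484716f7c77d41fa2738993ac06b1e47c18b564e7c94606fa0c14bb0ad78b22c7965583f84584bc77377117f2dd6641fb78256d6f08135f481722157762e5da0e18871ef4372ac46e7da7aa1c16d035103903037c8df6ae0558c97133610df5e83730b487723400470b4a758175b6da0521922c66b06d842c7df66320e36012004c04718f53a6f84995df7e56dd8d47eb87343829c5563c807e4852b36b730b1ed08b84958474f3446233cd3cc4054a97974b01617bc49d31640d05c3af5603a61e85548eb1b204021d7915d662131a74c3e18e822d0413524205ba3d525f52e1b95e36d977f0504a458520830d55210a77d84c36658275048e33912a1813da29847910076454e2f98364ff0af4c2)) (.leaf (nat_lit 0x5cf0cd00a15e5c71143d301b5168392e86c91956250e06717ef0fa83a4df78869529e6332ca8fa6aa0d372478d67a84068f3b31bc8d039351b1643271c05107d51e95745012ec18a5403e87a179d2540ec33417d5181250c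053e88150a8d53dc1987ec75718258e34d66c2996b312b1a44747c019e46d2140de72684a4ce2462373ef80911854b3316a342d2071ce2fe14f1b355b7486747c802f1aa4f05c25f91e37937295f282d0174cf48c10586b1b007135473d63c6722050937db2c37ad6074e94414430b314e6970eb66108739444e73460308f1fe3858bb80a2a376b1654e18793010e365d13157d8d95424755883802a98751c31ae84f3775a95082358742c554817c5251b120043562f06c5708c75de6780020542ab04277939f0f71cd3f15864474b18e347159c0193143843995ab43a64533f2c15fa7a872c0847cf61a5b886150d4425b988f43f7e83566045ad0c20385fc8cd4b50656131d40318c57582924232471c845911d43c22333068656872b0a23ea0a07034b774e5fe)))))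
noncomputable def LRX_Pd1 : BT := (.node (.node (.node (.node (.leaf (nat_lit 0x1b20b86178ab2ab00f4035247ca13d0202ed2670830aa2908b55da02c02f2576417c127202e7f70b58000ee2415d13d049c03f4112e45dc0863322746086a153b7c75f427872e0a022575c0730302ae1ac2af24202527776f7800b15707de0907db8f420881313c5e910c4ed5ee69c4bd7c32400a16a056021b0b73a75637361672228746930454528b75c927b44844554f39b6967090ba84d57774226266482224853c65645086041755855e8176fe0da4a231e3113578575c51958a46cb24422123f43781e63b83f87e4aa4553172b41f539e86a4df6f738f04b50e0c388e2d28194ae4da4d78473953f529a32d3903e055352a2d801014632414751b68f8df17079b50360d47859e6c986e74e88006b1a311075e5334dc3620665a618a7557a207f3428725377658ed35414a58a14d59658d57c4bb75127f0994f04311fb5824d85344fd88231b35c7210750e778678f3df18566654c79433e0210802178fb4f63c07828e685f7bf0627887b87b506e7aa0682f10147988e407b7a97d57be)) (.leaf (nat_lit 0x7580377cd7d44207e98c10760fb1347d62a88250ad2387a344b78b2dd7cb7967f42bf2b67b72c327e0fc6b929d01b2a07f12d610f21e8fa7d166747c7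2b1ea89543e3ef81280480f7035f16d86ea5e84fe7312711f20db3a82360a226a3f78030a742f48a69b51436c03a8d65155c08cb51825d20f12250f44734c66852223b7e72517dc22f10937a5085fb44c3ee6594674b563550b17782a5f53c82ca7af4708423485fa16015781b1ca6c662a81143922c22d24658425243f5ba4877f52015127480b025374b3dd42c0c543282028942e6e31cf45703e3f35900f544e6df50a23371728d7fa0b248e81f4f40318665f30508b250c86877383c23c6191832ea5290525b460324f71142956633064f6468910a52860e86313474b743d3e813a4f11c96bc26d82c41e83531526c0d350581a4cc6241ae49b1310c01b758c6fb30931668338428144082165a43057d81d69d83e1974272c00d21007bd46a3727607e05ff5fe3f88092351051f61385cf17c7c47c642851153186f))) (.leaf (nat_lit 0xae3538af44970585e8eb89a38d46f3da0c70ac0e266f3290960f18d90eb79c64d8d884526f87186364e7f011b54986d1a770167984639163f3cb6e28543508b070607c4151560f00c41ec04e89b8758d01d984e8a91421828f02260b42347d03335e157b80e46c3734245446a231336836e70b0723b13811ab62145960155b8961e832a67b5503b517e79a2563b00d81366378f27cc1b48b63ed6e922355d7ea7df7727fd4c88b91af0787a02587c526b0356958de19077a15b10d2955213751d322b75d43476110828f09d02d8f87c22315b180224b4e86476761d053f7a415f34979932c3c78e97893513cd6692078f506949a0a82063eb28c63a4828064ec85b0574254d005a8160855403be5480d70a33555db53d05e82800e22731d8523141e30f870c6a54c28f331283b05d4714a059a8da79d3010710893ad36a1cd1bf46013e0828b45264cf2aa54d7757791f00e041d58774305387d69a3256d42452ac7205a17b25855938873457b03635aa3213271528ef32688517137f5801dd)))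 (.node (.leaf (nat_lit 0x1921ed3353b72ad46e49685d2924fa0915ef32063889c3967fb3f28056f43d23cf3d665b20c47522e3d70bf3991d58dd3b86775d674c8441dc1625924fc1ba57f07e8834086eb2c91e97048cd8cc3bb6293b68971f110e05f30f4931286451275de84971462c4c76125e561a5974ad2646c183d1ce3fc8cf6993a07187671f80d48564697164b91d46281ee39d7130d066e36555258613947d40648b5c33d34213984cd5284263782765c801f09f4a629305b69887984348c6fa5917470e11e55986d760420d34b20e5b00c15d535a50d51d65368a5cc45f4e719a81852788100a5722fb16a1e489982e1da6497302f05d706f4657858340fa4dd1ad46362b67233979136624a0b60c83c921963c1d10e93975b670817321288d6810555bd87b56728a6275b76923e95646b542247440037086539a4723fa4d237433433b27a67029653e0f643c26117931887a84b34174061588b1890bb82429b6d634d21447e2303db8db39f4e349775938076b5c467e36148405616537687728232331f181)) (.leaf (nat_lit 0x7276323ab7f603b8d32c56e03ea3ac38e2292971122b95b289f1744be71e1e75c71e15091ef72232b75a6d31338306ba0d629c00583205870a62f45111a62d4467da1242d028b8c967f66312119f2c449034e5c16551533b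356c0df4193b44ab6bf8906486f816130814b6e664286115d73231c45d46115e1f30774534ea4e018d3bf01d21c2e149530240a5785610be70208d81c6604447fe7a628300777b2850f229107d1d70330003c24423cc20053a5e65fc5b80633f15690f751f34a4814af61e3d461801208e2d56070184f36b40425135413102038a744320a3d10cc00652f86963e18e6f55040515a540f1558706940465381a84e605c3697d217b5ce6266093af1351fa2708888a503675026575244f0d583308a50208427526973354782f1cc0ef6713f970045c2e36fd04a5fd70772f8410b36306d25e701c51a4e41785d00d968204812c7a70225d45251e635b2da0131184bf78a7662f301a06016930c57430556f40575408877649e06d2b87eb0347694f277e14c6334e1123)))) (.node (.node (.leaf (nat_lit 0x12f03c1a26c75596501f43313bd71a4f550186229916408f5c286c59b63d89d52033f6006652472606390c93c30cd6051ff5561d60a93ba6575b33d986b1d85175625421bc32287c56b76c3405075a053959c44a5657341485a24c94c131937c01e5cd27c34f0de6250f96e471d6cc45b83716873e33827972509c1c68088c241321a6f08783565dd00b66d5f75af35d7261996aa19c55a11335e16d15056e6f172855f71c8d168044d8c671b09e51029483a6918760096db5511fe1860dd1df2490b96e80cb74121d59f74674473559d3e57f946d1a00594998864d90e65792ff1e28947243e755516c69f5717456ef0743002fe40c0168c081441a8552c748f26e2e776d40b23943302a11f2b384c2ce64c25a67325b49f77f23e2e51fd4023878bc3d838c8ce8291d200d2ee5d91418a610443b41c4776903944545543372732432cb6af2cf3aa2a22b12a530a77815c2541252b264b2c664441286710a7e62cd4e20c625987325f39261f3b22eb6fc0151064b44411a970e65c70d83810b))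 (.leaf (nat_lit 0x2cc10228719d01764a0ed3fb8108e265409766b09b24c0ea5c67810920e509875b76a4b223d42365e6b777d31a4b87c88dc43a79e7e10948937e47fc7620274142552880a485902611c68421577418f12676876e4e58ac19420b79541828e0957ee71260c3d50ca6787777e80938e07ff4912046162987f88018074792634bc2203e10415f80642df8c30024db38b8d75d84a10117380394eb5ae53212b4a853584804c69784f06115140d58852e2e26141401802090ce32e7c974a5ea88a2024d66e717a8a176401940955c2de7cf30d6610874365f64c41668364b14ba1596523776c548049d12e5004b63f002460674925c21078d17503873c4864a313f2e98405df8a80404850044c03dc5461c46cd4ac06a67c55745827d1eb1de0085cb8aa22847304366a7f36da5f213b70f33c0f389817d1373936101765ec1b82b05f02ec4b30a66582a178e03207967a8b11914e97533714cb65f69e65d40e2a72d44ef6a879715a3b95734ee1aa8894d54d30ec40471007085a5d25d34ff39c45e))) (.node (.leaf (nat_lit 0x3fd48d1f98f18ae21600c3ff4ce1c01b36a78847833838e733a79233d7ce53658354a37e6b11bb5f918458107a34612942a80b8e874f2130bc3de7ef19e7ec37982d7ab8f70af49478c7b46227d736478741b78458f2a41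c37901497b68e554323242d1f73a18ec3bc0cf60f26634354546254b3828a261333618b63608b89e7a818c06561b73f52d5ab1fc61d1db75723747b0e480d8ea80c77c7bb7937d868e02b5a97a156879f1870230817b98ee0677ac2d37d958b2f217219835941f04435f09a45646b0540ff37b6d03a367d8b31a56c48276d11c258914e3285947636ad2db4f86896ca6ce6858920477dd8e35bf5b98f61177f26b87bc68b7231a611519b2bc16b6ae1117ad1437ba2f87ae6f971f6882b542b7563446235b568c5304766b358e6bb1c15a31455a80fd56a2d718812a21816e6b257e0038c78d560b87f73a2804f97a57b35bc24e3601a42b782329e7b114474d1308a05a706c5a42f58be2fa5952f44103893f63a90012ef3ce30e49215852c4c536b46471585c3fe)) (.leaf (nat_lit 0x26832f8396a47d308c60e1b04d10ab6206c06be0498a35be7e236f4891b57192a91b96432be6b62c111e35868d6cf6511966bd75f1016e56de47f36d6a34a904f5ca4de8648bb5ed1c85064836c325e80a3c65e073b6026d50f43c16c86ac21112084a7704a41b10bd66c4a543567435223a4b07e35e37ed4666dd24d4f785077152b28462e4ca6628260d11938e14fb51e4c66ee6755eb2e04688bf6d98ad6f32e817f61c8ba2a68c86e13e285157540730672a0292bb3a66861a12c81193c47376ed47a16383151c8151c50dc1e06ab8c41322d961104d3852e621f5998581036342fd6f238a8ca3a52f70fe4986a682b1bd29f4161073031be56d37d16f5163888d46dc12d1547c02ba2f67393c53ec3e63a22dc0e34384a740130754e8535195233e31c73675e222a3f457a6ec8b84882fc14f8d23ae2bd2c23a472c11d5bb5ac68730b1b625060a7e55ad2d15e40c211688c02888f6a957603d7293e42246f66c22f92a38bd45a3ca72d4c330473d2058f91144d46b01cb8c53866ff640)))))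
noncomputable def LRX_Pd : List BT := [LRX_Pd0, LRX_Pd1]
noncomputable def LRX_P (k u : ℕ) : ℕ := force (Nat.shiftRight u (nat_lit 8)) fun j => Nat.land (Nat.shiftRight ((nth (BT.leaf (nat_lit 0)) LRX_Pd k).get j) (Nat.mul (Nat.land u (nat_lit 255)) (nat_lit 12))) (nat_lit 4095)
noncomputable def LRth_W : List (List ℕ) := [[nat_lit 0, nat_lit 3, nat_lit 6, nat_lit 3, nat_lit 6, nat_lit 3, nat_lit 6, nat_lit 3, nat_lit 6],
  [nat_lit 5, nat_lit 3, nat_lit 1, nat_lit 4, nat_lit 5, nat_lit 3, nat_lit 6, nat_lit 3, nat_lit 4, nat_lit 5, nat_lit 1, nat_lit 3, nat_lit 5],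
  [nat_lit 4, nat_lit 5, nat_lit 3, nat_lit 4, nat_lit 3, nat_lit 5],
  [nat_lit 2, nat_lit 1, nat_lit 4, nat_lit 6, nat_lit 2, nat_lit 0, nat_lit 4, nat_lit 5, nat_lit 6, nat_lit 2, nat_lit 4, nat_lit 3, nat_lit 6, nat_lit 5],
  [nat_lit 4, nat_lit 3, nat_lit 6, nat_lit 2, nat_lit 0, nat_lit 1, nat_lit 5, nat_lit 1, nat_lit 5, nat_lit 6, nat_lit 3, nat_lit 1, nat_lit 3, nat_lit 5],
  [nat_lit 2, nat_lit 3, nat_lit 6, nat_lit 3, nat_lit 6, nat_lit 3, nat_lit 2],
  [nat_lit 2, nat_lit 3, nat_lit 5, nat_lit 6, nat_lit 3, nat_lit 5, nat_lit 0, nat_lit 2, nat_lit 6, nat_lit 2, nat_lit 6, nat_lit 1],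
  [nat_lit 0],
  [nat_lit 0, nat_lit 3, nat_lit 4, nat_lit 5, nat_lit 1, nat_lit 2, nat_lit 5, nat_lit 6, nat_lit 2, nat_lit 3, nat_lit 5, nat_lit 3, nat_lit 4, nat_lit 0],
  [nat_lit 1],
  [nat_lit 2],
  [nat_lit 3],
  [nat_lit 4],
  [nat_lit 5],
  [nat_lit 6],
  [nat_lit 1, nat_lit 6, nat_lit 3, nat_lit 4, nat_lit 5, nat_lit 0, nat_lit 3, nat_lit 6, nat_lit 3, nat_lit 1, nat_lit 5, nat_lit 3, nat_lit 2, nat_lit 4]]
noncomputable def LRth_P : ℕ → ℕ → ℕ := wdsP H15.XCo2C.P LRth_W
noncomputable def LRtl0Dd : ℕ := nat_lit 0xecddbb6f5de9625485d0ad09cddcdbcdacadcc9c7ab2ecc7c49b7bafdc87b8ab1baada1ec47c27a2d9be9aeb19a6b9dd9cdb1799b99a8ae8cd8bda9788e8cb8bb2b506189b89987b86e02687782d7be81b7dd7cd77e76e7dc79d78d77d75d8197ab76c73d6de6ce68e83774b6ed65e81773b6fb65d63d5ae70a5ed56e55e7396ea66a63b60b4fe4ce6995fa57b55c51d4ed4ae73763955b4ad48e5d95c959945e4bb63762752948c4ba59748b4b90e548a4b74591720f209242940d41b3ed3dd3fb35e40a3db3cb31e4093f93ea3bb39b2ce39a33b29e26e24e3f733a30b2fb2ec27d26d25d21e35932a2fa22d1fd1ee1de3b72aa24b23c1dd1cd1ae19e3572c92b91bd18d28927924922a1eb19c05521919b2471aa19a2171b91a902214e17b15d16b15c10e16a11d0ee0de0ce0be0ed0dd0ae10b0ec0dc09e0fa0eb09d08d07e1090ea0ab09c08c07d0d90b90aa09b07c10709a07b0d70b709907a05e04e06b04d03d02e03c02d01e05904a02c01d01c05703902900e00d00c00b00a009000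
noncomputable def LRtl0D (u : ℕ) : ℕ := Nat.land (Nat.shiftRight LRtl0Dd (Nat.mul u (nat_lit 12))) (nat_lit 4095)
noncomputable def LRtl0Pd : ℕ := nat_lit 0x1ca5817b687573d5502b66d488a5d22236b205c70e55d32006c21d0580968e421068e12b4ed51c73e1041481c581920889c7636ad06928c8f70773041580296974630764970537f04593378486b14b45044530ff52833032338337125f6db48541b3fb19777845d29236b14765975c10f7da57d0bd4ad0fd1d937f4b35893e767166436e6d14024168a15d769d58575b36c20f1b28154d85a636449a35f06441a70a6e28d90425977628ae3c28b609871267342088b6ae07b3cb4d97ba20424e6a02575bf17a7ee0eb35128b31774b5b310015077a4962f725a42c6741c337a0572f18b741013312063b7791075941980be2eb81b7bf58600381c6854844ef14e5f82f93186102025822d83f158078751b0164612f300f57c52f5002b736a79b53915b32e0fe45e01d3953c974370b21702a14074200436f16d0a45be6a887723954f3103e38f44016de3d21853ca4c94ec56f00751334d1664e303210b3075145a76da09f3c56174a60fa29c0ce0c35ea66981d5640b15eb5234cb4550b8592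
noncomputable def LRtl0P (u : ℕ) : ℕ := Nat.land (Nat.shiftRight LRtl0Pd (Nat.mul u (nat_lit 12))) (nat_lit 4095)
noncomputable def LRtl0Qd : BT := (.node (.node (.node (.leaf (nat_lit 0xaf0000000000000000000000000000ff00000000e2006c000000000000000000000000000000009d0000000000000000000000000000000000000000000000000060bd000000000000000000000000000000000022000000000000000000007c0000000000000000000000002f0000000000001a000000000000000000003e0000d7000000000000007300550000000000e3b8000000000000330000000000000000000000006600000000000000e8000000000000000000006500000000000000000000000000000000b500000017000000620000e400000074c83cb000000e00000000000000000000000000007a000000000000000000000000000000000000000000000000000000000c000000000000000000000b000000005fb20000000001000000000000060000000000000000000000002e00000000120000000000008b00ec000000000000000000000000000000000000000000000000000085000000d9d3000000000000000000ef0000dc000000009600000000000000f3000000ed6a000000d10000000000000000000000000000000091000000000000000000000000000000180000000000000034d600000000000000000000003a0000000000004900000000000046000000000000001d0000315a000000))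 (.leaf (nat_lit 0xda000026000000000000000000000000000000eb0000000000000000000092000000000000000000000000000000000000000000000000000000000000000000688c000000000000008e000000000000000000000000a400000000df0000000000000000000000000000000087f70000000000000000000000000000000000002b00fc0000000000000000000000000000000000000000000000000000000000000000000000000000000000000000cd00000000000000000000000000000000000000000000000000000000000000000000000000000000000008595d00e10000009c000000000000000000000000000000000000000000))) (.leaf (nat_lit 0x54000000000000000000000000050a000000000000000000000000000000000000a300000000f60000000000000000000000000000000000007d2d00000000000000000000750000000000000000000000149a00000000000000000000000000009000006100000000000000000000ac00005ba100004ffe4c0000b3450000000000000000000000001e0000000000000000000007000000000000f1000000000000000000000000fa290000000000000000000000000000000000000000003f00000000000000000044000000000000c70000000004000000000000e64a0000000000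00151c0000000000000000000000000000ca00000043000000000000000000000000000000005600e71f000000000000000019000000000000000000839b0000000000000000000000000300200000000000000000000000000000000000000000cbad0000000000b10000000000000f0000000000000000000000980000d27100000000000000000000000000000000c0570000000000000000000000000000000000000000000000000000000000000000d4004800003bbb000000cf0000000200c900000000000000000000000000000000000000000000000000000000000000000000000000006e00000000000000000000008800000000bf95000000a500000000006700000000000000000000000000a62500))) (.node (.leaf (nat_lit 0xbe0000000000000000004d000000000000000000ab0000002700000000000000000000000000000000230000000000008421380000001100008d0000000000000000000000000000000000000000000000000000000000000000000000000000000000000000390000000000000000000000000000000000c4000000ae000000006b0000000000000000c30030a8009fb941000000000099000000009700000000000000000000000000790000001b000000000000000000000000000000000000000000ce000000000000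c6003d00000000000000000000c50000f0000000000000005277000000000000280000000000000000160000d80000000000000000000053007000000047006900000000005e0000000000000000000000000000000000004e000000000000000000000000000000000000000000000000000000000000000042f9000000000000000000000000000000000000000000000000000d000000000000000000ba0000000000db7800000000000000000000000000000000000000000000000000000000000000000000000000000000000000c2000000006f00007e00000000000000008000000000000000000000000000000000000000002a000000000000000000000000000000000000000000f50000000000ee000000000035000000000000ea9e000000000000e00000008100500000)) (.leaf (nat_lit 0xd0007b00000000000000000000000000000000000000b400000000000000000000000000000000000000000000000000005c0000000082000000fd000000000000000000000000000000000000000000000000000040000000000000000000000000000000000000004b0000000000000000000000007263bc0000000000000000000000000000000000000000de8f0000000000b6a000000000000000000000000000000076000000000000003732000000e5fb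0000000000000000000000000000000000000000000000000000000000000000000000000000000000008a000000f20000369400000000000000000000000000000000000000000000000000000000000000000000000000000093000000240000c1130000000000f80000a7000000000000000000000000000000000000000000000000000000000000f4cc000086dd000000002c000000000000007f0000a20000000000d50000000000000000e9000000000000000058000000000000000000000000000000006d8900aa000000000000000900000000a900000000000000000000b70000000000000000000000000000000000000000000000000000000000640000000000000000000000000000000000000000000000000000000000000000000000100000000000005100000000000000000000000000000000))))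
noncomputable def LRtl0Q (u : ℕ) : ℕ := force (Nat.shiftRight u (nat_lit 9)) fun j => Nat.land (Nat.shiftRight (LRtl0Qd.get j) (Nat.mul (Nat.land u (nat_lit 511)) (nat_lit 8))) (nat_lit 255)
noncomputable def LRtl0 : Lev := ⟨256, 16, LRtl0D, LRtl0P, LRtl0Q⟩
noncomputable def LRtl1Dd : ℕ := nat_lit 0x8af4afdeb152a60b00f031f6777d9a23dcd7117f5b552614aca3d6a2a09f25a6b98a59941611ad4644c67198558f92b8b2234647f191e4210473b0cb1a5c915c420f8e3308da3219313840575542e4b029c9e0f0954e48c478ad2911540c920b8fa09cf120c7a08c2507c56358800685c13416054210eca0104180e07c1cc6a0bc611603d0441d05c0d0300a03c08088190380b01c00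
noncomputable def LRtl1D (u : ℕ) : ℕ := Nat.land (Nat.shiftRight LRtl1Dd (Nat.mul u (nat_lit 10))) (nat_lit 1023)
noncomputable def LRtl1Pd : ℕ := nat_lit 0x425f82044012f15811ca10f45e0c37435a624e28b4632eb36c13345d75c06c2b614016634d25706951b3fb29c8776590984960ce41a02a14821077919788a8486d10be7ba7da20888b0eb3234b38194205d78ae3105828e46e269d6a03513c27bf8b67ee70e16d41676381c0534e338300314774b6ad4855ea5b33e737102910b45977a4ad0fa57d4ed31737f3e38f477814e05700f6de1c55a70167421986104618755be3f18a15890fe01d5502d868e73e697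
noncomputable def LRtl1P (u : ℕ) : ℕ := Nat.land (Nat.shiftRight LRtl1Pd (Nat.mul u (nat_lit 12))) (nat_lit 4095)
noncomputable def LRtl1Qd : BT := (.node (.node (.node (.leaf (nat_lit 0x1c400000009000000000000000000000000000000000000000000000000000000000000000000000000000000e9e00000000000000000000000000000000000000000000000000000000000000000000000198000000000180000000000000000000000000000000000000000058000000005256000000000061000000000000000000000cc0000000000000000000000000000000000000000000000000000000000000e000000440000000000000000000001800000780000000000000000000000008c00000000000000000000000000000000000000000000000015400000000000000000dc00000012c000000000000000000000000000000000000000000000000000000000000000057000000000000000000000000000000000000000000000000000000000000000000000000000630002e8000000000000000000000000000002a000005e0000000000000000000000000001dc00000000000000000000000000000000000000014d1800000000000000000002800000000004000000000002800000000000000000005800000))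 (.leaf (nat_lit 0x18000000000000000000000000003d0000000000000000000000000000000000000000000000000000000000000000000000000000000d800000000000100000000000000000000000400000000000000000000000000000000000008f380000000000000000000000000000000b2005800000000000000000000000000000000000000000000000000000000000000000000000000004d000000000000000000000000000000000000000000000000000000000000000000000000000300002180000000000000000000000000000000000000000000))) (.leaf (nat_lit 0x76000000000000000000000009c00000000000000000000000000000008200000000000000000000000000000000000000000028000000000000000004c000000000000000000023b00000000000000000000000000000000000000000000000000380000000000fb9000000e80000000000000000000000000000000000000000000000000000000000000000000000000000040000000000000000000000000000000000000000000000000000000000000000000000000000000000000000000b80000000000000000000000000000000000000000000000000000000000000000000000000000000e00000000000000005c000000000000000000000000000000000000000000000000000000000000000000000000000000000088000000000f80000000000000000000000000000000000000158000000000000000000000000000140000000000000000000000000000000000000000000000000000000000d20060001bf2800001080000000000000000000000000000000000000000000000000000000000000000000000000000000000000000000000000420000000015000000c800000000000000000000000000000000003a00)))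 (.node (.leaf (nat_lit 0xb60000000000000000480000000000000004a000003200000000000000000000000000000000000000000000000000000000e00000000000000000000000000000000000000000000000000000000000000000000000000000000000000000000000000000000000005a00000340000000000000000000000120000000670000000000000000000000000000000000000000000001c800002f8000000000000000000000000000000000000000000000000000000000000000000000008a00000000000000000003600000000003f000000000000000000000000000000000000000000000000000039800000000d000000000000000000000000000000000300000000000000000000000000000000000000000000000000000000018800000000000000000000000000000000000000000005a0000000000000000000000000000d400000000000000000000000000000000000000000000000000000000000000000000000000000000000000000bc00000000000001ac0000000000000000000000000000000000000000000000000000000000000000000000000000000000000000000000000000000000510000000000004800000750000000)) (.leaf (nat_lit 0xd400000000000000000000000000000000124000000000000000000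0000000000000000000000000006e00000012800000000000000000000000000000000000000000000000000000000000000000000000000000000000000000000000000000000000000828170000000000000000000000000000000000062000000000064000000000000000000000000000054000000000000da3c00000040000000000000000000000000000000000000000000000000000000000000000000000000000000000d0000000000000000000000000000000000000000000000000000000000000000000000000000f0000004c00000000000000000000260000000000000000000000000000000000000000000000000000000000000148000000000000000000003a0001d8000000000000000000000000080000000000000000000000000000000000000000000000000000000000000000000000000000000000000000002c0000000000000000000000000000000000000000000000000000000000000000000000000000000000000000000000000000000000000000000000000000000d0000000000000000000000000000))))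
noncomputable def LRtl1Q (u : ℕ) : ℕ := force (Nat.shiftRight u (nat_lit 9)) fun j => Nat.land (Nat.shiftRight (LRtl1Qd.get j) (Nat.mul (Nat.land u (nat_lit 511)) (nat_lit 7))) (nat_lit 127)
noncomputable def LRtl1 : Lev := ⟨120, 9, LRtl1D, LRtl1P, LRtl1Q⟩
noncomputable def LRtl2Dd : ℕ := nat_lit 0x5d329871648251eee9502ecec6f5fa7d223c1da547279339807c521b9acac4f1488890411b0e85e1919860422c0b0943c1b0903c281a05020260d048180a00
noncomputable def LRtl2D (u : ℕ) : ℕ := Nat.land (Nat.shiftRight LRtl2Dd (Nat.mul u (nat_lit 9))) (nat_lit 511)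
noncomputable def LRtl2Pd : ℕ := nat_lit 0x24e5f85827bf06936c35114025720400f2b68ae77974b0531c54013fb02a8191336d106c48519781c88a8f41483c21984590c351b2eb28b0be5a65ea4ad5813e76de1ca4e377a87716d29c75c3834637ba416742
noncomputable def LRtl2P (u : ℕ) : ℕ := Nat.land (Nat.shiftRight LRtl2Pd (Nat.mul u (nat_lit 12))) (nat_lit 4095)
noncomputable def LRtl2Qd : BT := (.node (.node (.node (.leaf (nat_lit 0xb0000009c00000000000000000000000000000000000000000000000000000000000000000187800000000000000000000000000000000000000000000000000000000000001c000000000000000000000000000000000000000000000000000001a000000000030000000000000000000880000000000000000000000000000000000000000000000000000000000000000000000000000000000000000000000000000000000000000000000000000000000000000000000000000000000000000000000580000012000000000000000000000000000000000000000000000000000000000000000000000000000000000000000000000000000000000000000000000000020000cc0000000000000000000000000000000a00000000000000000000000000000000000000000000000000000000000024000000000000000000000000000000000000000b40000000000000000000000))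 (.leaf (nat_lit 0x1b00000000000000000000000000000000000000000000000000000000000000000000000000000000000000000000000000000002b00000000000000000000000000000000000000000000000000001c00000000000000000000000000020000000000000000000000000000000000000000000000000000000000000000000000000000000000000000000000000000000000000000000000000000000000000001d0008c0000000000000000000000000000000000000))) (.leaf (nat_lit 0x360000000000000000000100000000000000000000000000000000000000000000000000000000000000000000000000000000000000000000000000000110000000000000000000000000000000000000000000000000000353800000000000000000000000000000000000000000000000000000000000000000000000000000000000000000000000000000000000000000000000000000000000000000000000000000005400000000000000000000000000000000000000000000000000000000000000000000000000000000002800000000000000000000000000000000000000000000000000000000000000000000000000000003c00000000000000000000000000000000000000000000000000000000007c00000000000000000000000000000000000000000000000000c00000000000005c0000000000000000000000000000000000000000000000000000000000000000000000000000000000000000000000000001000000000000000000000000000000980)))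 (.node (.leaf (nat_lit 0x940000000000000000000000000000340000000000000000000000000000000000000000000000000000019000000000000000000000000000000000000000000000000000000000000000000000000000000000000000000000100000000000000000000000000000000032000000000000000000000000000000000000000c4000000000000000000000000000000000000000000000000000000000000000000000000000000000000000000000000000000000000000000000000000000000000000000000000000000050000000000000000000000000000000000000000000000000000000000000000000000000000002c0000000000000000000000000000000000000060000000000000000000000004c0000000000000000000000000000000000000000000000000000000000000000000000000000bc000000000003700000000000000000000000000000000000000000000000000000000000000000000000000000000000000000000000000000000000002e000000)) (.leaf (nat_lit 0xd00000002000000000000000000000000000000000000000000000000000000000000000000000000000000000000000000000009a80000000000000000000000000000000000000000005000000000000000000000000a4000000000000000000000000000000000000000000000000000000000000000000000000000000000000000000000000000000000000000000000000000000000000000000000000000000000000000000c000000000000000000840000000000000000000000000000000000000000000000000000000000000000000000000000000000000000000000000000000000000000000000000000000000000000000000000000000000000000000000000000000000000000000000000000000000000000000000000000000000000000000000000000000000000000000000000000000000000000000000000000000000000000000000000))))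
noncomputable def LRtl2Q (u : ℕ) : ℕ := force (Nat.shiftRight u (nat_lit 9)) fun j => Nat.land (Nat.shiftRight (LRtl2Qd.get j) (Nat.mul (Nat.land u (nat_lit 511)) (nat_lit 6))) (nat_lit 63)
noncomputable def LRtl2 : Lev := ⟨56, 7, LRtl2D, LRtl2P, LRtl2Q⟩
noncomputable def LRtl3Dd : ℕ := nat_lit 0x5e5d89654c6b40443b5c3a3642382c22211c291f172a25201b16110e0d09080b06040300
noncomputable def LRtl3D (u : ℕ) : ℕ := Nat.land (Nat.shiftRight LRtl3Dd (Nat.mul u (nat_lit 8))) (nat_lit 255)
noncomputable def LRtl3Pd : ℕ := nat_lit 0x643d225f7f05940b15860764848153c979b15070b3070bd7126d449a1854cb33075b05c2f77b60b845358067342c20f36f3c54d8007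
noncomputable def LRtl3P (u : ℕ) : ℕ := Nat.land (Nat.shiftRight LRtl3Pd (Nat.mul u (nat_lit 12))) (nat_lit 4095)
noncomputable def LRtl3Qd : BT := (.node (.node (.node (.leaf (nat_lit 0x40000000000000000000000000000000000000000000000000000000000000000000000000000001700000000000000000000000000000000000000000000000000000000000000000000000000000000000000000000000000000000000000000000000000000000000000000000000000000000000000000000000000000000000000000000000000000000000000000000000000050000000900000000078000000000000000000000000000000000000000000000000000000000000000000000000000000000000001c00000000000000000000000002300000000000c000000000000000000000000000000000000000000000000000000000000000000000000000000000000000000000000000000000000000000000000000000000000000000)) (.leaf (nat_lit 0x680000000000000000000000000000000))) (.leaf (nat_lit 0x1f00000000000000000001d0000000070000000000000000000000000000000000000000000000000000000000000000000000000000000000000000000000000000000000000000000000000000000000000000000000000000000000000000000000000000000000000000000000000000000000000000000000000000000000000000000000000000000000010000000000000000003c000000000000000000000000000000000000000000000000000000000000000000000001100000000000000000000000000000001b000000000000000000000000000000000000000000000000000000000000000000000000200000000000000000000000000000000000000000000000000000000005000000000000000000000000000000000000000000000000000000000000000000)))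 (.node (.leaf (nat_lit 0x220000000000006400000800000000000000000000000000000000000000000000000000000000000000000000000000000000000000000000000000000000000000000000000000000000c000000000000000000000000000000000000000000000000000000000000000000000000000000000000000000000e0000000000000000000000000000000000000000000000000000000000005400000000000000000000002c0000000000000000000000000000000000000000000000000000000000000000000000000000000000000000000000000000000000000000000000000000000000000000000000000000000000000000000000000000000000000000000000000000000000000000000000000000000000840000000000000000000000000000000000000000000000000000000000000000000000000000000000000000000000000000000000000000000000100000000000000000000000)) (.leaf (nat_lit 0x2000000000000000000000000000000000000000000000000000000000000000000000000000000000000000a0000000000000000000000000000000000000006000000000000000000000000000000000000000000000000000000000000000000000000000000000000000000000003400000000000000000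00000000000000000000000000000000000000000000000000000000000000000000000000000000000000000013000000000580000000000000000000000000000000000000000000000000000000000000000000000000000000012000000000000000000000000000000000000000000000000000000000000000000000000000000000000000000000000000000000000000000000000000000000000000000000000180000000000000000000000000000000000000000000000000000000000000000000000000000000000000000000000000000000000000000000000000000000000000000000000000000000000000000000000000000))))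
noncomputable def LRtl3Q (u : ℕ) : ℕ := force (Nat.shiftRight u (nat_lit 9)) fun j => Nat.land (Nat.shiftRight (LRtl3Qd.get j) (Nat.mul (Nat.land u (nat_lit 511)) (nat_lit 6))) (nat_lit 63)
noncomputable def LRtl3 : Lev := ⟨36, 5, LRtl3D, LRtl3P, LRtl3Q⟩
noncomputable def LRtl4Dd : ℕ := nat_lit 0x110
noncomputable def LRtl4D (u : ℕ) : ℕ := Nat.land (Nat.shiftRight LRtl4Dd (Nat.mul u (nat_lit 3))) (nat_lit 7)
noncomputable def LRtl4Pd : ℕ := nat_lit 0x1a74b32f1
noncomputable def LRtl4P (u : ℕ) : ℕ := Nat.land (Nat.shiftRight LRtl4Pd (Nat.mul u (nat_lit 11))) (nat_lit 2047)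
noncomputable def LRtl4Qd : ℕ := nat_lit 0x8000000000000000000000000000000000000000000000000000000000000000000000000000000000000000000000000000000000000000000000000000000000000000000000000000000000000000000000000000000000000000000000000000000000000000000000000000000000000000000000000000000000000000000000000000000000000000000000000000000000000000000000000000000000000000000000000000000000000000000000000000000000000000000000000000000000000000000000000000000000000000000000000000000000000000000000000000000000000000000000000000000000000000000000000000000000000000000000000000000000000000000000000000000000000000000000000000000000000000000000000000000000000000000000000000000000000000000000000000000000000000000100000000000000000000000000000000000000000000000000000000000000000000000000000000000000000000000000000000000000000000000000000000000000000000000000000000000000000000000000000000000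
noncomputable def LRtl4Q (u : ℕ) : ℕ := Nat.land (Nat.shiftRight LRtl4Qd (Nat.mul u (nat_lit 2))) (nat_lit 3)
noncomputable def LRtl4 : Lev := ⟨3, 3, LRtl4D, LRtl4P, LRtl4Q⟩
noncomputable def LRtl5Dd : ℕ := nat_lit 0xd0
noncomputable def LRtl5D (u : ℕ) : ℕ := Nat.land (Nat.shiftRight LRtl5Dd (Nat.mul u (nat_lit 2))) (nat_lit 3)
noncomputable def LRtl5Pd : ℕ := nat_lit 0x78688ac6800
noncomputable def LRtl5P (u : ℕ) : ℕ := Nat.land (Nat.shiftRight LRtl5Pd (Nat.mul u (nat_lit 11))) (nat_lit 2047)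
noncomputable def LRtl5Qd : ℕ := nat_lit 0x4000000000000000000000000000000000000000000000000000000000000000000000000000000000000000000000000000000000000000000000000000000000000000000000000000000000000000000000000000000000000000000000000000000000000000000000000000000000000c0000000000000000000000000000000000000000000000000000000000000000000000000000000000000000000000000000000000000000000000000000000000000000000000000000000000000000000000000000000000000000000000000000000000000002000000000000000000000000000000000000000000000000000000000000000000000000000000000000000000000000000000000000000000000000000000000000000000000000000000000000000000000000000000000000000000000000000000000000000000000000000000000000000000000000000000000000000000000000000000000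
noncomputable def LRtl5Q (u : ℕ) : ℕ := Nat.land (Nat.shiftRight LRtl5Qd (Nat.mul u (nat_lit 2))) (nat_lit 3)
noncomputable def LRtl5 : Lev := ⟨4, 2, LRtl5D, LRtl5P, LRtl5Q⟩
noncomputable def LRce_W : List (List ℕ) := [[nat_lit 0, nat_lit 3, nat_lit 6, nat_lit 3, nat_lit 6, nat_lit 3, nat_lit 6, nat_lit 3, nat_lit 6],
  [nat_lit 5, nat_lit 3, nat_lit 1, nat_lit 4, nat_lit 5, nat_lit 3, nat_lit 6, nat_lit 3, nat_lit 4, nat_lit 5, nat_lit 1, nat_lit 3, nat_lit 5]]
noncomputable def LRce_P : ℕ → ℕ → ℕ := wdsP H15.XCo2C.P LRce_W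
noncomputable def LRcc5Dd : ℕ := nat_lit 0xd0
noncomputable def LRcc5D (u : ℕ) : ℕ := Nat.land (Nat.shiftRight LRcc5Dd (Nat.mul u (nat_lit 2))) (nat_lit 3)
noncomputable def LRcc5Pd : ℕ := nat_lit 0x78688ac6800
noncomputable def LRcc5P (u : ℕ) : ℕ := Nat.land (Nat.shiftRight LRcc5Pd (Nat.mul u (nat_lit 11))) (nat_lit 2047)
noncomputable def LRcc5Qd : ℕ := nat_lit 0x4000000000000000000000000000000000000000000000000000000000000000000000000000000000000000000000000000000000000000000000000000000000000000000000000000000000000000000000000000000000000000000000000000000000000000000000000000000000000c0000000000000000000000000000000000000000000000000000000000000000000000000000000000000000000000000000000000000000000000000000000000000000000000000000000000000000000000000000000000000000000000000000000000000002000000000000000000000000000000000000000000000000000000000000000000000000000000000000000000000000000000000000000000000000000000000000000000000000000000000000000000000000000000000000000000000000000000000000000000000000000000000000000000000000000000000000000000000000000000000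
noncomputable def LRcc5Q (u : ℕ) : ℕ := Nat.land (Nat.shiftRight LRcc5Qd (Nat.mul u (nat_lit 2))) (nat_lit 3)
noncomputable def LRcc5 : Lev := ⟨4, 2, LRcc5D, LRcc5P, LRcc5Q⟩
noncomputable def LRtn0Fd : ℕ := nat_lit 0
noncomputable def LRtn0F (u : ℕ) : ℕ := Nat.land (Nat.shiftRight LRtn0Fd (Nat.mul u (nat_lit 1))) (nat_lit 1)
noncomputable def LRtn0 : Nd := ⟨LRtn0F, (nat_lit 2), (nat_lit 2), [], [((nat_lit 0), [])], []⟩
noncomputable def LRtn1Fd : ℕ := nat_lit 0xfffffffffffffffffffffffffffffffffffffffffffffffffffffffffffffffe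
noncomputable def LRtn1F (u : ℕ) : ℕ := Nat.land (Nat.shiftRight LRtn1Fd (Nat.mul u (nat_lit 1))) (nat_lit 1)
noncomputable def LRtn1 : Nd := ⟨LRtn1F, (nat_lit 2), (nat_lit 2), [[nat_lit 0]], [((nat_lit 0), [])], []⟩
noncomputable def LRY_W : List (List ℕ) := [[nat_lit 0],
  [nat_lit 3, nat_lit 3, nat_lit 2, nat_lit 3, nat_lit 3, nat_lit 2, nat_lit 3, nat_lit 8, nat_lit 1, nat_lit 8]]
noncomputable def LRY_P : ℕ → ℕ → ℕ := wdsP J_P LRY_W
noncomputable def LR : List (List ℕ) := [[],
  [nat_lit 0],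
  [nat_lit 3, nat_lit 3, nat_lit 2, nat_lit 3, nat_lit 3, nat_lit 2, nat_lit 3, nat_lit 8, nat_lit 1, nat_lit 8],
  [nat_lit 0, nat_lit 3, nat_lit 3, nat_lit 2, nat_lit 3, nat_lit 3, nat_lit 2, nat_lit 3, nat_lit 8, nat_lit 1, nat_lit 8]]
noncomputable def LRTd : List ℕ := [nat_lit 0xb1,
  nat_lit 0x4e]
noncomputable def LRT (k u : ℕ) : ℕ := Nat.land (Nat.shiftRight (nth (nat_lit 0) LRTd k) (Nat.mul u (nat_lit 2))) (nat_lit 3)

theorem L6X_lt : allL (ltAll 14) L6X_W = true := by decide +kernel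
theorem L6th_lt : allL (ltAll 7) L6th_W = true := by decide +kernel
theorem L6tl0_e_0 : allZ (dent L6tl0 L6th_P (nat_lit 2300)) (nat_lit 0) (nat_lit 27) = true := by decide +kernel
theorem L6tl0_h : 0 < L6tl0.n ∧ 0 < L6tl0.K ∧ L6tl0.Pt 0 < 2300 ∧ L6tl0.Q (L6tl0.Pt 0) = 0 := by decide +kernel
theorem L6tl1_e_0 : allZ (dent L6tl1 L6th_P (nat_lit 2300)) (nat_lit 0) (nat_lit 26) = true := by decide +kernel
theorem L6tl1_h : 0 < L6tl1.n ∧ 0 < L6tl1.K ∧ L6tl1.Pt 0 < 2300 ∧ L6tl1.Q (L6tl1.Pt 0) = 0 := by decide +kernel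
theorem L6tl2_e_0 : allZ (dent L6tl2 L6th_P (nat_lit 2300)) (nat_lit 0) (nat_lit 9) = true := by decide +kernel
theorem L6tl2_h : 0 < L6tl2.n ∧ 0 < L6tl2.K ∧ L6tl2.Pt 0 < 2300 ∧ L6tl2.Q (L6tl2.Pt 0) = 0 := by decide +kernel
theorem L6tl3_e_0 : allZ (dent L6tl3 L6th_P (nat_lit 2300)) (nat_lit 0) (nat_lit 7) = true := by decide +kernel
theorem L6tl3_h : 0 < L6tl3.n ∧ 0 < L6tl3.K ∧ L6tl3.Pt 0 < 2300 ∧ L6tl3.Q (L6tl3.Pt 0) = 0 := by decide +kernel
theorem L6tl4_e_0 : allZ (dent L6tl4 L6th_P (nat_lit 2300)) (nat_lit 0) (nat_lit 3) = true := by decide +kernel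
theorem L6tl4_h : 0 < L6tl4.n ∧ 0 < L6tl4.K ∧ L6tl4.Pt 0 < 2300 ∧ L6tl4.Q (L6tl4.Pt 0) = 0 := by decide +kernel
theorem L6tl5_e_0 : allZ (dent L6tl5 L6th_P (nat_lit 2300)) (nat_lit 0) (nat_lit 2) = true := by decide +kernel
theorem L6tl5_h : 0 < L6tl5.n ∧ 0 < L6tl5.K ∧ L6tl5.Pt 0 < 2300 ∧ L6tl5.Q (L6tl5.Pt 0) = 0 := by decide +kernel
theorem L6tl6_e_0 : allZ (dent L6tl6 L6th_P (nat_lit 2300)) (nat_lit 0) (nat_lit 1) = true := by decide +kernel
theorem L6tl6_h : 0 < L6tl6.n ∧ 0 < L6tl6.K ∧ L6tl6.Pt 0 < 2300 ∧ L6tl6.Q (L6tl6.Pt 0) = 0 := by decide +kernel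
theorem L6tl7_e_0 : allZ (dent L6tl7 L6th_P (nat_lit 2300)) (nat_lit 0) (nat_lit 31) = true := by decide +kernel
theorem L6tl7_h : 0 < L6tl7.n ∧ 0 < L6tl7.K ∧ L6tl7.Pt 0 < 2300 ∧ L6tl7.Q (L6tl7.Pt 0) = 0 := by decide +kernel
theorem L6tl8_e_0 : allZ (dent L6tl8 L6th_P (nat_lit 2300)) (nat_lit 0) (nat_lit 1) = true := by decide +kernel
theorem L6tl8_h : 0 < L6tl8.n ∧ 0 < L6tl8.K ∧ L6tl8.Pt 0 < 2300 ∧ L6tl8.Q (L6tl8.Pt 0) = 0 := by decide +kernel
theorem L6tl9_e_0 : allZ (dent L6tl9 L6th_P (nat_lit 2300)) (nat_lit 0) (nat_lit 1) = true := by decide +kernel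
theorem L6tl9_h : 0 < L6tl9.n ∧ 0 < L6tl9.K ∧ L6tl9.Pt 0 < 2300 ∧ L6tl9.Q (L6tl9.Pt 0) = 0 := by decide +kernel
theorem L6tl10_e_0 : allZ (dent L6tl10 L6th_P (nat_lit 2300)) (nat_lit 0) (nat_lit 1) = true := by decide +kernel
theorem L6tl10_h : 0 < L6tl10.n ∧ 0 < L6tl10.K ∧ L6tl10.Pt 0 < 2300 ∧ L6tl10.Q (L6tl10.Pt 0) = 0 := by decide +kernel
theorem L6tl11_e_0 : allZ (dent L6tl11 L6th_P (nat_lit 2300)) (nat_lit 0) (nat_lit 1) = true := by decide +kernel
theorem L6tl11_h : 0 < L6tl11.n ∧ 0 < L6tl11.K ∧ L6tl11.Pt 0 < 2300 ∧ L6tl11.Q (L6tl11.Pt 0) = 0 := by decide +kernel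
theorem L6t_f11 : (Nat.ble L6tl11.K 19 && Nat.ble (topK []) L6tl11.K && fixLetters L6th_P (topK []) (L6tl11.Pt 0)) = true := by decide +kernel
theorem L6t_f10 : (Nat.ble L6tl10.K 19 && Nat.ble (topK [L6tl11]) L6tl10.K && fixLetters L6th_P (topK [L6tl11]) (L6tl10.Pt 0)) = true := by decide +kernel
theorem L6t_f9 : (Nat.ble L6tl9.K 19 && Nat.ble (topK [L6tl10, L6tl11]) L6tl9.K && fixLetters L6th_P (topK [L6tl10, L6tl11]) (L6tl9.Pt 0)) = true := by decide +kernel
theorem L6t_f8 : (Nat.ble L6tl8.K 19 && Nat.ble (topK [L6tl9, L6tl10, L6tl11]) L6tl8.K && fixLetters L6th_P (topK [L6tl9, L6tl10, L6tl11]) (L6tl8.Pt 0)) = true := by decide +kernel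
theorem L6t_f7 : (Nat.ble L6tl7.K 19 && Nat.ble (topK [L6tl8, L6tl9, L6tl10, L6tl11]) L6tl7.K && fixLetters L6th_P (topK [L6tl8, L6tl9, L6tl10, L6tl11]) (L6tl7.Pt 0)) = true := by decide +kernel
theorem L6t_f6 : (Nat.ble L6tl6.K 19 && Nat.ble (topK [L6tl7, L6tl8, L6tl9, L6tl10, L6tl11]) L6tl6.K && fixLetters L6th_P (topK [L6tl7, L6tl8, L6tl9, L6tl10, L6tl11]) (L6tl6.Pt 0)) = true := by decide +kernel
theorem L6t_f5 : (Nat.ble L6tl5.K 19 && Nat.ble (topK [L6tl6, L6tl7, L6tl8, L6tl9, L6tl10, L6tl11]) L6tl5.K && fixLetters L6th_P (topK [L6tl6, L6tl7, L6tl8, L6tl9, L6tl10, L6tl11]) (L6tl5.Pt 0)) = true := by decide +kernel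
theorem L6t_f4 : (Nat.ble L6tl4.K 19 && Nat.ble (topK [L6tl5, L6tl6, L6tl7, L6tl8, L6tl9, L6tl10, L6tl11]) L6tl4.K && fixLetters L6th_P (topK [L6tl5, L6tl6, L6tl7, L6tl8, L6tl9, L6tl10, L6tl11]) (L6tl4.Pt 0)) = true := by decide +kernel
theorem L6t_f3 : (Nat.ble L6tl3.K 19 && Nat.ble (topK [L6tl4, L6tl5, L6tl6, L6tl7, L6tl8, L6tl9, L6tl10, L6tl11]) L6tl3.K && fixLetters L6th_P (topK [L6tl4, L6tl5, L6tl6, L6tl7, L6tl8, L6tl9, L6tl10, L6tl11]) (L6tl3.Pt 0)) = true := by decide +kernel
theorem L6t_f2 : (Nat.ble L6tl2.K 19 && Nat.ble (topK [L6tl3, L6tl4, L6tl5, L6tl6, L6tl7, L6tl8, L6tl9, L6tl10, L6tl11]) L6tl2.K && fixLetters L6th_P (topK [L6tl3, L6tl4, L6tl5, L6tl6, L6tl7, L6tl8, L6tl9, L6tl10, L6tl11]) (L6tl2.Pt 0)) = true := by decide +kernel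
theorem L6t_f1 : (Nat.ble L6tl1.K 19 && Nat.ble (topK [L6tl2, L6tl3, L6tl4, L6tl5, L6tl6, L6tl7, L6tl8, L6tl9, L6tl10, L6tl11]) L6tl1.K && fixLetters L6th_P (topK [L6tl2, L6tl3, L6tl4, L6tl5, L6tl6, L6tl7, L6tl8, L6tl9, L6tl10, L6tl11]) (L6tl1.Pt 0)) = true := by decide +kernel
theorem L6t_f0 : (Nat.ble L6tl0.K 19 && Nat.ble (topK [L6tl1, L6tl2, L6tl3, L6tl4, L6tl5, L6tl6, L6tl7, L6tl8, L6tl9, L6tl10, L6tl11]) L6tl0.K && fixLetters L6th_P (topK [L6tl1, L6tl2, L6tl3, L6tl4, L6tl5, L6tl6, L6tl7, L6tl8, L6tl9, L6tl10, L6tl11]) (L6tl0.Pt 0)) = true := by decide +kernel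
theorem L6t_c : chainCard [L6tl0, L6tl1, L6tl2, L6tl3, L6tl4, L6tl5, L6tl6, L6tl7, L6tl8, L6tl9, L6tl10, L6tl11] = 743178240 := by decide +kernel
theorem L6ce_lt : allL (ltAll 7) L6ce_W = true := by decide +kernel
theorem L6c_f11 : (Nat.ble L6tl11.K 19 && Nat.blt (nat_lit 19) 2300 && fixLetters L6th_P L6tl11.K (nat_lit 19) && Nat.beq (ltAll 1 [nat_lit 0, nat_lit 0, nat_lit 0, nat_lit 0]) 0 && Nat.beq (apW L6X_P [nat_lit 0, nat_lit 0, nat_lit 0, nat_lit 0] (nat_lit 19)) (L6tl11.Pt 0)) = true := by decide +kernel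
theorem L6c_f10 : (Nat.ble L6tl10.K 19 && Nat.blt (nat_lit 19) 2300 && fixLetters L6th_P L6tl10.K (nat_lit 19) && Nat.beq (ltAll 1 [nat_lit 0, nat_lit 0, nat_lit 0]) 0 && Nat.beq (apW L6X_P [nat_lit 0, nat_lit 0, nat_lit 0] (nat_lit 19)) (L6tl10.Pt 0)) = true := by decide +kernel
theorem L6c_f9 : (Nat.ble L6tl9.K 19 && Nat.blt (nat_lit 19) 2300 && fixLetters L6th_P L6tl9.K (nat_lit 19) && Nat.beq (ltAll 1 [nat_lit 0, nat_lit 0]) 0 && Nat.beq (apW L6X_P [nat_lit 0, nat_lit 0] (nat_lit 19)) (L6tl9.Pt 0)) = true := by decide +kernel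
theorem L6c_f8 : (Nat.ble L6tl8.K 19 && Nat.blt (nat_lit 19) 2300 && fixLetters L6th_P L6tl8.K (nat_lit 19) && Nat.beq (ltAll 1 [nat_lit 0]) 0 && Nat.beq (apW L6X_P [nat_lit 0] (nat_lit 19)) (L6tl8.Pt 0)) = true := by decide +kernel
theorem L6cc7_e_0 : allZ (dent L6cc7 L6ce_P (nat_lit 2300)) (nat_lit 0) (nat_lit 1) = true := by decide +kernel
theorem L6cc7_h : 0 < L6cc7.n ∧ 0 < L6cc7.K ∧ L6cc7.Pt 0 < 2300 ∧ L6cc7.Q (L6cc7.Pt 0) = 0 := by decide +kernel
theorem L6tn0_0 : (Nat.ble L6tl7.K 19 && Nat.beq (ltAll 2300 [L6tl6.Pt 0, L6tl5.Pt 0, L6tl4.Pt 0, L6tl3.Pt 0, L6tl2.Pt 0, L6tl1.Pt 0, L6tl0.Pt 0]) 0 && kChk L6ce_P L6X_P L6tn0.Kn 1 H15.XCo2C.B [L6tl6.Pt 0, L6tl5.Pt 0, L6tl4.Pt 0, L6tl3.Pt 0, L6tl2.Pt 0, L6tl1.Pt 0, L6tl0.Pt 0] && allL (ltAll 1) L6tn0.pre && planOK L6th_P L6X_P 1 (L6tl7.Pt 0) L6tn0.plan [L6tl7, L6tl8, L6tl9, L6tl10, L6tl11]) = true := by decide +kernel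
theorem L6tn0_1_0 : allZ (L6tn0.ent H15.XCo2C.P L6th_P L6X_P L6X_P L6ce_P (nat_lit 7) (nat_lit 1) H15.XCo2C.B L6tl7 [L6tl8, L6tl9, L6tl10, L6tl11] (memO L6cc7)) (nat_lit 0) (nat_lit 32) = true := by decide +kernel
theorem L6c_f7 : (Nat.ble L6cc7.K 4 && Nat.ble (topK []) L6cc7.K && Nat.beq (L6cc7.Pt 0) (L6tl7.Pt 0) && Nat.beq (ltAll 2300 [L6tl6.Pt 0, L6tl5.Pt 0, L6tl4.Pt 0, L6tl3.Pt 0, L6tl2.Pt 0, L6tl1.Pt 0, L6tl0.Pt 0]) 0 && kChk L6ce_P L6X_P L6cc7.K 1 H15.XCo2C.B [L6tl6.Pt 0, L6tl5.Pt 0, L6tl4.Pt 0, L6tl3.Pt 0, L6tl2.Pt 0, L6tl1.Pt 0, L6tl0.Pt 0]) = true := by decide +kernel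
theorem L6cc6_e_0 : allZ (dent L6cc6 L6ce_P (nat_lit 2300)) (nat_lit 0) (nat_lit 1) = true := by decide +kernel
theorem L6cc6_h : 0 < L6cc6.n ∧ 0 < L6cc6.K ∧ L6cc6.Pt 0 < 2300 ∧ L6cc6.Q (L6cc6.Pt 0) = 0 := by decide +kernel
theorem L6tn1_0 : (Nat.ble L6tl6.K 19 && Nat.beq (ltAll 2300 [L6tl5.Pt 0, L6tl4.Pt 0, L6tl3.Pt 0, L6tl2.Pt 0, L6tl1.Pt 0, L6tl0.Pt 0]) 0 && kChk L6ce_P L6X_P L6tn1.Kn 1 H15.XCo2C.B [L6tl5.Pt 0, L6tl4.Pt 0, L6tl3.Pt 0, L6tl2.Pt 0, L6tl1.Pt 0, L6tl0.Pt 0] && allL (ltAll 1) L6tn1.pre && planOK L6th_P L6X_P 1 (L6tl6.Pt 0) L6tn1.plan [L6tl6, L6tl7, L6tl8, L6tl9, L6tl10, L6tl11]) = true := by decide +kernel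
theorem L6tn1_1_0 : allZ (L6tn1.ent H15.XCo2C.P L6th_P L6X_P L6X_P L6ce_P (nat_lit 7) (nat_lit 1) H15.XCo2C.B L6tl6 [L6tl7, L6tl8, L6tl9, L6tl10, L6tl11] (memO L6cc6)) (nat_lit 0) (nat_lit 2) = true := by decide +kernel
theorem L6c_f6 : (Nat.ble L6cc6.K 4 && Nat.ble (topK [L6cc7]) L6cc6.K && Nat.beq (L6cc6.Pt 0) (L6tl6.Pt 0) && Nat.beq (ltAll 2300 [L6tl5.Pt 0, L6tl4.Pt 0, L6tl3.Pt 0, L6tl2.Pt 0, L6tl1.Pt 0, L6tl0.Pt 0]) 0 && kChk L6ce_P L6X_P L6cc6.K 1 H15.XCo2C.B [L6tl5.Pt 0, L6tl4.Pt 0, L6tl3.Pt 0, L6tl2.Pt 0, L6tl1.Pt 0, L6tl0.Pt 0]) = true := by decide +kernel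
theorem L6cc5_e_0 : allZ (dent L6cc5 L6ce_P (nat_lit 2300)) (nat_lit 0) (nat_lit 2) = true := by decide +kernel
theorem L6cc5_h : 0 < L6cc5.n ∧ 0 < L6cc5.K ∧ L6cc5.Pt 0 < 2300 ∧ L6cc5.Q (L6cc5.Pt 0) = 0 := by decide +kernel
theorem L6tn2_0 : (Nat.ble L6tl5.K 19 && Nat.beq (ltAll 2300 [L6tl4.Pt 0, L6tl3.Pt 0, L6tl2.Pt 0, L6tl1.Pt 0, L6tl0.Pt 0]) 0 && kChk L6ce_P L6X_P L6tn2.Kn 1 H15.XCo2C.B [L6tl4.Pt 0, L6tl3.Pt 0, L6tl2.Pt 0, L6tl1.Pt 0, L6tl0.Pt 0] && allL (ltAll 1) L6tn2.pre && planOK L6th_P L6X_P 1 (L6tl5.Pt 0) L6tn2.plan [L6tl5, L6tl6, L6tl7, L6tl8, L6tl9, L6tl10, L6tl11]) = true := by decide +kernel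
theorem L6tn2_1_0 : allZ (L6tn2.ent H15.XCo2C.P L6th_P L6X_P L6X_P L6ce_P (nat_lit 7) (nat_lit 1) H15.XCo2C.B L6tl5 [L6tl6, L6tl7, L6tl8, L6tl9, L6tl10, L6tl11] (memO L6cc5)) (nat_lit 0) (nat_lit 3) = true := by decide +kernel
theorem L6c_f5 : (Nat.ble L6cc5.K 4 && Nat.ble (topK [L6cc6, L6cc7]) L6cc5.K && Nat.beq (L6cc5.Pt 0) (L6tl5.Pt 0) && Nat.beq (ltAll 2300 [L6tl4.Pt 0, L6tl3.Pt 0, L6tl2.Pt 0, L6tl1.Pt 0, L6tl0.Pt 0]) 0 && kChk L6ce_P L6X_P L6cc5.K 1 H15.XCo2C.B [L6tl4.Pt 0, L6tl3.Pt 0, L6tl2.Pt 0, L6tl1.Pt 0, L6tl0.Pt 0]) = true := by decide +kernel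
theorem L6c_f4 : (Nat.ble L6tl4.K 19 && Nat.blt (nat_lit 133) 2300 && fixLetters L6th_P L6tl4.K (nat_lit 133) && Nat.beq (ltAll 1 [nat_lit 0, nat_lit 0, nat_lit 0, nat_lit 0]) 0 && Nat.beq (apW L6X_P [nat_lit 0, nat_lit 0, nat_lit 0, nat_lit 0] (nat_lit 133)) (L6tl4.Pt 0)) = true := by decide +kernel
theorem L6c_f3 : (Nat.ble L6tl3.K 19 && Nat.blt (nat_lit 133) 2300 && fixLetters L6th_P L6tl3.K (nat_lit 133) && Nat.beq (ltAll 1 [nat_lit 0, nat_lit 0, nat_lit 0]) 0 && Nat.beq (apW L6X_P [nat_lit 0, nat_lit 0, nat_lit 0] (nat_lit 133)) (L6tl3.Pt 0)) = true := by decide +kernel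
theorem L6c_f2 : (Nat.ble L6tl2.K 19 && Nat.blt (nat_lit 133) 2300 && fixLetters L6th_P L6tl2.K (nat_lit 133) && Nat.beq (ltAll 1 [nat_lit 0, nat_lit 0]) 0 && Nat.beq (apW L6X_P [nat_lit 0, nat_lit 0] (nat_lit 133)) (L6tl2.Pt 0)) = true := by decide +kernel
theorem L6c_f1 : (Nat.ble L6tl1.K 19 && Nat.blt (nat_lit 133) 2300 && fixLetters L6th_P L6tl1.K (nat_lit 133) && Nat.beq (ltAll 1 [nat_lit 0]) 0 && Nat.beq (apW L6X_P [nat_lit 0] (nat_lit 133)) (L6tl1.Pt 0)) = true := by decide +kernel
theorem L6cc0_e_0 : allZ (dent L6cc0 L6ce_P (nat_lit 2300)) (nat_lit 0) (nat_lit 4) = true := by decide +kernel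
theorem L6cc0_h : 0 < L6cc0.n ∧ 0 < L6cc0.K ∧ L6cc0.Pt 0 < 2300 ∧ L6cc0.Q (L6cc0.Pt 0) = 0 := by decide +kernel
theorem L6tn3_0 : (Nat.ble L6tl0.K 19 && Nat.beq (ltAll 2300 []) 0 && kChk L6ce_P L6X_P L6tn3.Kn 1 H15.XCo2C.B [] && allL (ltAll 1) L6tn3.pre && planOK L6th_P L6X_P 1 (L6tl0.Pt 0) L6tn3.plan [L6tl0, L6tl1, L6tl2, L6tl3, L6tl4, L6tl5, L6tl6, L6tl7, L6tl8, L6tl9, L6tl10, L6tl11]) = true := by decide +kernel
theorem L6tn3_1_0 : allZ (L6tn3.ent H15.XCo2C.P L6th_P L6X_P L6X_P L6ce_P (nat_lit 7) (nat_lit 1) H15.XCo2C.B L6tl0 [L6tl1, L6tl2, L6tl3, L6tl4, L6tl5, L6tl6, L6tl7, L6tl8, L6tl9, L6tl10, L6tl11] (memO L6cc0)) (nat_lit 0) (nat_lit 28) = true := by decide +kernel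
theorem L6c_f0 : (Nat.ble L6cc0.K 4 && Nat.ble (topK [L6cc5, L6cc6, L6cc7]) L6cc0.K && Nat.beq (L6cc0.Pt 0) (L6tl0.Pt 0) && Nat.beq (ltAll 2300 []) 0 && kChk L6ce_P L6X_P L6cc0.K 1 H15.XCo2C.B []) = true := by decide +kernel
theorem L6c_c : chainCard [L6cc0, L6cc5, L6cc6, L6cc7] = 60 ∧ topK [L6cc0, L6cc5, L6cc6, L6cc7] = 4 := by decide +kernel
theorem L6Y_lt : allL (ltAll 14) L6Y_W = true := by decide +kernel
theorem L6_le_k : allZ (fun a => Nat.add (ltAll 4 (nth [] [[nat_lit 0],
  [nat_lit 3, nat_lit 1],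
  [nat_lit 1],
  [nat_lit 2]] a)) (sumL (fun β => Nat.xor (L6ce_P a β) (apW L6Y_P (nth [] [[nat_lit 0],
  [nat_lit 3, nat_lit 1],
  [nat_lit 1],
  [nat_lit 2]] a) β)) H15.XCo2C.B)) 0 4 = true := by decide +kernel
theorem L6_m_a : allZ2 (lsEnt EQ L6Y_W L6 60 L6T) (nat_lit 4) (nat_lit 60) = true := by decide +kernel
theorem sA_0 : allZ (fun i => force i fun i => orZ (NE (nth [] L6 i ++ nth [] L6 i) []) (anyL (fun m => anyL (fun v => EQ (nth [] L6 i ++ rp m [11]) (rp m [11] ++ nth [] V4 v)) (List.range 4)) (List.range 3))) (nat_lit 0) (nat_lit 60) = true := by decide +kernel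
theorem sB_0 : allZ (fun i => force i fun i => orZ (NE (nth [] L6 i ++ [1]) (1 :: nth [] L6 i)) (anyL (fun m => anyL (fun v => EQ (nth [] L6 i ++ 5 :: rp m [3]) (rp m [3] ++ (nth [] V4 v ++ [5]))) (List.range 4)) (List.range 5))) (nat_lit 0) (nat_lit 60) = true := by decide +kernel
theorem sC_0 : allZ (fun i => force i fun i => orZ (anyL (fun k => NE (k :: nth [] L6 i) (nth [] L6 i ++ [k])) (List.range 8)) (anyL (fun v => EQ (nth [] L6 i) (nth [] V4 v)) (List.range 4))) (nat_lit 0) (nat_lit 60) = true := by decide +kernel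
theorem L7X_lt : allL (ltAll 14) L7X_W = true := by decide +kernel
theorem L7th_lt : allL (ltAll 7) L7th_W = true := by decide +kernel
theorem L7tl0_e_0 : allZ (dent L7tl0 L7th_P (nat_lit 2300)) (nat_lit 0) (nat_lit 27) = true := by decide +kernel
theorem L7tl0_h : 0 < L7tl0.n ∧ 0 < L7tl0.K ∧ L7tl0.Pt 0 < 2300 ∧ L7tl0.Q (L7tl0.Pt 0) = 0 := by decide +kernel
theorem L7tl1_e_0 : allZ (dent L7tl1 L7th_P (nat_lit 2300)) (nat_lit 0) (nat_lit 26) = true := by decide +kernel
theorem L7tl1_h : 0 < L7tl1.n ∧ 0 < L7tl1.K ∧ L7tl1.Pt 0 < 2300 ∧ L7tl1.Q (L7tl1.Pt 0) = 0 := by decide +kernel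
theorem L7tl2_e_0 : allZ (dent L7tl2 L7th_P (nat_lit 2300)) (nat_lit 0) (nat_lit 9) = true := by decide +kernel
theorem L7tl2_h : 0 < L7tl2.n ∧ 0 < L7tl2.K ∧ L7tl2.Pt 0 < 2300 ∧ L7tl2.Q (L7tl2.Pt 0) = 0 := by decide +kernel
theorem L7tl3_e_0 : allZ (dent L7tl3 L7th_P (nat_lit 2300)) (nat_lit 0) (nat_lit 7) = true := by decide +kernel
theorem L7tl3_h : 0 < L7tl3.n ∧ 0 < L7tl3.K ∧ L7tl3.Pt 0 < 2300 ∧ L7tl3.Q (L7tl3.Pt 0) = 0 := by decide +kernel
theorem L7tl4_e_0 : allZ (dent L7tl4 L7th_P (nat_lit 2300)) (nat_lit 0) (nat_lit 5) = true := by decide +kernel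
theorem L7tl4_h : 0 < L7tl4.n ∧ 0 < L7tl4.K ∧ L7tl4.Pt 0 < 2300 ∧ L7tl4.Q (L7tl4.Pt 0) = 0 := by decide +kernel
theorem L7tl5_e_0 : allZ (dent L7tl5 L7th_P (nat_lit 2300)) (nat_lit 0) (nat_lit 1) = true := by decide +kernel
theorem L7tl5_h : 0 < L7tl5.n ∧ 0 < L7tl5.K ∧ L7tl5.Pt 0 < 2300 ∧ L7tl5.Q (L7tl5.Pt 0) = 0 := by decide +kernel
theorem L7tl6_e_0 : allZ (dent L7tl6 L7th_P (nat_lit 2300)) (nat_lit 0) (nat_lit 1) = true := by decide +kernel
theorem L7tl6_h : 0 < L7tl6.n ∧ 0 < L7tl6.K ∧ L7tl6.Pt 0 < 2300 ∧ L7tl6.Q (L7tl6.Pt 0) = 0 := by decide +kernel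
theorem L7tl7_e_0 : allZ (dent L7tl7 L7th_P (nat_lit 2300)) (nat_lit 0) (nat_lit 31) = true := by decide +kernel
theorem L7tl7_h : 0 < L7tl7.n ∧ 0 < L7tl7.K ∧ L7tl7.Pt 0 < 2300 ∧ L7tl7.Q (L7tl7.Pt 0) = 0 := by decide +kernel
theorem L7tl8_e_0 : allZ (dent L7tl8 L7th_P (nat_lit 2300)) (nat_lit 0) (nat_lit 1) = true := by decide +kernel
theorem L7tl8_h : 0 < L7tl8.n ∧ 0 < L7tl8.K ∧ L7tl8.Pt 0 < 2300 ∧ L7tl8.Q (L7tl8.Pt 0) = 0 := by decide +kernel
theorem L7tl9_e_0 : allZ (dent L7tl9 L7th_P (nat_lit 2300)) (nat_lit 0) (nat_lit 1) = true := by decide +kernel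
theorem L7tl9_h : 0 < L7tl9.n ∧ 0 < L7tl9.K ∧ L7tl9.Pt 0 < 2300 ∧ L7tl9.Q (L7tl9.Pt 0) = 0 := by decide +kernel
theorem L7tl10_e_0 : allZ (dent L7tl10 L7th_P (nat_lit 2300)) (nat_lit 0) (nat_lit 1) = true := by decide +kernel
theorem L7tl10_h : 0 < L7tl10.n ∧ 0 < L7tl10.K ∧ L7tl10.Pt 0 < 2300 ∧ L7tl10.Q (L7tl10.Pt 0) = 0 := by decide +kernel
theorem L7tl11_e_0 : allZ (dent L7tl11 L7th_P (nat_lit 2300)) (nat_lit 0) (nat_lit 1) = true := by decide +kernel
theorem L7tl11_h : 0 < L7tl11.n ∧ 0 < L7tl11.K ∧ L7tl11.Pt 0 < 2300 ∧ L7tl11.Q (L7tl11.Pt 0) = 0 := by decide +kernel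
theorem L7t_f11 : (Nat.ble L7tl11.K 20 && Nat.ble (topK []) L7tl11.K && fixLetters L7th_P (topK []) (L7tl11.Pt 0)) = true := by decide +kernel
theorem L7t_f10 : (Nat.ble L7tl10.K 20 && Nat.ble (topK [L7tl11]) L7tl10.K && fixLetters L7th_P (topK [L7tl11]) (L7tl10.Pt 0)) = true := by decide +kernel
theorem L7t_f9 : (Nat.ble L7tl9.K 20 && Nat.ble (topK [L7tl10, L7tl11]) L7tl9.K && fixLetters L7th_P (topK [L7tl10, L7tl11]) (L7tl9.Pt 0)) = true := by decide +kernel
theorem L7t_f8 : (Nat.ble L7tl8.K 20 && Nat.ble (topK [L7tl9, L7tl10, L7tl11]) L7tl8.K && fixLetters L7th_P (topK [L7tl9, L7tl10, L7tl11]) (L7tl8.Pt 0)) = true := by decide +kernel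
theorem L7t_f7 : (Nat.ble L7tl7.K 20 && Nat.ble (topK [L7tl8, L7tl9, L7tl10, L7tl11]) L7tl7.K && fixLetters L7th_P (topK [L7tl8, L7tl9, L7tl10, L7tl11]) (L7tl7.Pt 0)) = true := by decide +kernel
theorem L7t_f6 : (Nat.ble L7tl6.K 20 && Nat.ble (topK [L7tl7, L7tl8, L7tl9, L7tl10, L7tl11]) L7tl6.K && fixLetters L7th_P (topK [L7tl7, L7tl8, L7tl9, L7tl10, L7tl11]) (L7tl6.Pt 0)) = true := by decide +kernel
theorem L7t_f5 : (Nat.ble L7tl5.K 20 && Nat.ble (topK [L7tl6, L7tl7, L7tl8, L7tl9, L7tl10, L7tl11]) L7tl5.K && fixLetters L7th_P (topK [L7tl6, L7tl7, L7tl8, L7tl9, L7tl10, L7tl11]) (L7tl5.Pt 0)) = true := by decide +kernel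
theorem L7t_f4 : (Nat.ble L7tl4.K 20 && Nat.ble (topK [L7tl5, L7tl6, L7tl7, L7tl8, L7tl9, L7tl10, L7tl11]) L7tl4.K && fixLetters L7th_P (topK [L7tl5, L7tl6, L7tl7, L7tl8, L7tl9, L7tl10, L7tl11]) (L7tl4.Pt 0)) = true := by decide +kernel
theorem L7t_f3 : (Nat.ble L7tl3.K 20 && Nat.ble (topK [L7tl4, L7tl5, L7tl6, L7tl7, L7tl8, L7tl9, L7tl10, L7tl11]) L7tl3.K && fixLetters L7th_P (topK [L7tl4, L7tl5, L7tl6, L7tl7, L7tl8, L7tl9, L7tl10, L7tl11]) (L7tl3.Pt 0)) = true := by decide +kernel
theorem L7t_f2 : (Nat.ble L7tl2.K 20 && Nat.ble (topK [L7tl3, L7tl4, L7tl5, L7tl6, L7tl7, L7tl8, L7tl9, L7tl10, L7tl11]) L7tl2.K && fixLetters L7th_P (topK [L7tl3, L7tl4, L7tl5, L7tl6, L7tl7, L7tl8, L7tl9, L7tl10, L7tl11]) (L7tl2.Pt 0)) = true := by decide +kernel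
theorem L7t_f1 : (Nat.ble L7tl1.K 20 && Nat.ble (topK [L7tl2, L7tl3, L7tl4, L7tl5, L7tl6, L7tl7, L7tl8, L7tl9, L7tl10, L7tl11]) L7tl1.K && fixLetters L7th_P (topK [L7tl2, L7tl3, L7tl4, L7tl5, L7tl6, L7tl7, L7tl8, L7tl9, L7tl10, L7tl11]) (L7tl1.Pt 0)) = true := by decide +kernel
theorem L7t_f0 : (Nat.ble L7tl0.K 20 && Nat.ble (topK [L7tl1, L7tl2, L7tl3, L7tl4, L7tl5, L7tl6, L7tl7, L7tl8, L7tl9, L7tl10, L7tl11]) L7tl0.K && fixLetters L7th_P (topK [L7tl1, L7tl2, L7tl3, L7tl4, L7tl5, L7tl6, L7tl7, L7tl8, L7tl9, L7tl10, L7tl11]) (L7tl0.Pt 0)) = true := by decide +kernel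
theorem L7t_c : chainCard [L7tl0, L7tl1, L7tl2, L7tl3, L7tl4, L7tl5, L7tl6, L7tl7, L7tl8, L7tl9, L7tl10, L7tl11] = 743178240 := by decide +kernel
theorem L7ce_lt : allL (ltAll 7) L7ce_W = true := by decide +kernel
theorem L7cc11_e_0 : allZ (dent L7cc11 L7ce_P (nat_lit 2300)) (nat_lit 0) (nat_lit 1) = true := by decide +kernel
theorem L7cc11_h : 0 < L7cc11.n ∧ 0 < L7cc11.K ∧ L7cc11.Pt 0 < 2300 ∧ L7cc11.Q (L7cc11.Pt 0) = 0 := by decide +kernel
theorem L7tn0_0 : (Nat.ble L7tl11.K 20 && Nat.beq (ltAll 2300 [L7tl10.Pt 0, L7tl9.Pt 0, L7tl8.Pt 0, L7tl7.Pt 0, L7tl6.Pt 0, L7tl5.Pt 0, L7tl4.Pt 0, L7tl3.Pt 0, L7tl2.Pt 0, L7tl1.Pt 0, L7tl0.Pt 0]) 0 && kChk L7ce_P L7X_P L7tn0.Kn 2 H15.XCo2C.B [L7tl10.Pt 0, L7tl9.Pt 0, L7tl8.Pt 0, L7tl7.Pt 0, L7tl6.Pt 0, L7tl5.Pt 0, L7tl4.Pt 0, L7tl3.Pt 0, L7tl2.Pt 0, L7tl1.Pt 0, L7tl0.Pt 0] && allL (ltAll 2) L7tn0.pre && planOK L7th_P L7X_P 2 (L7tl11.Pt 0) L7tn0.plan [L7tl11]) = true := by decide +kernel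
theorem L7tn0_1_0 : allZ (L7tn0.ent H15.XCo2C.P L7th_P L7X_P L7X_P L7ce_P (nat_lit 7) (nat_lit 2) H15.XCo2C.B L7tl11 [] (memO L7cc11)) (nat_lit 0) (nat_lit 2) = true := by decide +kernel
theorem L7c_f11 : (Nat.ble L7cc11.K 6 && Nat.ble (topK []) L7cc11.K && Nat.beq (L7cc11.Pt 0) (L7tl11.Pt 0) && Nat.beq (ltAll 2300 [L7tl10.Pt 0, L7tl9.Pt 0, L7tl8.Pt 0, L7tl7.Pt 0, L7tl6.Pt 0, L7tl5.Pt 0, L7tl4.Pt 0, L7tl3.Pt 0, L7tl2.Pt 0, L7tl1.Pt 0, L7tl0.Pt 0]) 0 && kChk L7ce_P L7X_P L7cc11.K 2 H15.XCo2C.B [L7tl10.Pt 0, L7tl9.Pt 0, L7tl8.Pt 0, L7tl7.Pt 0, L7tl6.Pt 0, L7tl5.Pt 0, L7tl4.Pt 0, L7tl3.Pt 0, L7tl2.Pt 0, L7tl1.Pt 0, L7tl0.Pt 0]) = true := by decide +kernel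
theorem L7c_f10 : (Nat.ble L7tl10.K 20 && Nat.blt (nat_lit 17) 2300 && fixLetters L7th_P L7tl10.K (nat_lit 17) && Nat.beq (ltAll 2 [nat_lit 0, nat_lit 1]) 0 && Nat.beq (apW L7X_P [nat_lit 0, nat_lit 1] (nat_lit 17)) (L7tl10.Pt 0)) = true := by decide +kernel
theorem L7c_f9 : (Nat.ble L7tl9.K 20 && Nat.blt (nat_lit 17) 2300 && fixLetters L7th_P L7tl9.K (nat_lit 17) && Nat.beq (ltAll 2 [nat_lit 1]) 0 && Nat.beq (apW L7X_P [nat_lit 1] (nat_lit 17)) (L7tl9.Pt 0)) = true := by decide +kernel
theorem L7c_f8 : (Nat.ble L7tl8.K 20 && Nat.blt (nat_lit 17) 2300 && fixLetters L7th_P L7tl8.K (nat_lit 17) && Nat.beq (ltAll 2 [nat_lit 0]) 0 && Nat.beq (apW L7X_P [nat_lit 0] (nat_lit 17)) (L7tl8.Pt 0)) = true := by decide +kernel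
theorem L7cc7_e_0 : allZ (dent L7cc7 L7ce_P (nat_lit 2300)) (nat_lit 0) (nat_lit 1) = true := by decide +kernel
theorem L7cc7_h : 0 < L7cc7.n ∧ 0 < L7cc7.K ∧ L7cc7.Pt 0 < 2300 ∧ L7cc7.Q (L7cc7.Pt 0) = 0 := by decide +kernel
theorem L7tn1_0 : (Nat.ble L7tl7.K 20 && Nat.beq (ltAll 2300 [L7tl6.Pt 0, L7tl5.Pt 0, L7tl4.Pt 0, L7tl3.Pt 0, L7tl2.Pt 0, L7tl1.Pt 0, L7tl0.Pt 0]) 0 && kChk L7ce_P L7X_P L7tn1.Kn 2 H15.XCo2C.B [L7tl6.Pt 0, L7tl5.Pt 0, L7tl4.Pt 0, L7tl3.Pt 0, L7tl2.Pt 0, L7tl1.Pt 0, L7tl0.Pt 0] && allL (ltAll 2) L7tn1.pre && planOK L7th_P L7X_P 2 (L7tl7.Pt 0) L7tn1.plan [L7tl7, L7tl8, L7tl9, L7tl10, L7tl11]) = true := by decide +kernel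
theorem L7tn1_1_0 : allZ (L7tn1.ent H15.XCo2C.P L7th_P L7X_P L7X_P L7ce_P (nat_lit 7) (nat_lit 2) H15.XCo2C.B L7tl7 [L7tl8, L7tl9, L7tl10, L7tl11] (memO L7cc7)) (nat_lit 0) (nat_lit 32) = true := by decide +kernel
theorem L7c_f7 : (Nat.ble L7cc7.K 6 && Nat.ble (topK [L7cc11]) L7cc7.K && Nat.beq (L7cc7.Pt 0) (L7tl7.Pt 0) && Nat.beq (ltAll 2300 [L7tl6.Pt 0, L7tl5.Pt 0, L7tl4.Pt 0, L7tl3.Pt 0, L7tl2.Pt 0, L7tl1.Pt 0, L7tl0.Pt 0]) 0 && kChk L7ce_P L7X_P L7cc7.K 2 H15.XCo2C.B [L7tl6.Pt 0, L7tl5.Pt 0, L7tl4.Pt 0, L7tl3.Pt 0, L7tl2.Pt 0, L7tl1.Pt 0, L7tl0.Pt 0]) = true := by decide +kernel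
theorem L7cc6_e_0 : allZ (dent L7cc6 L7ce_P (nat_lit 2300)) (nat_lit 0) (nat_lit 1) = true := by decide +kernel
theorem L7cc6_h : 0 < L7cc6.n ∧ 0 < L7cc6.K ∧ L7cc6.Pt 0 < 2300 ∧ L7cc6.Q (L7cc6.Pt 0) = 0 := by decide +kernel
theorem L7tn2_0 : (Nat.ble L7tl6.K 20 && Nat.beq (ltAll 2300 [L7tl5.Pt 0, L7tl4.Pt 0, L7tl3.Pt 0, L7tl2.Pt 0, L7tl1.Pt 0, L7tl0.Pt 0]) 0 && kChk L7ce_P L7X_P L7tn2.Kn 2 H15.XCo2C.B [L7tl5.Pt 0, L7tl4.Pt 0, L7tl3.Pt 0, L7tl2.Pt 0, L7tl1.Pt 0, L7tl0.Pt 0] && allL (ltAll 2) L7tn2.pre && planOK L7th_P L7X_P 2 (L7tl6.Pt 0) L7tn2.plan [L7tl6, L7tl7, L7tl8, L7tl9, L7tl10, L7tl11]) = true := by decide +kernel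
theorem L7tn2_1_0 : allZ (L7tn2.ent H15.XCo2C.P L7th_P L7X_P L7X_P L7ce_P (nat_lit 7) (nat_lit 2) H15.XCo2C.B L7tl6 [L7tl7, L7tl8, L7tl9, L7tl10, L7tl11] (memO L7cc6)) (nat_lit 0) (nat_lit 2) = true := by decide +kernel
theorem L7c_f6 : (Nat.ble L7cc6.K 6 && Nat.ble (topK [L7cc7, L7cc11]) L7cc6.K && Nat.beq (L7cc6.Pt 0) (L7tl6.Pt 0) && Nat.beq (ltAll 2300 [L7tl5.Pt 0, L7tl4.Pt 0, L7tl3.Pt 0, L7tl2.Pt 0, L7tl1.Pt 0, L7tl0.Pt 0]) 0 && kChk L7ce_P L7X_P L7cc6.K 2 H15.XCo2C.B [L7tl5.Pt 0, L7tl4.Pt 0, L7tl3.Pt 0, L7tl2.Pt 0, L7tl1.Pt 0, L7tl0.Pt 0]) = true := by decide +kernel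
theorem L7cc5_e_0 : allZ (dent L7cc5 L7ce_P (nat_lit 2300)) (nat_lit 0) (nat_lit 1) = true := by decide +kernel
theorem L7cc5_h : 0 < L7cc5.n ∧ 0 < L7cc5.K ∧ L7cc5.Pt 0 < 2300 ∧ L7cc5.Q (L7cc5.Pt 0) = 0 := by decide +kernel
theorem L7tn3_0 : (Nat.ble L7tl5.K 20 && Nat.beq (ltAll 2300 [L7tl4.Pt 0, L7tl3.Pt 0, L7tl2.Pt 0, L7tl1.Pt 0, L7tl0.Pt 0]) 0 && kChk L7ce_P L7X_P L7tn3.Kn 2 H15.XCo2C.B [L7tl4.Pt 0, L7tl3.Pt 0, L7tl2.Pt 0, L7tl1.Pt 0, L7tl0.Pt 0] && allL (ltAll 2) L7tn3.pre && planOK L7th_P L7X_P 2 (L7tl5.Pt 0) L7tn3.plan [L7tl5, L7tl6, L7tl7, L7tl8, L7tl9, L7tl10, L7tl11]) = true := by decide +kernel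
theorem L7tn3_1_0 : allZ (L7tn3.ent H15.XCo2C.P L7th_P L7X_P L7X_P L7ce_P (nat_lit 7) (nat_lit 2) H15.XCo2C.B L7tl5 [L7tl6, L7tl7, L7tl8, L7tl9, L7tl10, L7tl11] (memO L7cc5)) (nat_lit 0) (nat_lit 2) = true := by decide +kernel
theorem L7c_f5 : (Nat.ble L7cc5.K 6 && Nat.ble (topK [L7cc6, L7cc7, L7cc11]) L7cc5.K && Nat.beq (L7cc5.Pt 0) (L7tl5.Pt 0) && Nat.beq (ltAll 2300 [L7tl4.Pt 0, L7tl3.Pt 0, L7tl2.Pt 0, L7tl1.Pt 0, L7tl0.Pt 0]) 0 && kChk L7ce_P L7X_P L7cc5.K 2 H15.XCo2C.B [L7tl4.Pt 0, L7tl3.Pt 0, L7tl2.Pt 0, L7tl1.Pt 0, L7tl0.Pt 0]) = true := by decide +kernel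
theorem L7c_f4 : (Nat.ble L7tl4.K 20 && Nat.blt (nat_lit 244) 2300 && fixLetters L7th_P L7tl4.K (nat_lit 244) && Nat.beq (ltAll 2 [nat_lit 1, nat_lit 1, nat_lit 1]) 0 && Nat.beq (apW L7X_P [nat_lit 1, nat_lit 1, nat_lit 1] (nat_lit 244)) (L7tl4.Pt 0)) = true := by decide +kernel
theorem L7c_f3 : (Nat.ble L7tl3.K 20 && Nat.blt (nat_lit 244) 2300 && fixLetters L7th_P L7tl3.K (nat_lit 244) && Nat.beq (ltAll 2 [nat_lit 1, nat_lit 1]) 0 && Nat.beq (apW L7X_P [nat_lit 1, nat_lit 1] (nat_lit 244)) (L7tl3.Pt 0)) = true := by decide +kernel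
theorem L7c_f2 : (Nat.ble L7tl2.K 20 && Nat.blt (nat_lit 244) 2300 && fixLetters L7th_P L7tl2.K (nat_lit 244) && Nat.beq (ltAll 2 [nat_lit 0]) 0 && Nat.beq (apW L7X_P [nat_lit 0] (nat_lit 244)) (L7tl2.Pt 0)) = true := by decide +kernel
theorem L7c_f1 : (Nat.ble L7tl1.K 20 && Nat.blt (nat_lit 244) 2300 && fixLetters L7th_P L7tl1.K (nat_lit 244) && Nat.beq (ltAll 2 [nat_lit 1]) 0 && Nat.beq (apW L7X_P [nat_lit 1] (nat_lit 244)) (L7tl1.Pt 0)) = true := by decide +kernel
theorem L7cc0_e_0 : allZ (dent L7cc0 L7ce_P (nat_lit 2300)) (nat_lit 0) (nat_lit 7) = true := by decide +kernel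
theorem L7cc0_h : 0 < L7cc0.n ∧ 0 < L7cc0.K ∧ L7cc0.Pt 0 < 2300 ∧ L7cc0.Q (L7cc0.Pt 0) = 0 := by decide +kernel
theorem L7tn4_0 : (Nat.ble L7tl0.K 20 && Nat.beq (ltAll 2300 []) 0 && kChk L7ce_P L7X_P L7tn4.Kn 2 H15.XCo2C.B [] && allL (ltAll 2) L7tn4.pre && planOK L7th_P L7X_P 2 (L7tl0.Pt 0) L7tn4.plan [L7tl0, L7tl1, L7tl2, L7tl3, L7tl4, L7tl5, L7tl6, L7tl7, L7tl8, L7tl9, L7tl10, L7tl11]) = true := by decide +kernel
theorem L7tn4_1_0 : allZ (L7tn4.ent H15.XCo2C.P L7th_P L7X_P L7X_P L7ce_P (nat_lit 7) (nat_lit 2) H15.XCo2C.B L7tl0 [L7tl1, L7tl2, L7tl3, L7tl4, L7tl5, L7tl6, L7tl7, L7tl8, L7tl9, L7tl10, L7tl11] (memO L7cc0)) (nat_lit 0) (nat_lit 28) = true := by decide +kernel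
theorem L7c_f0 : (Nat.ble L7cc0.K 6 && Nat.ble (topK [L7cc5, L7cc6, L7cc7, L7cc11]) L7cc0.K && Nat.beq (L7cc0.Pt 0) (L7tl0.Pt 0) && Nat.beq (ltAll 2300 []) 0 && kChk L7ce_P L7X_P L7cc0.K 2 H15.XCo2C.B []) = true := by decide +kernel
theorem L7c_c : chainCard [L7cc0, L7cc5, L7cc6, L7cc7, L7cc11] = 128 ∧ topK [L7cc0, L7cc5, L7cc6, L7cc7, L7cc11] = 6 := by decide +kernel
theorem L7Y_lt : allL (ltAll 14) L7Y_W = true := by decide +kernel
theorem L7_le_k : allZ (fun a => Nat.add (ltAll 6 (nth [] [[nat_lit 0, nat_lit 3, nat_lit 5],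
  [nat_lit 0],
  [nat_lit 5],
  [nat_lit 1, nat_lit 4, nat_lit 5],
  [nat_lit 0, nat_lit 2, nat_lit 4, nat_lit 5],
  [nat_lit 1, nat_lit 5]] a)) (sumL (fun β => Nat.xor (L7ce_P a β) (apW L7Y_P (nth [] [[nat_lit 0, nat_lit 3, nat_lit 5],
  [nat_lit 0],
  [nat_lit 5],
  [nat_lit 1, nat_lit 4, nat_lit 5],
  [nat_lit 0, nat_lit 2, nat_lit 4, nat_lit 5],
  [nat_lit 1, nat_lit 5]] a) β)) H15.XCo2C.B)) 0 6 = true := by decide +kernel
theorem L7_m_a : allZ2 (lsEnt EQ L7Y_W L7 128 L7T) (nat_lit 6) (nat_lit 128) = true := by decide +kernel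
theorem Rc : allL (fun p => Nat.add (Nat.add (ltAll 4 p.1) (ltAll 4 p.2)) (EQ (flat ([[], [], [2], [3]]) p.1) (flat ([[], [], [2], [3]]) p.2))) R0 = true ∧ allL (fun p => Nat.add (Nat.add (ltAll 8 p.1) (ltAll 8 p.2)) (EQ (flat (X8 []) p.1) (flat (X8 []) p.2))) R1 = true ∧ allL (fun p => Nat.add (Nat.add (ltAll 8 p.1) (ltAll 8 p.2)) (EQ (flat (X8 [2]) p.1) (flat (X8 [2]) p.2))) R2 = true := by decide +kernel
theorem enA_0 : allZ (fun i => force i fun i => orZ (kill NE [[], [], nth [] L7 i, [3]] R0) (anyL (Nat.xor i) LA)) (nat_lit 0) (nat_lit 128) = true := by decide +kernel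
theorem enBc_r_0 : allZ (fun c => force c fun c => loop2 ((fun c i => enB (Nat.div c 4) (Nat.mod c 4) i) c) 0 128) (nat_lit 0) (nat_lit 4) = true := by decide +kernel
theorem enBc_r_1 : allZ (fun c => force c fun c => loop2 ((fun c i => enB (Nat.div c 4) (Nat.mod c 4) i) c) 0 128) (nat_lit 4) (nat_lit 4) = true := by decide +kernel
theorem enBc_r_2 : allZ (fun c => force c fun c => loop2 ((fun c i => enB (Nat.div c 4) (Nat.mod c 4) i) c) 0 128) (nat_lit 8) (nat_lit 4) = true := by decide +kernel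
theorem enBc_r_3 : allZ (fun c => force c fun c => loop2 ((fun c i => enB (Nat.div c 4) (Nat.mod c 4) i) c) 0 128) (nat_lit 12) (nat_lit 4) = true := by decide +kernel
theorem vyc : allZ (fun k => Nat.add (ltAll 8 (nth [] VY k)) (EQ (flat VY (nth [] VY k)) [k])) 0 8 = true := by decide +kernel
theorem LKX_lt : allL (ltAll 14) LKX_W = true := by decide +kernel
theorem LKX_m_a : allZ2 (matEnt (wdsP J_P LKX_W) LKX_P) (nat_lit 2) (nat_lit 2300) = true := by decide +kernel
theorem LKth_lt : allL (ltAll 7) LKth_W = true := by decide +kernel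
theorem LKtl0_e_0 : allZ (dent LKtl0 LKth_P (nat_lit 2300)) (nat_lit 0) (nat_lit 255) = true := by decide +kernel
theorem LKtl0_h : 0 < LKtl0.n ∧ 0 < LKtl0.K ∧ LKtl0.Pt 0 < 2300 ∧ LKtl0.Q (LKtl0.Pt 0) = 0 := by decide +kernel
theorem LKtl1_e_0 : allZ (dent LKtl1 LKth_P (nat_lit 2300)) (nat_lit 0) (nat_lit 134) = true := by decide +kernel
theorem LKtl1_h : 0 < LKtl1.n ∧ 0 < LKtl1.K ∧ LKtl1.Pt 0 < 2300 ∧ LKtl1.Q (LKtl1.Pt 0) = 0 := by decide +kernel
theorem LKtl2_e_0 : allZ (dent LKtl2 LKth_P (nat_lit 2300)) (nat_lit 0) (nat_lit 63) = true := by decide +kernel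
theorem LKtl2_h : 0 < LKtl2.n ∧ 0 < LKtl2.K ∧ LKtl2.Pt 0 < 2300 ∧ LKtl2.Q (LKtl2.Pt 0) = 0 := by decide +kernel
theorem LKtl3_e_0 : allZ (dent LKtl3 LKth_P (nat_lit 2300)) (nat_lit 0) (nat_lit 20) = true := by decide +kernel
theorem LKtl3_h : 0 < LKtl3.n ∧ 0 < LKtl3.K ∧ LKtl3.Pt 0 < 2300 ∧ LKtl3.Q (LKtl3.Pt 0) = 0 := by decide +kernel
theorem LKtl4_e_0 : allZ (dent LKtl4 LKth_P (nat_lit 2300)) (nat_lit 0) (nat_lit 1) = true := by decide +kernel
theorem LKtl4_h : 0 < LKtl4.n ∧ 0 < LKtl4.K ∧ LKtl4.Pt 0 < 2300 ∧ LKtl4.Q (LKtl4.Pt 0) = 0 := by decide +kernel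
theorem LKtl5_e_0 : allZ (dent LKtl5 LKth_P (nat_lit 2300)) (nat_lit 0) (nat_lit 1) = true := by decide +kernel
theorem LKtl5_h : 0 < LKtl5.n ∧ 0 < LKtl5.K ∧ LKtl5.Pt 0 < 2300 ∧ LKtl5.Q (LKtl5.Pt 0) = 0 := by decide +kernel
theorem LKtl6_e_0 : allZ (dent LKtl6 LKth_P (nat_lit 2300)) (nat_lit 0) (nat_lit 1) = true := by decide +kernel
theorem LKtl6_h : 0 < LKtl6.n ∧ 0 < LKtl6.K ∧ LKtl6.Pt 0 < 2300 ∧ LKtl6.Q (LKtl6.Pt 0) = 0 := by decide +kernel
theorem LKtl7_e_0 : allZ (dent LKtl7 LKth_P (nat_lit 2300)) (nat_lit 0) (nat_lit 1) = true := by decide +kernel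
theorem LKtl7_h : 0 < LKtl7.n ∧ 0 < LKtl7.K ∧ LKtl7.Pt 0 < 2300 ∧ LKtl7.Q (LKtl7.Pt 0) = 0 := by decide +kernel
theorem LKt_f7 : (Nat.ble LKtl7.K 16 && Nat.ble (topK []) LKtl7.K && fixLetters LKth_P (topK []) (LKtl7.Pt 0)) = true := by decide +kernel
theorem LKt_f6 : (Nat.ble LKtl6.K 16 && Nat.ble (topK [LKtl7]) LKtl6.K && fixLetters LKth_P (topK [LKtl7]) (LKtl6.Pt 0)) = true := by decide +kernel
theorem LKt_f5 : (Nat.ble LKtl5.K 16 && Nat.ble (topK [LKtl6, LKtl7]) LKtl5.K && fixLetters LKth_P (topK [LKtl6, LKtl7]) (LKtl5.Pt 0)) = true := by decide +kernel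
theorem LKt_f4 : (Nat.ble LKtl4.K 16 && Nat.ble (topK [LKtl5, LKtl6, LKtl7]) LKtl4.K && fixLetters LKth_P (topK [LKtl5, LKtl6, LKtl7]) (LKtl4.Pt 0)) = true := by decide +kernel
theorem LKt_f3 : (Nat.ble LKtl3.K 16 && Nat.ble (topK [LKtl4, LKtl5, LKtl6, LKtl7]) LKtl3.K && fixLetters LKth_P (topK [LKtl4, LKtl5, LKtl6, LKtl7]) (LKtl3.Pt 0)) = true := by decide +kernel
theorem LKt_f2 : (Nat.ble LKtl2.K 16 && Nat.ble (topK [LKtl3, LKtl4, LKtl5, LKtl6, LKtl7]) LKtl2.K && fixLetters LKth_P (topK [LKtl3, LKtl4, LKtl5, LKtl6, LKtl7]) (LKtl2.Pt 0)) = true := by decide +kernel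
theorem LKt_f1 : (Nat.ble LKtl1.K 16 && Nat.ble (topK [LKtl2, LKtl3, LKtl4, LKtl5, LKtl6, LKtl7]) LKtl1.K && fixLetters LKth_P (topK [LKtl2, LKtl3, LKtl4, LKtl5, LKtl6, LKtl7]) (LKtl1.Pt 0)) = true := by decide +kernel
theorem LKt_f0 : (Nat.ble LKtl0.K 16 && Nat.ble (topK [LKtl1, LKtl2, LKtl3, LKtl4, LKtl5, LKtl6, LKtl7]) LKtl0.K && fixLetters LKth_P (topK [LKtl1, LKtl2, LKtl3, LKtl4, LKtl5, LKtl6, LKtl7]) (LKtl0.Pt 0)) = true := by decide +kernel
theorem LKt_c : chainCard [LKtl0, LKtl1, LKtl2, LKtl3, LKtl4, LKtl5, LKtl6, LKtl7] = 743178240 := by decide +kernel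
theorem LKce_lt : allL (ltAll 7) LKce_W = true := by decide +kernel
theorem LKcc7_e_0 : allZ (dent LKcc7 LKce_P (nat_lit 2300)) (nat_lit 0) (nat_lit 1) = true := by decide +kernel
theorem LKcc7_h : 0 < LKcc7.n ∧ 0 < LKcc7.K ∧ LKcc7.Pt 0 < 2300 ∧ LKcc7.Q (LKcc7.Pt 0) = 0 := by decide +kernel
theorem LKtn0_0 : (Nat.ble LKtl7.K 16 && Nat.beq (ltAll 2300 [LKtl6.Pt 0, LKtl5.Pt 0, LKtl4.Pt 0, LKtl3.Pt 0, LKtl2.Pt 0, LKtl1.Pt 0, LKtl0.Pt 0]) 0 && kChk LKce_P LKX_P LKtn0.Kn 2 H15.XCo2C.B [LKtl6.Pt 0, LKtl5.Pt 0, LKtl4.Pt 0, LKtl3.Pt 0, LKtl2.Pt 0, LKtl1.Pt 0, LKtl0.Pt 0] && allL (ltAll 2) LKtn0.pre && planOK LKth_P LKX_P 2 (LKtl7.Pt 0) LKtn0.plan [LKtl7]) = true := by decide +kernel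
theorem LKtn0_1_0 : allZ (LKtn0.ent H15.XCo2C.P LKth_P LKX_P LKX_P LKce_P (nat_lit 7) (nat_lit 2) H15.XCo2C.B LKtl7 [] (memO LKcc7)) (nat_lit 0) (nat_lit 2) = true := by decide +kernel
theorem LKc_f7 : (Nat.ble LKcc7.K 4 && Nat.ble (topK []) LKcc7.K && Nat.beq (LKcc7.Pt 0) (LKtl7.Pt 0) && Nat.beq (ltAll 2300 [LKtl6.Pt 0, LKtl5.Pt 0, LKtl4.Pt 0, LKtl3.Pt 0, LKtl2.Pt 0, LKtl1.Pt 0, LKtl0.Pt 0]) 0 && kChk LKce_P LKX_P LKcc7.K 2 H15.XCo2C.B [LKtl6.Pt 0, LKtl5.Pt 0, LKtl4.Pt 0, LKtl3.Pt 0, LKtl2.Pt 0, LKtl1.Pt 0, LKtl0.Pt 0]) = true := by decide +kernel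
theorem LKc_f6 : (Nat.ble LKtl6.K 16 && Nat.blt (nat_lit 4) 2300 && fixLetters LKth_P LKtl6.K (nat_lit 4) && Nat.beq (ltAll 2 [nat_lit 0]) 0 && Nat.beq (apW LKX_P [nat_lit 0] (nat_lit 4)) (LKtl6.Pt 0)) = true := by decide +kernel
theorem LKcc5_e_0 : allZ (dent LKcc5 LKce_P (nat_lit 2300)) (nat_lit 0) (nat_lit 1) = true := by decide +kernel
theorem LKcc5_h : 0 < LKcc5.n ∧ 0 < LKcc5.K ∧ LKcc5.Pt 0 < 2300 ∧ LKcc5.Q (LKcc5.Pt 0) = 0 := by decide +kernel
theorem LKtn1_0 : (Nat.ble LKtl5.K 16 && Nat.beq (ltAll 2300 [LKtl4.Pt 0, LKtl3.Pt 0, LKtl2.Pt 0, LKtl1.Pt 0, LKtl0.Pt 0]) 0 && kChk LKce_P LKX_P LKtn1.Kn 2 H15.XCo2C.B [LKtl4.Pt 0, LKtl3.Pt 0, LKtl2.Pt 0, LKtl1.Pt 0, LKtl0.Pt 0] && allL (ltAll 2) LKtn1.pre && planOK LKth_P LKX_P 2 (LKtl5.Pt 0) LKtn1.plan [LKtl5, LKtl6, LKtl7]) = true := by decide +kernel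
theorem LKtn1_1_0 : allZ (LKtn1.ent H15.XCo2C.P LKth_P LKX_P LKX_P LKce_P (nat_lit 7) (nat_lit 2) H15.XCo2C.B LKtl5 [LKtl6, LKtl7] (memO LKcc5)) (nat_lit 0) (nat_lit 2) = true := by decide +kernel
theorem LKc_f5 : (Nat.ble LKcc5.K 4 && Nat.ble (topK [LKcc7]) LKcc5.K && Nat.beq (LKcc5.Pt 0) (LKtl5.Pt 0) && Nat.beq (ltAll 2300 [LKtl4.Pt 0, LKtl3.Pt 0, LKtl2.Pt 0, LKtl1.Pt 0, LKtl0.Pt 0]) 0 && kChk LKce_P LKX_P LKcc5.K 2 H15.XCo2C.B [LKtl4.Pt 0, LKtl3.Pt 0, LKtl2.Pt 0, LKtl1.Pt 0, LKtl0.Pt 0]) = true := by decide +kernel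
theorem LKc_f4 : (Nat.ble LKtl4.K 16 && Nat.blt (nat_lit 22) 2300 && fixLetters LKth_P LKtl4.K (nat_lit 22) && Nat.beq (ltAll 2 [nat_lit 1, nat_lit 0, nat_lit 0]) 0 && Nat.beq (apW LKX_P [nat_lit 1, nat_lit 0, nat_lit 0] (nat_lit 22)) (LKtl4.Pt 0)) = true := by decide +kernel
theorem LKc_f3 : (Nat.ble LKtl3.K 16 && Nat.blt (nat_lit 22) 2300 && fixLetters LKth_P LKtl3.K (nat_lit 22) && Nat.beq (ltAll 2 [nat_lit 1, nat_lit 0]) 0 && Nat.beq (apW LKX_P [nat_lit 1, nat_lit 0] (nat_lit 22)) (LKtl3.Pt 0)) = true := by decide +kernel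
theorem LKc_f2 : (Nat.ble LKtl2.K 16 && Nat.blt (nat_lit 22) 2300 && fixLetters LKth_P LKtl2.K (nat_lit 22) && Nat.beq (ltAll 2 [nat_lit 0]) 0 && Nat.beq (apW LKX_P [nat_lit 0] (nat_lit 22)) (LKtl2.Pt 0)) = true := by decide +kernel
theorem LKc_f1 : (Nat.ble LKtl1.K 16 && Nat.blt (nat_lit 22) 2300 && fixLetters LKth_P LKtl1.K (nat_lit 22) && Nat.beq (ltAll 2 [nat_lit 1]) 0 && Nat.beq (apW LKX_P [nat_lit 1] (nat_lit 22)) (LKtl1.Pt 0)) = true := by decide +kernel
theorem LKcc0_e_0 : allZ (dent LKcc0 LKce_P (nat_lit 2300)) (nat_lit 0) (nat_lit 3) = true := by decide +kernel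
theorem LKcc0_h : 0 < LKcc0.n ∧ 0 < LKcc0.K ∧ LKcc0.Pt 0 < 2300 ∧ LKcc0.Q (LKcc0.Pt 0) = 0 := by decide +kernel
theorem LKtn2y358_lt : allL (ltAll 7) LKtn2y358_W = true := by decide +kernel
theorem LKtr3k_lt : allL (ltAll 7) LKtr3k_W = true := by decide +kernel
theorem LKtn3y4_lt : allL (ltAll 7) LKtn3y4_W = true := by decide +kernel
theorem LKtr4k_lt : allL (ltAll 7) LKtr4k_W = true := by decide +kernel
theorem LKtn4_0 : (Nat.ble LKtl7.K 16 && Nat.beq (ltAll 2300 [LKtl6.Pt 0, LKtl5.Pt 0, LKtl4.Pt 0, LKtl3.Pt 0, LKtl2.Pt 0, LKtl1.Pt 0, LKtl0.Pt 0]) 0 && kChk LKtr4k_P LKtn3y4_P LKtn4.Kn 2 H15.XCo2C.B [LKtl6.Pt 0, LKtl5.Pt 0, LKtl4.Pt 0, LKtl3.Pt 0, LKtl2.Pt 0, LKtl1.Pt 0, LKtl0.Pt 0] && allL (ltAll 2) LKtn4.pre && planOK LKth_P LKX_P 2 (LKtl7.Pt 0) LKtn4.plan [LKtl7]) = true := by decide +kernel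
theorem LKtn4_1_0 : allZ (LKtn4.ent H15.XCo2C.P LKth_P LKX_P LKtn3y4_P LKtr4k_P (nat_lit 7) (nat_lit 2) H15.XCo2C.B LKtl7 [] (fun _ => nat_lit 1)) (nat_lit 0) (nat_lit 2) = true := by decide +kernel
theorem LKtn3_0 : (Nat.ble LKtl5.K 16 && Nat.beq (ltAll 2300 [LKtl4.Pt 0, LKtl3.Pt 0, LKtl2.Pt 0, LKtl1.Pt 0, LKtl0.Pt 0]) 0 && kChk LKtr3k_P LKtn2y358_P LKtn3.Kn 2 H15.XCo2C.B [LKtl4.Pt 0, LKtl3.Pt 0, LKtl2.Pt 0, LKtl1.Pt 0, LKtl0.Pt 0] && allL (ltAll 2) LKtn3.pre && planOK LKth_P LKX_P 2 (LKtl5.Pt 0) LKtn3.plan [LKtl5, LKtl6, LKtl7]) = true := by decide +kernel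
theorem LKtn3_1_0 : allZ (LKtn3.ent H15.XCo2C.P LKth_P LKX_P LKtn2y358_P LKtr3k_P (nat_lit 7) (nat_lit 2) H15.XCo2C.B LKtl5 [LKtl6, LKtl7] (fun _ => nat_lit 1)) (nat_lit 0) (nat_lit 2) = true := by decide +kernel
theorem LKtn2_0 : (Nat.ble LKtl0.K 16 && Nat.beq (ltAll 2300 []) 0 && kChk LKce_P LKX_P LKtn2.Kn 2 H15.XCo2C.B [] && allL (ltAll 2) LKtn2.pre && planOK LKth_P LKX_P 2 (LKtl0.Pt 0) LKtn2.plan [LKtl0, LKtl1, LKtl2, LKtl3, LKtl4, LKtl5, LKtl6, LKtl7]) = true := by decide +kernel
theorem LKtn2_1_0 : allZ (LKtn2.ent H15.XCo2C.P LKth_P LKX_P LKX_P LKce_P (nat_lit 7) (nat_lit 2) H15.XCo2C.B LKtl0 [LKtl1, LKtl2, LKtl3, LKtl4, LKtl5, LKtl6, LKtl7] (memO LKcc0)) (nat_lit 0) (nat_lit 256) = true := by decide +kernel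
theorem LKc_f0 : (Nat.ble LKcc0.K 4 && Nat.ble (topK [LKcc5, LKcc7]) LKcc0.K && Nat.beq (LKcc0.Pt 0) (LKtl0.Pt 0) && Nat.beq (ltAll 2300 []) 0 && kChk LKce_P LKX_P LKcc0.K 2 H15.XCo2C.B []) = true := by decide +kernel
theorem LKc_c : chainCard [LKcc0, LKcc5, LKcc7] = 16 ∧ topK [LKcc0, LKcc5, LKcc7] = 4 := by decide +kernel
theorem LKY_lt : allL (ltAll 14) LKY_W = true := by decide +kernel
theorem LK_le_k : allZ (fun a => Nat.add (ltAll 4 (nth [] [[nat_lit 0],
  [nat_lit 2],
  [nat_lit 1, nat_lit 2, nat_lit 3],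
  [nat_lit 1]] a)) (sumL (fun β => Nat.xor (LKce_P a β) (apW LKY_P (nth [] [[nat_lit 0],
  [nat_lit 2],
  [nat_lit 1, nat_lit 2, nat_lit 3],
  [nat_lit 1]] a) β)) H15.XCo2C.B)) 0 4 = true := by decide +kernel
theorem LK_m_a : allZ2 (lsEnt EQ LKY_W LK 16 LKT) (nat_lit 4) (nat_lit 16) = true := by decide +kernel
theorem LRX_lt : allL (ltAll 14) LRX_W = true := by decide +kernel
theorem LRX_m_a : allZ2 (matEnt (wdsP J_P LRX_W) LRX_P) (nat_lit 2) (nat_lit 2300) = true := by decide +kernel
theorem LRth_lt : allL (ltAll 7) LRth_W = true := by decide +kernel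
theorem LRtl0_e_0 : allZ (dent LRtl0 LRth_P (nat_lit 2300)) (nat_lit 0) (nat_lit 255) = true := by decide +kernel
theorem LRtl0_h : 0 < LRtl0.n ∧ 0 < LRtl0.K ∧ LRtl0.Pt 0 < 2300 ∧ LRtl0.Q (LRtl0.Pt 0) = 0 := by decide +kernel
theorem LRtl1_e_0 : allZ (dent LRtl1 LRth_P (nat_lit 2300)) (nat_lit 0) (nat_lit 119) = true := by decide +kernel
theorem LRtl1_h : 0 < LRtl1.n ∧ 0 < LRtl1.K ∧ LRtl1.Pt 0 < 2300 ∧ LRtl1.Q (LRtl1.Pt 0) = 0 := by decide +kernel
theorem LRtl2_e_0 : allZ (dent LRtl2 LRth_P (nat_lit 2300)) (nat_lit 0) (nat_lit 55) = true := by decide +kernel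
theorem LRtl2_h : 0 < LRtl2.n ∧ 0 < LRtl2.K ∧ LRtl2.Pt 0 < 2300 ∧ LRtl2.Q (LRtl2.Pt 0) = 0 := by decide +kernel
theorem LRtl3_e_0 : allZ (dent LRtl3 LRth_P (nat_lit 2300)) (nat_lit 0) (nat_lit 35) = true := by decide +kernel
theorem LRtl3_h : 0 < LRtl3.n ∧ 0 < LRtl3.K ∧ LRtl3.Pt 0 < 2300 ∧ LRtl3.Q (LRtl3.Pt 0) = 0 := by decide +kernel
theorem LRtl4_e_0 : allZ (dent LRtl4 LRth_P (nat_lit 2300)) (nat_lit 0) (nat_lit 2) = true := by decide +kernel
theorem LRtl4_h : 0 < LRtl4.n ∧ 0 < LRtl4.K ∧ LRtl4.Pt 0 < 2300 ∧ LRtl4.Q (LRtl4.Pt 0) = 0 := by decide +kernel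
theorem LRtl5_e_0 : allZ (dent LRtl5 LRth_P (nat_lit 2300)) (nat_lit 0) (nat_lit 3) = true := by decide +kernel
theorem LRtl5_h : 0 < LRtl5.n ∧ 0 < LRtl5.K ∧ LRtl5.Pt 0 < 2300 ∧ LRtl5.Q (LRtl5.Pt 0) = 0 := by decide +kernel
theorem LRt_f5 : (Nat.ble LRtl5.K 16 && Nat.ble (topK []) LRtl5.K && fixLetters LRth_P (topK []) (LRtl5.Pt 0)) = true := by decide +kernel
theorem LRt_f4 : (Nat.ble LRtl4.K 16 && Nat.ble (topK [LRtl5]) LRtl4.K && fixLetters LRth_P (topK [LRtl5]) (LRtl4.Pt 0)) = true := by decide +kernel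
theorem LRt_f3 : (Nat.ble LRtl3.K 16 && Nat.ble (topK [LRtl4, LRtl5]) LRtl3.K && fixLetters LRth_P (topK [LRtl4, LRtl5]) (LRtl3.Pt 0)) = true := by decide +kernel
theorem LRt_f2 : (Nat.ble LRtl2.K 16 && Nat.ble (topK [LRtl3, LRtl4, LRtl5]) LRtl2.K && fixLetters LRth_P (topK [LRtl3, LRtl4, LRtl5]) (LRtl2.Pt 0)) = true := by decide +kernel
theorem LRt_f1 : (Nat.ble LRtl1.K 16 && Nat.ble (topK [LRtl2, LRtl3, LRtl4, LRtl5]) LRtl1.K && fixLetters LRth_P (topK [LRtl2, LRtl3, LRtl4, LRtl5]) (LRtl1.Pt 0)) = true := by decide +kernel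
theorem LRt_f0 : (Nat.ble LRtl0.K 16 && Nat.ble (topK [LRtl1, LRtl2, LRtl3, LRtl4, LRtl5]) LRtl0.K && fixLetters LRth_P (topK [LRtl1, LRtl2, LRtl3, LRtl4, LRtl5]) (LRtl0.Pt 0)) = true := by decide +kernel
theorem LRt_c : chainCard [LRtl0, LRtl1, LRtl2, LRtl3, LRtl4, LRtl5] = 743178240 := by decide +kernel
theorem LRce_lt : allL (ltAll 7) LRce_W = true := by decide +kernel
theorem LRcc5_e_0 : allZ (dent LRcc5 LRce_P (nat_lit 2300)) (nat_lit 0) (nat_lit 3) = true := by decide +kernel
theorem LRcc5_h : 0 < LRcc5.n ∧ 0 < LRcc5.K ∧ LRcc5.Pt 0 < 2300 ∧ LRcc5.Q (LRcc5.Pt 0) = 0 := by decide +kernel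
theorem LRtn0_0 : (Nat.ble LRtl5.K 16 && Nat.beq (ltAll 2300 [LRtl4.Pt 0, LRtl3.Pt 0, LRtl2.Pt 0, LRtl1.Pt 0, LRtl0.Pt 0]) 0 && kChk LRce_P LRX_P LRtn0.Kn 2 H15.XCo2C.B [LRtl4.Pt 0, LRtl3.Pt 0, LRtl2.Pt 0, LRtl1.Pt 0, LRtl0.Pt 0] && allL (ltAll 2) LRtn0.pre && planOK LRth_P LRX_P 2 (LRtl5.Pt 0) LRtn0.plan [LRtl5]) = true := by decide +kernel
theorem LRtn0_1_0 : allZ (LRtn0.ent H15.XCo2C.P LRth_P LRX_P LRX_P LRce_P (nat_lit 7) (nat_lit 2) H15.XCo2C.B LRtl5 [] (memO LRcc5)) (nat_lit 0) (nat_lit 4) = true := by decide +kernel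
theorem LRc_f5 : (Nat.ble LRcc5.K 2 && Nat.ble (topK []) LRcc5.K && Nat.beq (LRcc5.Pt 0) (LRtl5.Pt 0) && Nat.beq (ltAll 2300 [LRtl4.Pt 0, LRtl3.Pt 0, LRtl2.Pt 0, LRtl1.Pt 0, LRtl0.Pt 0]) 0 && kChk LRce_P LRX_P LRcc5.K 2 H15.XCo2C.B [LRtl4.Pt 0, LRtl3.Pt 0, LRtl2.Pt 0, LRtl1.Pt 0, LRtl0.Pt 0]) = true := by decide +kernel
theorem LRc_f4 : (Nat.ble LRtl4.K 16 && Nat.blt (nat_lit 1426) 2300 && fixLetters LRth_P LRtl4.K (nat_lit 1426) && Nat.beq (ltAll 2 [nat_lit 1, nat_lit 1, nat_lit 1]) 0 && Nat.beq (apW LRX_P [nat_lit 1, nat_lit 1, nat_lit 1] (nat_lit 1426)) (LRtl4.Pt 0)) = true := by decide +kernel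
theorem LRc_f3 : (Nat.ble LRtl3.K 16 && Nat.blt (nat_lit 1426) 2300 && fixLetters LRth_P LRtl3.K (nat_lit 1426) && Nat.beq (ltAll 2 [nat_lit 1, nat_lit 1]) 0 && Nat.beq (apW LRX_P [nat_lit 1, nat_lit 1] (nat_lit 1426)) (LRtl3.Pt 0)) = true := by decide +kernel
theorem LRc_f2 : (Nat.ble LRtl2.K 16 && Nat.blt (nat_lit 1426) 2300 && fixLetters LRth_P LRtl2.K (nat_lit 1426) && Nat.beq (ltAll 2 [nat_lit 1, nat_lit 0]) 0 && Nat.beq (apW LRX_P [nat_lit 1, nat_lit 0] (nat_lit 1426)) (LRtl2.Pt 0)) = true := by decide +kernel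
theorem LRc_f1 : (Nat.ble LRtl1.K 16 && Nat.blt (nat_lit 1426) 2300 && fixLetters LRth_P LRtl1.K (nat_lit 1426) && Nat.beq (ltAll 2 [nat_lit 1]) 0 && Nat.beq (apW LRX_P [nat_lit 1] (nat_lit 1426)) (LRtl1.Pt 0)) = true := by decide +kernel
theorem LRtn1_0 : (Nat.ble LRtl0.K 16 && Nat.beq (ltAll 2300 []) 0 && kChk LRce_P LRX_P LRtn1.Kn 2 H15.XCo2C.B [] && allL (ltAll 2) LRtn1.pre && planOK LRth_P LRX_P 2 (LRtl0.Pt 0) LRtn1.plan [LRtl0, LRtl1, LRtl2, LRtl3, LRtl4, LRtl5]) = true := by decide +kernel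
theorem LRtn1_1_0 : allZ (LRtn1.ent H15.XCo2C.P LRth_P LRX_P LRX_P LRce_P (nat_lit 7) (nat_lit 2) H15.XCo2C.B LRtl0 [LRtl1, LRtl2, LRtl3, LRtl4, LRtl5] (fun w => Nat.xor w (LRtl0.Pt (nat_lit 0)))) (nat_lit 0) (nat_lit 256) = true := by decide +kernel
theorem LRc_c : chainCard [LRcc5] = 4 ∧ topK [LRcc5] = 2 := by decide +kernel
theorem LRY_lt : allL (ltAll 14) LRY_W = true := by decide +kernel
theorem LR_le_k : allZ (fun a => Nat.add (ltAll 2 (nth [] [[nat_lit 0],
  [nat_lit 0, nat_lit 1]] a)) (sumL (fun β => Nat.xor (LRce_P a β) (apW LRY_P (nth [] [[nat_lit 0],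
  [nat_lit 0, nat_lit 1]] a) β)) H15.XCo2C.B)) 0 2 = true := by decide +kernel
theorem LR_m_a : allZ2 (lsEnt EQ LRY_W LR 4 LRT) (nat_lit 2) (nat_lit 4) = true := by decide +kernel

theorem L6X_act {G Ω : Type*} [Group G] [MulAction G Ω] {g : ℕ → G} {pt : ℕ → Ω}
    (M : Md g pt H15.XCo2C.P 2300 7 H15.XCo2C.B 743178240) : Act (wds (wds g J_W) L6X_W) pt L6X_P 2300 1 :=
  (J_act M).wds L6X_lt _
theorem L6th_act {G Ω : Type*} [Group G] [MulAction G Ω] {g : ℕ → G} {pt : ℕ → Ω}
    (M : Md g pt H15.XCo2C.P 2300 7 H15.XCo2C.B 743178240) : Act (wds g L6th_W) pt L6th_P 2300 19 :=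
  M.wact L6th_lt
theorem L6tl0_e : ∀ i < 27, (dent L6tl0 L6th_P (nat_lit 2300)) i = 0 := allZ_sound0 L6tl0_e_0
theorem L6tl0_ok : DOK L6tl0 L6th_P 2300 := ⟨L6tl0_h, L6tl0_e⟩
theorem L6tl1_e : ∀ i < 26, (dent L6tl1 L6th_P (nat_lit 2300)) i = 0 := allZ_sound0 L6tl1_e_0
theorem L6tl1_ok : DOK L6tl1 L6th_P 2300 := ⟨L6tl1_h, L6tl1_e⟩
theorem L6tl2_e : ∀ i < 9, (dent L6tl2 L6th_P (nat_lit 2300)) i = 0 := allZ_sound0 L6tl2_e_0
theorem L6tl2_ok : DOK L6tl2 L6th_P 2300 := ⟨L6tl2_h, L6tl2_e⟩
theorem L6tl3_e : ∀ i < 7, (dent L6tl3 L6th_P (nat_lit 2300)) i = 0 := allZ_sound0 L6tl3_e_0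
theorem L6tl3_ok : DOK L6tl3 L6th_P 2300 := ⟨L6tl3_h, L6tl3_e⟩
theorem L6tl4_e : ∀ i < 3, (dent L6tl4 L6th_P (nat_lit 2300)) i = 0 := allZ_sound0 L6tl4_e_0
theorem L6tl4_ok : DOK L6tl4 L6th_P 2300 := ⟨L6tl4_h, L6tl4_e⟩
theorem L6tl5_e : ∀ i < 2, (dent L6tl5 L6th_P (nat_lit 2300)) i = 0 := allZ_sound0 L6tl5_e_0
theorem L6tl5_ok : DOK L6tl5 L6th_P 2300 := ⟨L6tl5_h, L6tl5_e⟩
theorem L6tl6_e : ∀ i < 1, (dent L6tl6 L6th_P (nat_lit 2300)) i = 0 := allZ_sound0 L6tl6_e_0
theorem L6tl6_ok : DOK L6tl6 L6th_P 2300 := ⟨L6tl6_h, L6tl6_e⟩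
theorem L6tl7_e : ∀ i < 31, (dent L6tl7 L6th_P (nat_lit 2300)) i = 0 := allZ_sound0 L6tl7_e_0
theorem L6tl7_ok : DOK L6tl7 L6th_P 2300 := ⟨L6tl7_h, L6tl7_e⟩
theorem L6tl8_e : ∀ i < 1, (dent L6tl8 L6th_P (nat_lit 2300)) i = 0 := allZ_sound0 L6tl8_e_0
theorem L6tl8_ok : DOK L6tl8 L6th_P 2300 := ⟨L6tl8_h, L6tl8_e⟩
theorem L6tl9_e : ∀ i < 1, (dent L6tl9 L6th_P (nat_lit 2300)) i = 0 := allZ_sound0 L6tl9_e_0
theorem L6tl9_ok : DOK L6tl9 L6th_P 2300 := ⟨L6tl9_h, L6tl9_e⟩
theorem L6tl10_e : ∀ i < 1, (dent L6tl10 L6th_P (nat_lit 2300)) i = 0 := allZ_sound0 L6tl10_e_0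
theorem L6tl10_ok : DOK L6tl10 L6th_P 2300 := ⟨L6tl10_h, L6tl10_e⟩
theorem L6tl11_e : ∀ i < 1, (dent L6tl11 L6th_P (nat_lit 2300)) i = 0 := allZ_sound0 L6tl11_e_0
theorem L6tl11_ok : DOK L6tl11 L6th_P 2300 := ⟨L6tl11_h, L6tl11_e⟩
theorem L6t_low {G Ω : Type*} [Group G] [MulAction G Ω] {g : ℕ → G} {pt : ℕ → Ω}
    (M : Md g pt H15.XCo2C.P 2300 7 H15.XCo2C.B 743178240) : SLow (gi (wds g L6th_W)) pt 2300 [L6tl0, L6tl1, L6tl2, L6tl3, L6tl4, L6tl5, L6tl6, L6tl7, L6tl8, L6tl9, L6tl10, L6tl11] :=
  ((((((((((((SLow.nil).cons L6tl11_ok (L6th_act M) L6t_f11).cons L6tl10_ok (L6th_act M) L6t_f10).cons L6tl9_ok (L6th_act M) L6t_f9).cons L6tl8_ok (L6th_act M) L6t_f8).cons L6tl7_ok (L6th_act M) L6t_f7).cons L6tl6_ok (L6th_act M) L6t_f6).cons L6tl5_ok (L6th_act M) L6t_f5).cons L6tl4_ok (L6th_act M) L6t_f4).cons L6tl3_ok (L6th_act M) L6t_f3).cons L6tl2_ok (L6th_act M) L6t_f2).cons L6tl1_ok (L6th_act M) L6t_f1).cons L6tl0_ok (L6th_act M) L6t_f0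
theorem L6t_S0 {G Ω : Type*} [Group G] [MulAction G Ω] {g : ℕ → G} {pt : ℕ → Ω}
    (M : Md g pt H15.XCo2C.P 2300 7 H15.XCo2C.B 743178240) : Stage ⊤ (wds g L6th_W) pt 2300 [L6tl0, L6tl1, L6tl2, L6tl3, L6tl4, L6tl5, L6tl6, L6tl7, L6tl8, L6tl9, L6tl10, L6tl11] [] :=
  M.stage (L6t_low M) L6t_c
theorem L6t_S1 {G Ω : Type*} [Group G] [MulAction G Ω] {g : ℕ → G} {pt : ℕ → Ω}
    (M : Md g pt H15.XCo2C.P 2300 7 H15.XCo2C.B 743178240) : Stage ⊤ (wds g L6th_W) pt 2300 [L6tl1, L6tl2, L6tl3, L6tl4, L6tl5, L6tl6, L6tl7, L6tl8, L6tl9, L6tl10, L6tl11] [L6tl0.Pt 0] :=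
  (L6t_S0 M).next
theorem L6t_S2 {G Ω : Type*} [Group G] [MulAction G Ω] {g : ℕ → G} {pt : ℕ → Ω}
    (M : Md g pt H15.XCo2C.P 2300 7 H15.XCo2C.B 743178240) : Stage ⊤ (wds g L6th_W) pt 2300 [L6tl2, L6tl3, L6tl4, L6tl5, L6tl6, L6tl7, L6tl8, L6tl9, L6tl10, L6tl11] [L6tl1.Pt 0, L6tl0.Pt 0] :=
  (L6t_S1 M).next
theorem L6t_S3 {G Ω : Type*} [Group G] [MulAction G Ω] {g : ℕ → G} {pt : ℕ → Ω}
    (M : Md g pt H15.XCo2C.P 2300 7 H15.XCo2C.B 743178240) : Stage ⊤ (wds g L6th_W) pt 2300 [L6tl3, L6tl4, L6tl5, L6tl6, L6tl7, L6tl8, L6tl9, L6tl10, L6tl11] [L6tl2.Pt 0, L6tl1.Pt 0, L6tl0.Pt 0] :=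
  (L6t_S2 M).next
theorem L6t_S4 {G Ω : Type*} [Group G] [MulAction G Ω] {g : ℕ → G} {pt : ℕ → Ω}
    (M : Md g pt H15.XCo2C.P 2300 7 H15.XCo2C.B 743178240) : Stage ⊤ (wds g L6th_W) pt 2300 [L6tl4, L6tl5, L6tl6, L6tl7, L6tl8, L6tl9, L6tl10, L6tl11] [L6tl3.Pt 0, L6tl2.Pt 0, L6tl1.Pt 0, L6tl0.Pt 0] :=
  (L6t_S3 M).next
theorem L6t_S5 {G Ω : Type*} [Group G] [MulAction G Ω] {g : ℕ → G} {pt : ℕ → Ω}
    (M : Md g pt H15.XCo2C.P 2300 7 H15.XCo2C.B 743178240) : Stage ⊤ (wds g L6th_W) pt 2300 [L6tl5, L6tl6, L6tl7, L6tl8, L6tl9, L6tl10, L6tl11] [L6tl4.Pt 0, L6tl3.Pt 0, L6tl2.Pt 0, L6tl1.Pt 0, L6tl0.Pt 0] :=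
  (L6t_S4 M).next
theorem L6t_S6 {G Ω : Type*} [Group G] [MulAction G Ω] {g : ℕ → G} {pt : ℕ → Ω}
    (M : Md g pt H15.XCo2C.P 2300 7 H15.XCo2C.B 743178240) : Stage ⊤ (wds g L6th_W) pt 2300 [L6tl6, L6tl7, L6tl8, L6tl9, L6tl10, L6tl11] [L6tl5.Pt 0, L6tl4.Pt 0, L6tl3.Pt 0, L6tl2.Pt 0, L6tl1.Pt 0, L6tl0.Pt 0] :=
  (L6t_S5 M).next
theorem L6t_S7 {G Ω : Type*} [Group G] [MulAction G Ω] {g : ℕ → G} {pt : ℕ → Ω}
    (M : Md g pt H15.XCo2C.P 2300 7 H15.XCo2C.B 743178240) : Stage ⊤ (wds g L6th_W) pt 2300 [L6tl7, L6tl8, L6tl9, L6tl10, L6tl11] [L6tl6.Pt 0, L6tl5.Pt 0, L6tl4.Pt 0, L6tl3.Pt 0, L6tl2.Pt 0, L6tl1.Pt 0, L6tl0.Pt 0] :=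
  (L6t_S6 M).next
theorem L6t_S8 {G Ω : Type*} [Group G] [MulAction G Ω] {g : ℕ → G} {pt : ℕ → Ω}
    (M : Md g pt H15.XCo2C.P 2300 7 H15.XCo2C.B 743178240) : Stage ⊤ (wds g L6th_W) pt 2300 [L6tl8, L6tl9, L6tl10, L6tl11] [L6tl7.Pt 0, L6tl6.Pt 0, L6tl5.Pt 0, L6tl4.Pt 0, L6tl3.Pt 0, L6tl2.Pt 0, L6tl1.Pt 0, L6tl0.Pt 0] :=
  (L6t_S7 M).next
theorem L6t_S9 {G Ω : Type*} [Group G] [MulAction G Ω] {g : ℕ → G} {pt : ℕ → Ω}
    (M : Md g pt H15.XCo2C.P 2300 7 H15.XCo2C.B 743178240) : Stage ⊤ (wds g L6th_W) pt 2300 [L6tl9, L6tl10, L6tl11] [L6tl8.Pt 0, L6tl7.Pt 0, L6tl6.Pt 0, L6tl5.Pt 0, L6tl4.Pt 0, L6tl3.Pt 0, L6tl2.Pt 0, L6tl1.Pt 0, L6tl0.Pt 0] :=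
  (L6t_S8 M).next
theorem L6t_S10 {G Ω : Type*} [Group G] [MulAction G Ω] {g : ℕ → G} {pt : ℕ → Ω}
    (M : Md g pt H15.XCo2C.P 2300 7 H15.XCo2C.B 743178240) : Stage ⊤ (wds g L6th_W) pt 2300 [L6tl10, L6tl11] [L6tl9.Pt 0, L6tl8.Pt 0, L6tl7.Pt 0, L6tl6.Pt 0, L6tl5.Pt 0, L6tl4.Pt 0, L6tl3.Pt 0, L6tl2.Pt 0, L6tl1.Pt 0, L6tl0.Pt 0] :=
  (L6t_S9 M).next
theorem L6t_S11 {G Ω : Type*} [Group G] [MulAction G Ω] {g : ℕ → G} {pt : ℕ → Ω}
    (M : Md g pt H15.XCo2C.P 2300 7 H15.XCo2C.B 743178240) : Stage ⊤ (wds g L6th_W) pt 2300 [L6tl11] [L6tl10.Pt 0, L6tl9.Pt 0, L6tl8.Pt 0, L6tl7.Pt 0, L6tl6.Pt 0, L6tl5.Pt 0, L6tl4.Pt 0, L6tl3.Pt 0, L6tl2.Pt 0, L6tl1.Pt 0, L6tl0.Pt 0] :=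
  (L6t_S10 M).next
theorem L6t_S12 {G Ω : Type*} [Group G] [MulAction G Ω] {g : ℕ → G} {pt : ℕ → Ω}
    (M : Md g pt H15.XCo2C.P 2300 7 H15.XCo2C.B 743178240) : Stage ⊤ (wds g L6th_W) pt 2300 [] [L6tl11.Pt 0, L6tl10.Pt 0, L6tl9.Pt 0, L6tl8.Pt 0, L6tl7.Pt 0, L6tl6.Pt 0, L6tl5.Pt 0, L6tl4.Pt 0, L6tl3.Pt 0, L6tl2.Pt 0, L6tl1.Pt 0, L6tl0.Pt 0] :=
  (L6t_S11 M).next
theorem L6ce_act {G Ω : Type*} [Group G] [MulAction G Ω] {g : ℕ → G} {pt : ℕ → Ω}
    (M : Md g pt H15.XCo2C.P 2300 7 H15.XCo2C.B 743178240) : Act (wds g L6ce_W) pt L6ce_P 2300 4 :=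
  M.wact L6ce_lt
theorem L6cc7_e : ∀ i < 1, (dent L6cc7 L6ce_P (nat_lit 2300)) i = 0 := allZ_sound0 L6cc7_e_0
theorem L6cc7_ok : DOK L6cc7 L6ce_P 2300 := ⟨L6cc7_h, L6cc7_e⟩
theorem L6tn0_1 : ∀ i < 32, (L6tn0.ent H15.XCo2C.P L6th_P L6X_P L6X_P L6ce_P (nat_lit 7) (nat_lit 1) H15.XCo2C.B L6tl7 [L6tl8, L6tl9, L6tl10, L6tl11] (memO L6cc7)) i = 0 := allZ_sound0 L6tn0_1_0
theorem L6tn0_t {G Ω : Type*} [Group G] [MulAction G Ω] {g : ℕ → G} {pt : ℕ → Ω}
    (M : Md g pt H15.XCo2C.P 2300 7 H15.XCo2C.B 743178240) : TrO (gen (wds g L6th_W) L6tl7.K) (wds (wds g J_W) L6X_W) (wds (wds g J_W) L6X_W) 1 pt 2300 (L6tl7.Pt 0) (memO L6cc7) :=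
  node M (L6t_S7 M) (L6th_act M) (L6X_act M) (L6X_act M) L6tn0 ((L6ce_act M).mono (by decide)) (fun _ _ => trivial) L6tn0_0 L6tn0_1 (List.forall_mem_nil _)
theorem L6cc6_e : ∀ i < 1, (dent L6cc6 L6ce_P (nat_lit 2300)) i = 0 := allZ_sound0 L6cc6_e_0
theorem L6cc6_ok : DOK L6cc6 L6ce_P 2300 := ⟨L6cc6_h, L6cc6_e⟩
theorem L6tn1_1 : ∀ i < 2, (L6tn1.ent H15.XCo2C.P L6th_P L6X_P L6X_P L6ce_P (nat_lit 7) (nat_lit 1) H15.XCo2C.B L6tl6 [L6tl7, L6tl8, L6tl9, L6tl10, L6tl11] (memO L6cc6)) i = 0 := allZ_sound0 L6tn1_1_0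
theorem L6tn1_t {G Ω : Type*} [Group G] [MulAction G Ω] {g : ℕ → G} {pt : ℕ → Ω}
    (M : Md g pt H15.XCo2C.P 2300 7 H15.XCo2C.B 743178240) : TrO (gen (wds g L6th_W) L6tl6.K) (wds (wds g J_W) L6X_W) (wds (wds g J_W) L6X_W) 1 pt 2300 (L6tl6.Pt 0) (memO L6cc6) :=
  node M (L6t_S6 M) (L6th_act M) (L6X_act M) (L6X_act M) L6tn1 ((L6ce_act M).mono (by decide)) (fun _ _ => trivial) L6tn1_0 L6tn1_1 (List.forall_mem_nil _)
theorem L6cc5_e : ∀ i < 2, (dent L6cc5 L6ce_P (nat_lit 2300)) i = 0 := allZ_sound0 L6cc5_e_0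
theorem L6cc5_ok : DOK L6cc5 L6ce_P 2300 := ⟨L6cc5_h, L6cc5_e⟩
theorem L6tn2_1 : ∀ i < 3, (L6tn2.ent H15.XCo2C.P L6th_P L6X_P L6X_P L6ce_P (nat_lit 7) (nat_lit 1) H15.XCo2C.B L6tl5 [L6tl6, L6tl7, L6tl8, L6tl9, L6tl10, L6tl11] (memO L6cc5)) i = 0 := allZ_sound0 L6tn2_1_0
theorem L6tn2_t {G Ω : Type*} [Group G] [MulAction G Ω] {g : ℕ → G} {pt : ℕ → Ω}
    (M : Md g pt H15.XCo2C.P 2300 7 H15.XCo2C.B 743178240) : TrO (gen (wds g L6th_W) L6tl5.K) (wds (wds g J_W) L6X_W) (wds (wds g J_W) L6X_W) 1 pt 2300 (L6tl5.Pt 0) (memO L6cc5) :=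
  node M (L6t_S5 M) (L6th_act M) (L6X_act M) (L6X_act M) L6tn2 ((L6ce_act M).mono (by decide)) (fun _ _ => trivial) L6tn2_0 L6tn2_1 (List.forall_mem_nil _)
theorem L6cc0_e : ∀ i < 4, (dent L6cc0 L6ce_P (nat_lit 2300)) i = 0 := allZ_sound0 L6cc0_e_0
theorem L6cc0_ok : DOK L6cc0 L6ce_P 2300 := ⟨L6cc0_h, L6cc0_e⟩
theorem L6tn3_1 : ∀ i < 28, (L6tn3.ent H15.XCo2C.P L6th_P L6X_P L6X_P L6ce_P (nat_lit 7) (nat_lit 1) H15.XCo2C.B L6tl0 [L6tl1, L6tl2, L6tl3, L6tl4, L6tl5, L6tl6, L6tl7, L6tl8, L6tl9, L6tl10, L6tl11] (memO L6cc0)) i = 0 := allZ_sound0 L6tn3_1_0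
theorem L6tn3_t {G Ω : Type*} [Group G] [MulAction G Ω] {g : ℕ → G} {pt : ℕ → Ω}
    (M : Md g pt H15.XCo2C.P 2300 7 H15.XCo2C.B 743178240) : TrO (gen (wds g L6th_W) L6tl0.K) (wds (wds g J_W) L6X_W) (wds (wds g J_W) L6X_W) 1 pt 2300 (L6tl0.Pt 0) (memO L6cc0) :=
  node M (L6t_S0 M) (L6th_act M) (L6X_act M) (L6X_act M) L6tn3 ((L6ce_act M).mono (by decide)) (fun _ _ => trivial) L6tn3_0 L6tn3_1 (List.forall_mem_nil _)
theorem L6c {G Ω : Type*} [Group G] [MulAction G Ω] {g : ℕ → G} {pt : ℕ → Ω}
    (M : Md g pt H15.XCo2C.P 2300 7 H15.XCo2C.B 743178240) : Cen ⊤ (wds (wds g J_W) L6X_W) 1 (wds g L6ce_W) pt 2300 [L6cc0, L6cc5, L6cc6, L6cc7] :=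
  (L6t_S0 M).top ▸ Cen.lev M (L6t_S0 M) (Cen.triv (L6t_S1 M) (Cen.triv (L6t_S2 M) (Cen.triv (L6t_S3 M) (Cen.triv (L6t_S4 M) (Cen.lev M (L6t_S5 M) (Cen.lev M (L6t_S6 M) (Cen.lev M (L6t_S7 M) (Cen.triv (L6t_S8 M) (Cen.triv (L6t_S9 M) (Cen.triv (L6t_S10 M) (Cen.triv (L6t_S11 M) (Cen.bot) (forced (L6t_S11 M) (L6th_act M) (L6X_act M) _ _ L6c_f11)) (forced (L6t_S10 M) (L6th_act M) (L6X_act M) _ _ L6c_f10)) (forced (L6t_S9 M) (L6th_act M) (L6X_act M) _ _ L6c_f9)) (forced (L6t_S8 M) (L6th_act M) (L6X_act M) _ _ L6c_f8)) (L6tn0_t M) (L6X_act M) (L6ce_act M) (fun _ _ => trivial) L6cc7_ok L6c_f7) (L6tn1_t M) (L6X_act M) (L6ce_act M) (fun _ _ => trivial) L6cc6_ok L6c_f6) (L6tn2_t M) (L6X_act M) (L6ce_act M) (fun _ _ => trivial) L6cc5_ok L6c_f5) (forced (L6t_S4 M) (L6th_act M) (L6X_act M) _ _ L6c_f4)) (forced (L6t_S3 M) (L6th_act M) (L6X_act M) _ _ L6c_f3)) (forced (L6t_S2 M) (L6th_act M) (L6X_act M) _ _ L6c_f2)) (forced (L6t_S1 M) (L6th_act M) (L6X_act M) _ _ L6c_f1)) (L6tn3_t M) (L6X_act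 M) (L6ce_act M) (fun _ _ => trivial) L6cc0_ok L6c_f0
theorem L6c_card {G Ω : Type*} [Group G] [MulAction G Ω] {g : ℕ → G} {pt : ℕ → Ω}
    (M : Md g pt H15.XCo2C.P 2300 7 H15.XCo2C.B 743178240) : Nat.card (Subgroup.centralizer {(wds (wds g J_W) L6X_W) 0}) = 60 :=
  (L6c M).card_cent1 M.inj L6c_c.1
theorem L6c_eq {G Ω : Type*} [Group G] [MulAction G Ω] {g : ℕ → G} {pt : ℕ → Ω}
    (M : Md g pt H15.XCo2C.P 2300 7 H15.XCo2C.B 743178240) : Subgroup.centralizer (gen (wds (wds g J_W) L6X_W) 1) = gen (wds g L6ce_W) 4 ∧ Nat.card (gen (wds g L6ce_W) 4) = 60 :=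
  L6c_c.1 ▸ L6c_c.2 ▸ ⟨(L6c M).cent, (L6c M).card M.inj⟩
theorem L6Y_act {G Ω : Type*} [Group G] [MulAction G Ω] {g : ℕ → G} {pt : ℕ → Ω}
    (M : Md g pt H15.XCo2C.P 2300 7 H15.XCo2C.B 743178240) : Act (wds (wds g J_W) L6Y_W) pt L6Y_P 2300 4 :=
  (J_act M).wds L6Y_lt _
theorem L6_le {G Ω : Type*} [Group G] [MulAction G Ω] {g : ℕ → G} {pt : ℕ → Ω}
    (M : Md g pt H15.XCo2C.P 2300 7 H15.XCo2C.B 743178240) : gen (wds g L6ce_W) 4 ≤ gen (wds (wds g J_W) L6Y_W) 4 :=
  M.gen_le (L6Y_act M) (L6ce_act M) L6_le_k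
theorem L6_m : ∀ k < 4, ∀ i < 60, (lsEnt EQ L6Y_W L6 60 L6T) k i = 0 := allZ2_sound L6_m_a
theorem L6_c {G Ω : Type*} [Group G] [MulAction G Ω] {g : ℕ → G} {pt : ℕ → Ω}
    (M : Md g pt H15.XCo2C.P 2300 7 H15.XCo2C.B 743178240) {a : G} (ha : ∀ k < 1, a * (wds (wds g J_W) L6X_W) k = (wds (wds g J_W) L6X_W) k * a) : ∃ i < 60, a = wds (wds g J_W) L6 i :=
  have := M.fin
  lst (cK M) ⟨rfl, by decide⟩ L6_m (cen_le (L6c_eq M) (L6_le M) ha)
theorem sA : ∀ i < 60, (fun i => force i fun i => orZ (NE (nth [] L6 i ++ nth [] L6 i) []) (anyL (fun m => anyL (fun v => EQ (nth [] L6 i ++ rp m [11]) (rp m [11] ++ nth [] V4 v)) (List.range 4)) (List.range 3))) i = 0 := allZ_sound0 sA_0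
theorem sB : ∀ i < 60, (fun i => force i fun i => orZ (NE (nth [] L6 i ++ [1]) (1 :: nth [] L6 i)) (anyL (fun m => anyL (fun v => EQ (nth [] L6 i ++ 5 :: rp m [3]) (rp m [3] ++ (nth [] V4 v ++ [5]))) (List.range 4)) (List.range 5))) i = 0 := allZ_sound0 sB_0
theorem sC : ∀ i < 60, (fun i => force i fun i => orZ (anyL (fun k => NE (k :: nth [] L6 i) (nth [] L6 i ++ [k])) (List.range 8)) (anyL (fun v => EQ (nth [] L6 i) (nth [] V4 v)) (List.range 4))) i = 0 := allZ_sound0 sC_0
theorem L7X_act {G Ω : Type*} [Group G] [MulAction G Ω] {g : ℕ → G} {pt : ℕ → Ω}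
    (M : Md g pt H15.XCo2C.P 2300 7 H15.XCo2C.B 743178240) : Act (wds (wds g J_W) L7X_W) pt L7X_P 2300 2 :=
  (J_act M).wds L7X_lt _
theorem L7th_act {G Ω : Type*} [Group G] [MulAction G Ω] {g : ℕ → G} {pt : ℕ → Ω}
    (M : Md g pt H15.XCo2C.P 2300 7 H15.XCo2C.B 743178240) : Act (wds g L7th_W) pt L7th_P 2300 20 :=
  M.wact L7th_lt
theorem L7tl0_e : ∀ i < 27, (dent L7tl0 L7th_P (nat_lit 2300)) i = 0 := allZ_sound0 L7tl0_e_0
theorem L7tl0_ok : DOK L7tl0 L7th_P 2300 := ⟨L7tl0_h, L7tl0_e⟩
theorem L7tl1_e : ∀ i < 26, (dent L7tl1 L7th_P (nat_lit 2300)) i = 0 := allZ_sound0 L7tl1_e_0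
theorem L7tl1_ok : DOK L7tl1 L7th_P 2300 := ⟨L7tl1_h, L7tl1_e⟩
theorem L7tl2_e : ∀ i < 9, (dent L7tl2 L7th_P (nat_lit 2300)) i = 0 := allZ_sound0 L7tl2_e_0
theorem L7tl2_ok : DOK L7tl2 L7th_P 2300 := ⟨L7tl2_h, L7tl2_e⟩
theorem L7tl3_e : ∀ i < 7, (dent L7tl3 L7th_P (nat_lit 2300)) i = 0 := allZ_sound0 L7tl3_e_0
theorem L7tl3_ok : DOK L7tl3 L7th_P 2300 := ⟨L7tl3_h, L7tl3_e⟩
theorem L7tl4_e : ∀ i < 5, (dent L7tl4 L7th_P (nat_lit 2300)) i = 0 := allZ_sound0 L7tl4_e_0
theorem L7tl4_ok : DOK L7tl4 L7th_P 2300 := ⟨L7tl4_h, L7tl4_e⟩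
theorem L7tl5_e : ∀ i < 1, (dent L7tl5 L7th_P (nat_lit 2300)) i = 0 := allZ_sound0 L7tl5_e_0
theorem L7tl5_ok : DOK L7tl5 L7th_P 2300 := ⟨L7tl5_h, L7tl5_e⟩
theorem L7tl6_e : ∀ i < 1, (dent L7tl6 L7th_P (nat_lit 2300)) i = 0 := allZ_sound0 L7tl6_e_0
theorem L7tl6_ok : DOK L7tl6 L7th_P 2300 := ⟨L7tl6_h, L7tl6_e⟩
theorem L7tl7_e : ∀ i < 31, (dent L7tl7 L7th_P (nat_lit 2300)) i = 0 := allZ_sound0 L7tl7_e_0
theorem L7tl7_ok : DOK L7tl7 L7th_P 2300 := ⟨L7tl7_h, L7tl7_e⟩
theorem L7tl8_e : ∀ i < 1, (dent L7tl8 L7th_P (nat_lit 2300)) i = 0 := allZ_sound0 L7tl8_e_0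
theorem L7tl8_ok : DOK L7tl8 L7th_P 2300 := ⟨L7tl8_h, L7tl8_e⟩
theorem L7tl9_e : ∀ i < 1, (dent L7tl9 L7th_P (nat_lit 2300)) i = 0 := allZ_sound0 L7tl9_e_0
theorem L7tl9_ok : DOK L7tl9 L7th_P 2300 := ⟨L7tl9_h, L7tl9_e⟩
theorem L7tl10_e : ∀ i < 1, (dent L7tl10 L7th_P (nat_lit 2300)) i = 0 := allZ_sound0 L7tl10_e_0
theorem L7tl10_ok : DOK L7tl10 L7th_P 2300 := ⟨L7tl10_h, L7tl10_e⟩
theorem L7tl11_e : ∀ i < 1, (dent L7tl11 L7th_P (nat_lit 2300)) i = 0 := allZ_sound0 L7tl11_e_0
theorem L7tl11_ok : DOK L7tl11 L7th_P 2300 := ⟨L7tl11_h, L7tl11_e⟩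
theorem L7t_low {G Ω : Type*} [Group G] [MulAction G Ω] {g : ℕ → G} {pt : ℕ → Ω}
    (M : Md g pt H15.XCo2C.P 2300 7 H15.XCo2C.B 743178240) : SLow (gi (wds g L7th_W)) pt 2300 [L7tl0, L7tl1, L7tl2, L7tl3, L7tl4, L7tl5, L7tl6, L7tl7, L7tl8, L7tl9, L7tl10, L7tl11] :=
  ((((((((((((SLow.nil).cons L7tl11_ok (L7th_act M) L7t_f11).cons L7tl10_ok (L7th_act M) L7t_f10).cons L7tl9_ok (L7th_act M) L7t_f9).cons L7tl8_ok (L7th_act M) L7t_f8).cons L7tl7_ok (L7th_act M) L7t_f7).cons L7tl6_ok (L7th_act M) L7t_f6).cons L7tl5_ok (L7th_act M) L7t_f5).cons L7tl4_ok (L7th_act M) L7t_f4).cons L7tl3_ok (L7th_act M) L7t_f3).cons L7tl2_ok (L7th_act M) L7t_f2).cons L7tl1_ok (L7th_act M) L7t_f1).cons L7tl0_ok (L7th_act M) L7t_f0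
theorem L7t_S0 {G Ω : Type*} [Group G] [MulAction G Ω] {g : ℕ → G} {pt : ℕ → Ω}
    (M : Md g pt H15.XCo2C.P 2300 7 H15.XCo2C.B 743178240) : Stage ⊤ (wds g L7th_W) pt 2300 [L7tl0, L7tl1, L7tl2, L7tl3, L7tl4, L7tl5, L7tl6, L7tl7, L7tl8, L7tl9, L7tl10, L7tl11] [] :=
  M.stage (L7t_low M) L7t_c
theorem L7t_S1 {G Ω : Type*} [Group G] [MulAction G Ω] {g : ℕ → G} {pt : ℕ → Ω}
    (M : Md g pt H15.XCo2C.P 2300 7 H15.XCo2C.B 743178240) : Stage ⊤ (wds g L7th_W) pt 2300 [L7tl1, L7tl2, L7tl3, L7tl4, L7tl5, L7tl6, L7tl7, L7tl8, L7tl9, L7tl10, L7tl11] [L7tl0.Pt 0] :=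
  (L7t_S0 M).next
theorem L7t_S2 {G Ω : Type*} [Group G] [MulAction G Ω] {g : ℕ → G} {pt : ℕ → Ω}
    (M : Md g pt H15.XCo2C.P 2300 7 H15.XCo2C.B 743178240) : Stage ⊤ (wds g L7th_W) pt 2300 [L7tl2, L7tl3, L7tl4, L7tl5, L7tl6, L7tl7, L7tl8, L7tl9, L7tl10, L7tl11] [L7tl1.Pt 0, L7tl0.Pt 0] :=
  (L7t_S1 M).next
theorem L7t_S3 {G Ω : Type*} [Group G] [MulAction G Ω] {g : ℕ → G} {pt : ℕ → Ω}
    (M : Md g pt H15.XCo2C.P 2300 7 H15.XCo2C.B 743178240) : Stage ⊤ (wds g L7th_W) pt 2300 [L7tl3, L7tl4, L7tl5, L7tl6, L7tl7, L7tl8, L7tl9, L7tl10, L7tl11] [L7tl2.Pt 0, L7tl1.Pt 0, L7tl0.Pt 0] :=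
  (L7t_S2 M).next
theorem L7t_S4 {G Ω : Type*} [Group G] [MulAction G Ω] {g : ℕ → G} {pt : ℕ → Ω}
    (M : Md g pt H15.XCo2C.P 2300 7 H15.XCo2C.B 743178240) : Stage ⊤ (wds g L7th_W) pt 2300 [L7tl4, L7tl5, L7tl6, L7tl7, L7tl8, L7tl9, L7tl10, L7tl11] [L7tl3.Pt 0, L7tl2.Pt 0, L7tl1.Pt 0, L7tl0.Pt 0] :=
  (L7t_S3 M).next
theorem L7t_S5 {G Ω : Type*} [Group G] [MulAction G Ω] {g : ℕ → G} {pt : ℕ → Ω}
    (M : Md g pt H15.XCo2C.P 2300 7 H15.XCo2C.B 743178240) : Stage ⊤ (wds g L7th_W) pt 2300 [L7tl5, L7tl6, L7tl7, L7tl8, L7tl9, L7tl10, L7tl11] [L7tl4.Pt 0, L7tl3.Pt 0, L7tl2.Pt 0, L7tl1.Pt 0, L7tl0.Pt 0] :=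
  (L7t_S4 M).next
theorem L7t_S6 {G Ω : Type*} [Group G] [MulAction G Ω] {g : ℕ → G} {pt : ℕ → Ω}
    (M : Md g pt H15.XCo2C.P 2300 7 H15.XCo2C.B 743178240) : Stage ⊤ (wds g L7th_W) pt 2300 [L7tl6, L7tl7, L7tl8, L7tl9, L7tl10, L7tl11] [L7tl5.Pt 0, L7tl4.Pt 0, L7tl3.Pt 0, L7tl2.Pt 0, L7tl1.Pt 0, L7tl0.Pt 0] :=
  (L7t_S5 M).next
theorem L7t_S7 {G Ω : Type*} [Group G] [MulAction G Ω] {g : ℕ → G} {pt : ℕ → Ω}
    (M : Md g pt H15.XCo2C.P 2300 7 H15.XCo2C.B 743178240) : Stage ⊤ (wds g L7th_W) pt 2300 [L7tl7, L7tl8, L7tl9, L7tl10, L7tl11] [L7tl6.Pt 0, L7tl5.Pt 0, L7tl4.Pt 0, L7tl3.Pt 0, L7tl2.Pt 0, L7tl1.Pt 0, L7tl0.Pt 0] :=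
  (L7t_S6 M).next
theorem L7t_S8 {G Ω : Type*} [Group G] [MulAction G Ω] {g : ℕ → G} {pt : ℕ → Ω}
    (M : Md g pt H15.XCo2C.P 2300 7 H15.XCo2C.B 743178240) : Stage ⊤ (wds g L7th_W) pt 2300 [L7tl8, L7tl9, L7tl10, L7tl11] [L7tl7.Pt 0, L7tl6.Pt 0, L7tl5.Pt 0, L7tl4.Pt 0, L7tl3.Pt 0, L7tl2.Pt 0, L7tl1.Pt 0, L7tl0.Pt 0] :=
  (L7t_S7 M).next
theorem L7t_S9 {G Ω : Type*} [Group G] [MulAction G Ω] {g : ℕ → G} {pt : ℕ → Ω}
    (M : Md g pt H15.XCo2C.P 2300 7 H15.XCo2C.B 743178240) : Stage ⊤ (wds g L7th_W) pt 2300 [L7tl9, L7tl10, L7tl11] [L7tl8.Pt 0, L7tl7.Pt 0, L7tl6.Pt 0, L7tl5.Pt 0, L7tl4.Pt 0, L7tl3.Pt 0, L7tl2.Pt 0, L7tl1.Pt 0, L7tl0.Pt 0] :=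
  (L7t_S8 M).next
theorem L7t_S10 {G Ω : Type*} [Group G] [MulAction G Ω] {g : ℕ → G} {pt : ℕ → Ω}
    (M : Md g pt H15.XCo2C.P 2300 7 H15.XCo2C.B 743178240) : Stage ⊤ (wds g L7th_W) pt 2300 [L7tl10, L7tl11] [L7tl9.Pt 0, L7tl8.Pt 0, L7tl7.Pt 0, L7tl6.Pt 0, L7tl5.Pt 0, L7tl4.Pt 0, L7tl3.Pt 0, L7tl2.Pt 0, L7tl1.Pt 0, L7tl0.Pt 0] :=
  (L7t_S9 M).next
theorem L7t_S11 {G Ω : Type*} [Group G] [MulAction G Ω] {g : ℕ → G} {pt : ℕ → Ω}
    (M : Md g pt H15.XCo2C.P 2300 7 H15.XCo2C.B 743178240) : Stage ⊤ (wds g L7th_W) pt 2300 [L7tl11] [L7tl10.Pt 0, L7tl9.Pt 0, L7tl8.Pt 0, L7tl7.Pt 0, L7tl6.Pt 0, L7tl5.Pt 0, L7tl4.Pt 0, L7tl3.Pt 0, L7tl2.Pt 0, L7tl1.Pt 0, L7tl0.Pt 0] :=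
  (L7t_S10 M).next
theorem L7t_S12 {G Ω : Type*} [Group G] [MulAction G Ω] {g : ℕ → G} {pt : ℕ → Ω}
    (M : Md g pt H15.XCo2C.P 2300 7 H15.XCo2C.B 743178240) : Stage ⊤ (wds g L7th_W) pt 2300 [] [L7tl11.Pt 0, L7tl10.Pt 0, L7tl9.Pt 0, L7tl8.Pt 0, L7tl7.Pt 0, L7tl6.Pt 0, L7tl5.Pt 0, L7tl4.Pt 0, L7tl3.Pt 0, L7tl2.Pt 0, L7tl1.Pt 0, L7tl0.Pt 0] :=
  (L7t_S11 M).next
theorem L7ce_act {G Ω : Type*} [Group G] [MulAction G Ω] {g : ℕ → G} {pt : ℕ → Ω}
    (M : Md g pt H15.XCo2C.P 2300 7 H15.XCo2C.B 743178240) : Act (wds g L7ce_W) pt L7ce_P 2300 6 :=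
  M.wact L7ce_lt
theorem L7cc11_e : ∀ i < 1, (dent L7cc11 L7ce_P (nat_lit 2300)) i = 0 := allZ_sound0 L7cc11_e_0
theorem L7cc11_ok : DOK L7cc11 L7ce_P 2300 := ⟨L7cc11_h, L7cc11_e⟩
theorem L7tn0_1 : ∀ i < 2, (L7tn0.ent H15.XCo2C.P L7th_P L7X_P L7X_P L7ce_P (nat_lit 7) (nat_lit 2) H15.XCo2C.B L7tl11 [] (memO L7cc11)) i = 0 := allZ_sound0 L7tn0_1_0
theorem L7tn0_t {G Ω : Type*} [Group G] [MulAction G Ω] {g : ℕ → G} {pt : ℕ → Ω}
    (M : Md g pt H15.XCo2C.P 2300 7 H15.XCo2C.B 743178240) : TrO (gen (wds g L7th_W) L7tl11.K) (wds (wds g J_W) L7X_W) (wds (wds g J_W) L7X_W) 2 pt 2300 (L7tl11.Pt 0) (memO L7cc11) :=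
  node M (L7t_S11 M) (L7th_act M) (L7X_act M) (L7X_act M) L7tn0 ((L7ce_act M).mono (by decide)) (fun _ _ => trivial) L7tn0_0 L7tn0_1 (List.forall_mem_nil _)
theorem L7cc7_e : ∀ i < 1, (dent L7cc7 L7ce_P (nat_lit 2300)) i = 0 := allZ_sound0 L7cc7_e_0
theorem L7cc7_ok : DOK L7cc7 L7ce_P 2300 := ⟨L7cc7_h, L7cc7_e⟩
theorem L7tn1_1 : ∀ i < 32, (L7tn1.ent H15.XCo2C.P L7th_P L7X_P L7X_P L7ce_P (nat_lit 7) (nat_lit 2) H15.XCo2C.B L7tl7 [L7tl8, L7tl9, L7tl10, L7tl11] (memO L7cc7)) i = 0 := allZ_sound0 L7tn1_1_0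
theorem L7tn1_t {G Ω : Type*} [Group G] [MulAction G Ω] {g : ℕ → G} {pt : ℕ → Ω}
    (M : Md g pt H15.XCo2C.P 2300 7 H15.XCo2C.B 743178240) : TrO (gen (wds g L7th_W) L7tl7.K) (wds (wds g J_W) L7X_W) (wds (wds g J_W) L7X_W) 2 pt 2300 (L7tl7.Pt 0) (memO L7cc7) :=
  node M (L7t_S7 M) (L7th_act M) (L7X_act M) (L7X_act M) L7tn1 ((L7ce_act M).mono (by decide)) (fun _ _ => trivial) L7tn1_0 L7tn1_1 (List.forall_mem_nil _)
theorem L7cc6_e : ∀ i < 1, (dent L7cc6 L7ce_P (nat_lit 2300)) i = 0 := allZ_sound0 L7cc6_e_0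
theorem L7cc6_ok : DOK L7cc6 L7ce_P 2300 := ⟨L7cc6_h, L7cc6_e⟩
theorem L7tn2_1 : ∀ i < 2, (L7tn2.ent H15.XCo2C.P L7th_P L7X_P L7X_P L7ce_P (nat_lit 7) (nat_lit 2) H15.XCo2C.B L7tl6 [L7tl7, L7tl8, L7tl9, L7tl10, L7tl11] (memO L7cc6)) i = 0 := allZ_sound0 L7tn2_1_0
theorem L7tn2_t {G Ω : Type*} [Group G] [MulAction G Ω] {g : ℕ → G} {pt : ℕ → Ω}
    (M : Md g pt H15.XCo2C.P 2300 7 H15.XCo2C.B 743178240) : TrO (gen (wds g L7th_W) L7tl6.K) (wds (wds g J_W) L7X_W) (wds (wds g J_W) L7X_W) 2 pt 2300 (L7tl6.Pt 0) (memO L7cc6) :=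
  node M (L7t_S6 M) (L7th_act M) (L7X_act M) (L7X_act M) L7tn2 ((L7ce_act M).mono (by decide)) (fun _ _ => trivial) L7tn2_0 L7tn2_1 (List.forall_mem_nil _)
theorem L7cc5_e : ∀ i < 1, (dent L7cc5 L7ce_P (nat_lit 2300)) i = 0 := allZ_sound0 L7cc5_e_0
theorem L7cc5_ok : DOK L7cc5 L7ce_P 2300 := ⟨L7cc5_h, L7cc5_e⟩
theorem L7tn3_1 : ∀ i < 2, (L7tn3.ent H15.XCo2C.P L7th_P L7X_P L7X_P L7ce_P (nat_lit 7) (nat_lit 2) H15.XCo2C.B L7tl5 [L7tl6, L7tl7, L7tl8, L7tl9, L7tl10, L7tl11] (memO L7cc5)) i = 0 := allZ_sound0 L7tn3_1_0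
theorem L7tn3_t {G Ω : Type*} [Group G] [MulAction G Ω] {g : ℕ → G} {pt : ℕ → Ω}
    (M : Md g pt H15.XCo2C.P 2300 7 H15.XCo2C.B 743178240) : TrO (gen (wds g L7th_W) L7tl5.K) (wds (wds g J_W) L7X_W) (wds (wds g J_W) L7X_W) 2 pt 2300 (L7tl5.Pt 0) (memO L7cc5) :=
  node M (L7t_S5 M) (L7th_act M) (L7X_act M) (L7X_act M) L7tn3 ((L7ce_act M).mono (by decide)) (fun _ _ => trivial) L7tn3_0 L7tn3_1 (List.forall_mem_nil _)
theorem L7cc0_e : ∀ i < 7, (dent L7cc0 L7ce_P (nat_lit 2300)) i = 0 := allZ_sound0 L7cc0_e_0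
theorem L7cc0_ok : DOK L7cc0 L7ce_P 2300 := ⟨L7cc0_h, L7cc0_e⟩
theorem L7tn4_1 : ∀ i < 28, (L7tn4.ent H15.XCo2C.P L7th_P L7X_P L7X_P L7ce_P (nat_lit 7) (nat_lit 2) H15.XCo2C.B L7tl0 [L7tl1, L7tl2, L7tl3, L7tl4, L7tl5, L7tl6, L7tl7, L7tl8, L7tl9, L7tl10, L7tl11] (memO L7cc0)) i = 0 := allZ_sound0 L7tn4_1_0
theorem L7tn4_t {G Ω : Type*} [Group G] [MulAction G Ω] {g : ℕ → G} {pt : ℕ → Ω}
    (M : Md g pt H15.XCo2C.P 2300 7 H15.XCo2C.B 743178240) : TrO (gen (wds g L7th_W) L7tl0.K) (wds (wds g J_W) L7X_W) (wds (wds g J_W) L7X_W) 2 pt 2300 (L7tl0.Pt 0) (memO L7cc0) :=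
  node M (L7t_S0 M) (L7th_act M) (L7X_act M) (L7X_act M) L7tn4 ((L7ce_act M).mono (by decide)) (fun _ _ => trivial) L7tn4_0 L7tn4_1 (List.forall_mem_nil _)
theorem L7c {G Ω : Type*} [Group G] [MulAction G Ω] {g : ℕ → G} {pt : ℕ → Ω}
    (M : Md g pt H15.XCo2C.P 2300 7 H15.XCo2C.B 743178240) : Cen ⊤ (wds (wds g J_W) L7X_W) 2 (wds g L7ce_W) pt 2300 [L7cc0, L7cc5, L7cc6, L7cc7, L7cc11] :=
  (L7t_S0 M).top ▸ Cen.lev M (L7t_S0 M) (Cen.triv (L7t_S1 M) (Cen.triv (L7t_S2 M) (Cen.triv (L7t_S3 M) (Cen.triv (L7t_S4 M) (Cen.lev M (L7t_S5 M) (Cen.lev M (L7t_S6 M) (Cen.lev M (L7t_S7 M) (Cen.triv (L7t_S8 M) (Cen.triv (L7t_S9 M) (Cen.triv (L7t_S10 M) (Cen.lev M (L7t_S11 M) (Cen.bot) (L7tn0_t M) (L7X_act M) (L7ce_act M) (fun _ _ => trivial) L7cc11_ok L7c_f11) (forced (L7t_S10 M) (L7th_act M) (L7X_act M) _ _ L7c_f10)) (forced (L7t_S9 M) (L7th_act M) (L7X_act M) _ _ L7c_f9)) (forced (L7t_S8 M) (L7th_act M) (L7X_act M) _ _ L7c_f8)) (L7tn1_t M) (L7X_act M) (L7ce_act M) (fun _ _ => trivial) L7cc7_ok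 L7c_f7) (L7tn2_t M) (L7X_act M) (L7ce_act M) (fun _ _ => trivial) L7cc6_ok L7c_f6) (L7tn3_t M) (L7X_act M) (L7ce_act M) (fun _ _ => trivial) L7cc5_ok L7c_f5) (forced (L7t_S4 M) (L7th_act M) (L7X_act M) _ _ L7c_f4)) (forced (L7t_S3 M) (L7th_act M) (L7X_act M) _ _ L7c_f3)) (forced (L7t_S2 M) (L7th_act M) (L7X_act M) _ _ L7c_f2)) (forced (L7t_S1 M) (L7th_act M) (L7X_act M) _ _ L7c_f1)) (L7tn4_t M) (L7X_act M) (L7ce_act M) (fun _ _ => trivial) L7cc0_ok L7c_f0
theorem L7c_eq {G Ω : Type*} [Group G] [MulAction G Ω] {g : ℕ → G} {pt : ℕ → Ω}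
    (M : Md g pt H15.XCo2C.P 2300 7 H15.XCo2C.B 743178240) : Subgroup.centralizer (gen (wds (wds g J_W) L7X_W) 2) = gen (wds g L7ce_W) 6 ∧ Nat.card (gen (wds g L7ce_W) 6) = 128 :=
  L7c_c.1 ▸ L7c_c.2 ▸ ⟨(L7c M).cent, (L7c M).card M.inj⟩
theorem L7Y_act {G Ω : Type*} [Group G] [MulAction G Ω] {g : ℕ → G} {pt : ℕ → Ω}
    (M : Md g pt H15.XCo2C.P 2300 7 H15.XCo2C.B 743178240) : Act (wds (wds g J_W) L7Y_W) pt L7Y_P 2300 6 :=
  (J_act M).wds L7Y_lt _
theorem L7_le {G Ω : Type*} [Group G] [MulAction G Ω] {g : ℕ → G} {pt : ℕ → Ω}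
    (M : Md g pt H15.XCo2C.P 2300 7 H15.XCo2C.B 743178240) : gen (wds g L7ce_W) 6 ≤ gen (wds (wds g J_W) L7Y_W) 6 :=
  M.gen_le (L7Y_act M) (L7ce_act M) L7_le_k
theorem L7_m : ∀ k < 6, ∀ i < 128, (lsEnt EQ L7Y_W L7 128 L7T) k i = 0 := allZ2_sound L7_m_a
theorem L7_c {G Ω : Type*} [Group G] [MulAction G Ω] {g : ℕ → G} {pt : ℕ → Ω}
    (M : Md g pt H15.XCo2C.P 2300 7 H15.XCo2C.B 743178240) {a : G} (ha : ∀ k < 2, a * (wds (wds g J_W) L7X_W) k = (wds (wds g J_W) L7X_W) k * a) : ∃ i < 128, a = wds (wds g J_W) L7 i :=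
  have := M.fin
  lst (cK M) ⟨rfl, by decide⟩ L7_m (cen_le (L7c_eq M) (L7_le M) ha)
theorem enA : ∀ i < 128, (fun i => force i fun i => orZ (kill NE [[], [], nth [] L7 i, [3]] R0) (anyL (Nat.xor i) LA)) i = 0 := allZ_sound0 enA_0
theorem enBc_r : ∀ i < 16, (fun c => force c fun c => loop2 ((fun c i => enB (Nat.div c 4) (Nat.mod c 4) i) c) 0 128) i = 0 := range_glue (range_glue (range_glue (allZ_sound0 enBc_r_0) enBc_r_1) enBc_r_2) enBc_r_3
theorem enBc : ∀ c < 16, ∀ e < 128, (fun c i => enB (Nat.div c 4) (Nat.mod c 4) i) c e = 0 := grid2 enBc_r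
theorem LKX_m : ∀ k < 2, ∀ i < 2300, (matEnt (wdsP J_P LKX_W) LKX_P) k i = 0 := allZ2_sound LKX_m_a
theorem LKX_act {G Ω : Type*} [Group G] [MulAction G Ω] {g : ℕ → G} {pt : ℕ → Ω}
    (M : Md g pt H15.XCo2C.P 2300 7 H15.XCo2C.B 743178240) : Act (wds (wds g J_W) LKX_W) pt LKX_P 2300 2 :=
  act_mat ((J_act M).wds LKX_lt _) LKX_m
theorem LKth_act {G Ω : Type*} [Group G] [MulAction G Ω] {g : ℕ → G} {pt : ℕ → Ω}
    (M : Md g pt H15.XCo2C.P 2300 7 H15.XCo2C.B 743178240) : Act (wds g LKth_W) pt LKth_P 2300 16 :=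
  M.wact LKth_lt
theorem LKtl0_e : ∀ i < 255, (dent LKtl0 LKth_P (nat_lit 2300)) i = 0 := allZ_sound0 LKtl0_e_0
theorem LKtl0_ok : DOK LKtl0 LKth_P 2300 := ⟨LKtl0_h, LKtl0_e⟩
theorem LKtl1_e : ∀ i < 134, (dent LKtl1 LKth_P (nat_lit 2300)) i = 0 := allZ_sound0 LKtl1_e_0
theorem LKtl1_ok : DOK LKtl1 LKth_P 2300 := ⟨LKtl1_h, LKtl1_e⟩
theorem LKtl2_e : ∀ i < 63, (dent LKtl2 LKth_P (nat_lit 2300)) i = 0 := allZ_sound0 LKtl2_e_0
theorem LKtl2_ok : DOK LKtl2 LKth_P 2300 := ⟨LKtl2_h, LKtl2_e⟩
theorem LKtl3_e : ∀ i < 20, (dent LKtl3 LKth_P (nat_lit 2300)) i = 0 := allZ_sound0 LKtl3_e_0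
theorem LKtl3_ok : DOK LKtl3 LKth_P 2300 := ⟨LKtl3_h, LKtl3_e⟩
theorem LKtl4_e : ∀ i < 1, (dent LKtl4 LKth_P (nat_lit 2300)) i = 0 := allZ_sound0 LKtl4_e_0
theorem LKtl4_ok : DOK LKtl4 LKth_P 2300 := ⟨LKtl4_h, LKtl4_e⟩
theorem LKtl5_e : ∀ i < 1, (dent LKtl5 LKth_P (nat_lit 2300)) i = 0 := allZ_sound0 LKtl5_e_0
theorem LKtl5_ok : DOK LKtl5 LKth_P 2300 := ⟨LKtl5_h, LKtl5_e⟩
theorem LKtl6_e : ∀ i < 1, (dent LKtl6 LKth_P (nat_lit 2300)) i = 0 := allZ_sound0 LKtl6_e_0
theorem LKtl6_ok : DOK LKtl6 LKth_P 2300 := ⟨LKtl6_h, LKtl6_e⟩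
theorem LKtl7_e : ∀ i < 1, (dent LKtl7 LKth_P (nat_lit 2300)) i = 0 := allZ_sound0 LKtl7_e_0
theorem LKtl7_ok : DOK LKtl7 LKth_P 2300 := ⟨LKtl7_h, LKtl7_e⟩
theorem LKt_low {G Ω : Type*} [Group G] [MulAction G Ω] {g : ℕ → G} {pt : ℕ → Ω}
    (M : Md g pt H15.XCo2C.P 2300 7 H15.XCo2C.B 743178240) : SLow (gi (wds g LKth_W)) pt 2300 [LKtl0, LKtl1, LKtl2, LKtl3, LKtl4, LKtl5, LKtl6, LKtl7] :=
  ((((((((SLow.nil).cons LKtl7_ok (LKth_act M) LKt_f7).cons LKtl6_ok (LKth_act M) LKt_f6).cons LKtl5_ok (LKth_act M) LKt_f5).cons LKtl4_ok (LKth_act M) LKt_f4).cons LKtl3_ok (LKth_act M) LKt_f3).cons LKtl2_ok (LKth_act M) LKt_f2).cons LKtl1_ok (LKth_act M) LKt_f1).cons LKtl0_ok (LKth_act M) LKt_f0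
theorem LKt_S0 {G Ω : Type*} [Group G] [MulAction G Ω] {g : ℕ → G} {pt : ℕ → Ω}
    (M : Md g pt H15.XCo2C.P 2300 7 H15.XCo2C.B 743178240) : Stage ⊤ (wds g LKth_W) pt 2300 [LKtl0, LKtl1, LKtl2, LKtl3, LKtl4, LKtl5, LKtl6, LKtl7] [] :=
  M.stage (LKt_low M) LKt_c
theorem LKt_S1 {G Ω : Type*} [Group G] [MulAction G Ω] {g : ℕ → G} {pt : ℕ → Ω}
    (M : Md g pt H15.XCo2C.P 2300 7 H15.XCo2C.B 743178240) : Stage ⊤ (wds g LKth_W) pt 2300 [LKtl1, LKtl2, LKtl3, LKtl4, LKtl5, LKtl6, LKtl7] [LKtl0.Pt 0] :=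
  (LKt_S0 M).next
theorem LKt_S2 {G Ω : Type*} [Group G] [MulAction G Ω] {g : ℕ → G} {pt : ℕ → Ω}
    (M : Md g pt H15.XCo2C.P 2300 7 H15.XCo2C.B 743178240) : Stage ⊤ (wds g LKth_W) pt 2300 [LKtl2, LKtl3, LKtl4, LKtl5, LKtl6, LKtl7] [LKtl1.Pt 0, LKtl0.Pt 0] :=
  (LKt_S1 M).next
theorem LKt_S3 {G Ω : Type*} [Group G] [MulAction G Ω] {g : ℕ → G} {pt : ℕ → Ω}
    (M : Md g pt H15.XCo2C.P 2300 7 H15.XCo2C.B 743178240) : Stage ⊤ (wds g LKth_W) pt 2300 [LKtl3, LKtl4, LKtl5, LKtl6, LKtl7] [LKtl2.Pt 0, LKtl1.Pt 0, LKtl0.Pt 0] :=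
  (LKt_S2 M).next
theorem LKt_S4 {G Ω : Type*} [Group G] [MulAction G Ω] {g : ℕ → G} {pt : ℕ → Ω}
    (M : Md g pt H15.XCo2C.P 2300 7 H15.XCo2C.B 743178240) : Stage ⊤ (wds g LKth_W) pt 2300 [LKtl4, LKtl5, LKtl6, LKtl7] [LKtl3.Pt 0, LKtl2.Pt 0, LKtl1.Pt 0, LKtl0.Pt 0] :=
  (LKt_S3 M).next
theorem LKt_S5 {G Ω : Type*} [Group G] [MulAction G Ω] {g : ℕ → G} {pt : ℕ → Ω}
    (M : Md g pt H15.XCo2C.P 2300 7 H15.XCo2C.B 743178240) : Stage ⊤ (wds g LKth_W) pt 2300 [LKtl5, LKtl6, LKtl7] [LKtl4.Pt 0, LKtl3.Pt 0, LKtl2.Pt 0, LKtl1.Pt 0, LKtl0.Pt 0] :=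
  (LKt_S4 M).next
theorem LKt_S6 {G Ω : Type*} [Group G] [MulAction G Ω] {g : ℕ → G} {pt : ℕ → Ω}
    (M : Md g pt H15.XCo2C.P 2300 7 H15.XCo2C.B 743178240) : Stage ⊤ (wds g LKth_W) pt 2300 [LKtl6, LKtl7] [LKtl5.Pt 0, LKtl4.Pt 0, LKtl3.Pt 0, LKtl2.Pt 0, LKtl1.Pt 0, LKtl0.Pt 0] :=
  (LKt_S5 M).next
theorem LKt_S7 {G Ω : Type*} [Group G] [MulAction G Ω] {g : ℕ → G} {pt : ℕ → Ω}
    (M : Md g pt H15.XCo2C.P 2300 7 H15.XCo2C.B 743178240) : Stage ⊤ (wds g LKth_W) pt 2300 [LKtl7] [LKtl6.Pt 0, LKtl5.Pt 0, LKtl4.Pt 0, LKtl3.Pt 0, LKtl2.Pt 0, LKtl1.Pt 0, LKtl0.Pt 0] :=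
  (LKt_S6 M).next
theorem LKt_S8 {G Ω : Type*} [Group G] [MulAction G Ω] {g : ℕ → G} {pt : ℕ → Ω}
    (M : Md g pt H15.XCo2C.P 2300 7 H15.XCo2C.B 743178240) : Stage ⊤ (wds g LKth_W) pt 2300 [] [LKtl7.Pt 0, LKtl6.Pt 0, LKtl5.Pt 0, LKtl4.Pt 0, LKtl3.Pt 0, LKtl2.Pt 0, LKtl1.Pt 0, LKtl0.Pt 0] :=
  (LKt_S7 M).next
theorem LKce_act {G Ω : Type*} [Group G] [MulAction G Ω] {g : ℕ → G} {pt : ℕ → Ω}
    (M : Md g pt H15.XCo2C.P 2300 7 H15.XCo2C.B 743178240) : Act (wds g LKce_W) pt LKce_P 2300 4 :=
  M.wact LKce_lt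
theorem LKcc7_e : ∀ i < 1, (dent LKcc7 LKce_P (nat_lit 2300)) i = 0 := allZ_sound0 LKcc7_e_0
theorem LKcc7_ok : DOK LKcc7 LKce_P 2300 := ⟨LKcc7_h, LKcc7_e⟩
theorem LKtn0_1 : ∀ i < 2, (LKtn0.ent H15.XCo2C.P LKth_P LKX_P LKX_P LKce_P (nat_lit 7) (nat_lit 2) H15.XCo2C.B LKtl7 [] (memO LKcc7)) i = 0 := allZ_sound0 LKtn0_1_0
theorem LKtn0_t {G Ω : Type*} [Group G] [MulAction G Ω] {g : ℕ → G} {pt : ℕ → Ω}
    (M : Md g pt H15.XCo2C.P 2300 7 H15.XCo2C.B 743178240) : TrO (gen (wds g LKth_W) LKtl7.K) (wds (wds g J_W) LKX_W) (wds (wds g J_W) LKX_W) 2 pt 2300 (LKtl7.Pt 0) (memO LKcc7) :=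
  node M (LKt_S7 M) (LKth_act M) (LKX_act M) (LKX_act M) LKtn0 ((LKce_act M).mono (by decide)) (fun _ _ => trivial) LKtn0_0 LKtn0_1 (List.forall_mem_nil _)
theorem LKcc5_e : ∀ i < 1, (dent LKcc5 LKce_P (nat_lit 2300)) i = 0 := allZ_sound0 LKcc5_e_0
theorem LKcc5_ok : DOK LKcc5 LKce_P 2300 := ⟨LKcc5_h, LKcc5_e⟩
theorem LKtn1_1 : ∀ i < 2, (LKtn1.ent H15.XCo2C.P LKth_P LKX_P LKX_P LKce_P (nat_lit 7) (nat_lit 2) H15.XCo2C.B LKtl5 [LKtl6, LKtl7] (memO LKcc5)) i = 0 := allZ_sound0 LKtn1_1_0
theorem LKtn1_t {G Ω : Type*} [Group G] [MulAction G Ω] {g : ℕ → G} {pt : ℕ → Ω}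
    (M : Md g pt H15.XCo2C.P 2300 7 H15.XCo2C.B 743178240) : TrO (gen (wds g LKth_W) LKtl5.K) (wds (wds g J_W) LKX_W) (wds (wds g J_W) LKX_W) 2 pt 2300 (LKtl5.Pt 0) (memO LKcc5) :=
  node M (LKt_S5 M) (LKth_act M) (LKX_act M) (LKX_act M) LKtn1 ((LKce_act M).mono (by decide)) (fun _ _ => trivial) LKtn1_0 LKtn1_1 (List.forall_mem_nil _)
theorem LKcc0_e : ∀ i < 3, (dent LKcc0 LKce_P (nat_lit 2300)) i = 0 := allZ_sound0 LKcc0_e_0
theorem LKcc0_ok : DOK LKcc0 LKce_P 2300 := ⟨LKcc0_h, LKcc0_e⟩
theorem LKtn2y358_act {G Ω : Type*} [Group G] [MulAction G Ω] {g : ℕ → G} {pt : ℕ → Ω}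
    (M : Md g pt H15.XCo2C.P 2300 7 H15.XCo2C.B 743178240) : Act (wds g LKtn2y358_W) pt LKtn2y358_P 2300 2 :=
  M.wact LKtn2y358_lt
theorem LKtr3k_act {G Ω : Type*} [Group G] [MulAction G Ω] {g : ℕ → G} {pt : ℕ → Ω}
    (M : Md g pt H15.XCo2C.P 2300 7 H15.XCo2C.B 743178240) : Act (wds g LKtr3k_W) pt LKtr3k_P 2300 2 :=
  M.wact LKtr3k_lt
theorem LKtn3y4_act {G Ω : Type*} [Group G] [MulAction G Ω] {g : ℕ → G} {pt : ℕ → Ω}
    (M : Md g pt H15.XCo2C.P 2300 7 H15.XCo2C.B 743178240) : Act (wds g LKtn3y4_W) pt LKtn3y4_P 2300 2 :=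
  M.wact LKtn3y4_lt
theorem LKtr4k_act {G Ω : Type*} [Group G] [MulAction G Ω] {g : ℕ → G} {pt : ℕ → Ω}
    (M : Md g pt H15.XCo2C.P 2300 7 H15.XCo2C.B 743178240) : Act (wds g LKtr4k_W) pt LKtr4k_P 2300 2 :=
  M.wact LKtr4k_lt
theorem LKtn4_1 : ∀ i < 2, (LKtn4.ent H15.XCo2C.P LKth_P LKX_P LKtn3y4_P LKtr4k_P (nat_lit 7) (nat_lit 2) H15.XCo2C.B LKtl7 [] (fun _ => nat_lit 1)) i = 0 := allZ_sound0 LKtn4_1_0
theorem LKtn4_t {G Ω : Type*} [Group G] [MulAction G Ω] {g : ℕ → G} {pt : ℕ → Ω}
    (M : Md g pt H15.XCo2C.P 2300 7 H15.XCo2C.B 743178240) : TrO (gen (wds g LKth_W) LKtl7.K) (wds (wds g J_W) LKX_W) (wds g LKtn3y4_W) 2 pt 2300 (LKtl7.Pt 0) (fun _ => nat_lit 1) :=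
  node M (LKt_S7 M) (LKth_act M) (LKX_act M) (LKtn3y4_act M) LKtn4 ((LKtr4k_act M).mono (by decide)) (fun _ _ => trivial) LKtn4_0 LKtn4_1 (List.forall_mem_nil _)
theorem LKtr4 {G Ω : Type*} [Group G] [MulAction G Ω] {g : ℕ → G} {pt : ℕ → Ω}
    (M : Md g pt H15.XCo2C.P 2300 7 H15.XCo2C.B 743178240) : Ref (gen (wds g LKth_W) (topK [LKtl7])) (wds (wds g J_W) LKX_W) (wds g LKtn3y4_W) 2 :=
  (LKtn4_t M).ref
theorem LKtn3_1 : ∀ i < 2, (LKtn3.ent H15.XCo2C.P LKth_P LKX_P LKtn2y358_P LKtr3k_P (nat_lit 7) (nat_lit 2) H15.XCo2C.B LKtl5 [LKtl6, LKtl7] (fun _ => nat_lit 1)) i = 0 := allZ_sound0 LKtn3_1_0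
theorem LKtn3_t {G Ω : Type*} [Group G] [MulAction G Ω] {g : ℕ → G} {pt : ℕ → Ω}
    (M : Md g pt H15.XCo2C.P 2300 7 H15.XCo2C.B 743178240) : TrO (gen (wds g LKth_W) LKtl5.K) (wds (wds g J_W) LKX_W) (wds g LKtn2y358_W) 2 pt 2300 (LKtl5.Pt 0) (fun _ => nat_lit 1) :=
  node M (LKt_S5 M) (LKth_act M) (LKX_act M) (LKtn2y358_act M) LKtn3 ((LKtr3k_act M).mono (by decide)) (fun _ _ => trivial) LKtn3_0 LKtn3_1 (List.forall_mem_cons.2 ⟨LKtr4 M, List.forall_mem_nil _⟩)
theorem LKtr3 {G Ω : Type*} [Group G] [MulAction G Ω] {g : ℕ → G} {pt : ℕ → Ω}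
    (M : Md g pt H15.XCo2C.P 2300 7 H15.XCo2C.B 743178240) : Ref (gen (wds g LKth_W) (topK [LKtl5, LKtl6, LKtl7])) (wds (wds g J_W) LKX_W) (wds g LKtn2y358_W) 2 :=
  (LKtn3_t M).ref
theorem LKtn2_1 : ∀ i < 256, (LKtn2.ent H15.XCo2C.P LKth_P LKX_P LKX_P LKce_P (nat_lit 7) (nat_lit 2) H15.XCo2C.B LKtl0 [LKtl1, LKtl2, LKtl3, LKtl4, LKtl5, LKtl6, LKtl7] (memO LKcc0)) i = 0 := allZ_sound0 LKtn2_1_0
theorem LKtn2_t {G Ω : Type*} [Group G] [MulAction G Ω] {g : ℕ → G} {pt : ℕ → Ω}
    (M : Md g pt H15.XCo2C.P 2300 7 H15.XCo2C.B 743178240) : TrO (gen (wds g LKth_W) LKtl0.K) (wds (wds g J_W) LKX_W) (wds (wds g J_W) LKX_W) 2 pt 2300 (LKtl0.Pt 0) (memO LKcc0) :=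
  node M (LKt_S0 M) (LKth_act M) (LKX_act M) (LKX_act M) LKtn2 ((LKce_act M).mono (by decide)) (fun _ _ => trivial) LKtn2_0 LKtn2_1 (List.forall_mem_cons.2 ⟨LKtr3 M, List.forall_mem_nil _⟩)
theorem LKc {G Ω : Type*} [Group G] [MulAction G Ω] {g : ℕ → G} {pt : ℕ → Ω}
    (M : Md g pt H15.XCo2C.P 2300 7 H15.XCo2C.B 743178240) : Cen ⊤ (wds (wds g J_W) LKX_W) 2 (wds g LKce_W) pt 2300 [LKcc0, LKcc5, LKcc7] :=
  (LKt_S0 M).top ▸ Cen.lev M (LKt_S0 M) (Cen.triv (LKt_S1 M) (Cen.triv (LKt_S2 M) (Cen.triv (LKt_S3 M) (Cen.triv (LKt_S4 M) (Cen.lev M (LKt_S5 M) (Cen.triv (LKt_S6 M) (Cen.lev M (LKt_S7 M) (Cen.bot) (LKtn0_t M) (LKX_act M) (LKce_act M) (fun _ _ => trivial) LKcc7_ok LKc_f7) (forced (LKt_S6 M) (LKth_act M) (LKX_act M) _ _ LKc_f6)) (LKtn1_t M) (LKX_act M) (LKce_act M) (fun _ _ => trivial) LKcc5_ok LKc_f5) (forced (LKt_S4 M) (LKth_act M) (LKX_act M) _ _ LKc_f4)) (forced (LKt_S3 M) (LKth_act M) (LKX_act M) _ _ LKc_f3)) (forced (LKt_S2 M) (LKth_act M) (LKX_act M) _ _ LKc_f2)) (forced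 (LKt_S1 M) (LKth_act M) (LKX_act M) _ _ LKc_f1)) (LKtn2_t M) (LKX_act M) (LKce_act M) (fun _ _ => trivial) LKcc0_ok LKc_f0
theorem LKc_eq {G Ω : Type*} [Group G] [MulAction G Ω] {g : ℕ → G} {pt : ℕ → Ω}
    (M : Md g pt H15.XCo2C.P 2300 7 H15.XCo2C.B 743178240) : Subgroup.centralizer (gen (wds (wds g J_W) LKX_W) 2) = gen (wds g LKce_W) 4 ∧ Nat.card (gen (wds g LKce_W) 4) = 16 :=
  LKc_c.1 ▸ LKc_c.2 ▸ ⟨(LKc M).cent, (LKc M).card M.inj⟩
theorem LKY_act {G Ω : Type*} [Group G] [MulAction G Ω] {g : ℕ → G} {pt : ℕ → Ω}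
    (M : Md g pt H15.XCo2C.P 2300 7 H15.XCo2C.B 743178240) : Act (wds (wds g J_W) LKY_W) pt LKY_P 2300 4 :=
  (J_act M).wds LKY_lt _
theorem LK_le {G Ω : Type*} [Group G] [MulAction G Ω] {g : ℕ → G} {pt : ℕ → Ω}
    (M : Md g pt H15.XCo2C.P 2300 7 H15.XCo2C.B 743178240) : gen (wds g LKce_W) 4 ≤ gen (wds (wds g J_W) LKY_W) 4 :=
  M.gen_le (LKY_act M) (LKce_act M) LK_le_k
theorem LK_m : ∀ k < 4, ∀ i < 16, (lsEnt EQ LKY_W LK 16 LKT) k i = 0 := allZ2_sound LK_m_a
theorem LK_c {G Ω : Type*} [Group G] [MulAction G Ω] {g : ℕ → G} {pt : ℕ → Ω}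
    (M : Md g pt H15.XCo2C.P 2300 7 H15.XCo2C.B 743178240) {a : G} (ha : ∀ k < 2, a * (wds (wds g J_W) LKX_W) k = (wds (wds g J_W) LKX_W) k * a) : ∃ i < 16, a = wds (wds g J_W) LK i :=
  have := M.fin
  lst (cK M) ⟨rfl, by decide⟩ LK_m (cen_le (LKc_eq M) (LK_le M) ha)
theorem LRX_m : ∀ k < 2, ∀ i < 2300, (matEnt (wdsP J_P LRX_W) LRX_P) k i = 0 := allZ2_sound LRX_m_a
theorem LRX_act {G Ω : Type*} [Group G] [MulAction G Ω] {g : ℕ → G} {pt : ℕ → Ω}
    (M : Md g pt H15.XCo2C.P 2300 7 H15.XCo2C.B 743178240) : Act (wds (wds g J_W) LRX_W) pt LRX_P 2300 2 :=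
  act_mat ((J_act M).wds LRX_lt _) LRX_m
theorem LRth_act {G Ω : Type*} [Group G] [MulAction G Ω] {g : ℕ → G} {pt : ℕ → Ω}
    (M : Md g pt H15.XCo2C.P 2300 7 H15.XCo2C.B 743178240) : Act (wds g LRth_W) pt LRth_P 2300 16 :=
  M.wact LRth_lt
theorem LRtl0_e : ∀ i < 255, (dent LRtl0 LRth_P (nat_lit 2300)) i = 0 := allZ_sound0 LRtl0_e_0
theorem LRtl0_ok : DOK LRtl0 LRth_P 2300 := ⟨LRtl0_h, LRtl0_e⟩
theorem LRtl1_e : ∀ i < 119, (dent LRtl1 LRth_P (nat_lit 2300)) i = 0 := allZ_sound0 LRtl1_e_0
theorem LRtl1_ok : DOK LRtl1 LRth_P 2300 := ⟨LRtl1_h, LRtl1_e⟩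
theorem LRtl2_e : ∀ i < 55, (dent LRtl2 LRth_P (nat_lit 2300)) i = 0 := allZ_sound0 LRtl2_e_0
theorem LRtl2_ok : DOK LRtl2 LRth_P 2300 := ⟨LRtl2_h, LRtl2_e⟩
theorem LRtl3_e : ∀ i < 35, (dent LRtl3 LRth_P (nat_lit 2300)) i = 0 := allZ_sound0 LRtl3_e_0
theorem LRtl3_ok : DOK LRtl3 LRth_P 2300 := ⟨LRtl3_h, LRtl3_e⟩
theorem LRtl4_e : ∀ i < 2, (dent LRtl4 LRth_P (nat_lit 2300)) i = 0 := allZ_sound0 LRtl4_e_0
theorem LRtl4_ok : DOK LRtl4 LRth_P 2300 := ⟨LRtl4_h, LRtl4_e⟩
theorem LRtl5_e : ∀ i < 3, (dent LRtl5 LRth_P (nat_lit 2300)) i = 0 := allZ_sound0 LRtl5_e_0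
theorem LRtl5_ok : DOK LRtl5 LRth_P 2300 := ⟨LRtl5_h, LRtl5_e⟩
theorem LRt_low {G Ω : Type*} [Group G] [MulAction G Ω] {g : ℕ → G} {pt : ℕ → Ω}
    (M : Md g pt H15.XCo2C.P 2300 7 H15.XCo2C.B 743178240) : SLow (gi (wds g LRth_W)) pt 2300 [LRtl0, LRtl1, LRtl2, LRtl3, LRtl4, LRtl5] :=
  ((((((SLow.nil).cons LRtl5_ok (LRth_act M) LRt_f5).cons LRtl4_ok (LRth_act M) LRt_f4).cons LRtl3_ok (LRth_act M) LRt_f3).cons LRtl2_ok (LRth_act M) LRt_f2).cons LRtl1_ok (LRth_act M) LRt_f1).cons LRtl0_ok (LRth_act M) LRt_f0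
theorem LRt_S0 {G Ω : Type*} [Group G] [MulAction G Ω] {g : ℕ → G} {pt : ℕ → Ω}
    (M : Md g pt H15.XCo2C.P 2300 7 H15.XCo2C.B 743178240) : Stage ⊤ (wds g LRth_W) pt 2300 [LRtl0, LRtl1, LRtl2, LRtl3, LRtl4, LRtl5] [] :=
  M.stage (LRt_low M) LRt_c
theorem LRt_S1 {G Ω : Type*} [Group G] [MulAction G Ω] {g : ℕ → G} {pt : ℕ → Ω}
    (M : Md g pt H15.XCo2C.P 2300 7 H15.XCo2C.B 743178240) : Stage ⊤ (wds g LRth_W) pt 2300 [LRtl1, LRtl2, LRtl3, LRtl4, LRtl5] [LRtl0.Pt 0] :=
  (LRt_S0 M).next
theorem LRt_S2 {G Ω : Type*} [Group G] [MulAction G Ω] {g : ℕ → G} {pt : ℕ → Ω}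
    (M : Md g pt H15.XCo2C.P 2300 7 H15.XCo2C.B 743178240) : Stage ⊤ (wds g LRth_W) pt 2300 [LRtl2, LRtl3, LRtl4, LRtl5] [LRtl1.Pt 0, LRtl0.Pt 0] :=
  (LRt_S1 M).next
theorem LRt_S3 {G Ω : Type*} [Group G] [MulAction G Ω] {g : ℕ → G} {pt : ℕ → Ω}
    (M : Md g pt H15.XCo2C.P 2300 7 H15.XCo2C.B 743178240) : Stage ⊤ (wds g LRth_W) pt 2300 [LRtl3, LRtl4, LRtl5] [LRtl2.Pt 0, LRtl1.Pt 0, LRtl0.Pt 0] :=
  (LRt_S2 M).next
theorem LRt_S4 {G Ω : Type*} [Group G] [MulAction G Ω] {g : ℕ → G} {pt : ℕ → Ω}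
    (M : Md g pt H15.XCo2C.P 2300 7 H15.XCo2C.B 743178240) : Stage ⊤ (wds g LRth_W) pt 2300 [LRtl4, LRtl5] [LRtl3.Pt 0, LRtl2.Pt 0, LRtl1.Pt 0, LRtl0.Pt 0] :=
  (LRt_S3 M).next
theorem LRt_S5 {G Ω : Type*} [Group G] [MulAction G Ω] {g : ℕ → G} {pt : ℕ → Ω}
    (M : Md g pt H15.XCo2C.P 2300 7 H15.XCo2C.B 743178240) : Stage ⊤ (wds g LRth_W) pt 2300 [LRtl5] [LRtl4.Pt 0, LRtl3.Pt 0, LRtl2.Pt 0, LRtl1.Pt 0, LRtl0.Pt 0] :=
  (LRt_S4 M).next
theorem LRt_S6 {G Ω : Type*} [Group G] [MulAction G Ω] {g : ℕ → G} {pt : ℕ → Ω}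
    (M : Md g pt H15.XCo2C.P 2300 7 H15.XCo2C.B 743178240) : Stage ⊤ (wds g LRth_W) pt 2300 [] [LRtl5.Pt 0, LRtl4.Pt 0, LRtl3.Pt 0, LRtl2.Pt 0, LRtl1.Pt 0, LRtl0.Pt 0] :=
  (LRt_S5 M).next
theorem LRce_act {G Ω : Type*} [Group G] [MulAction G Ω] {g : ℕ → G} {pt : ℕ → Ω}
    (M : Md g pt H15.XCo2C.P 2300 7 H15.XCo2C.B 743178240) : Act (wds g LRce_W) pt LRce_P 2300 2 :=
  M.wact LRce_lt
theorem LRcc5_e : ∀ i < 3, (dent LRcc5 LRce_P (nat_lit 2300)) i = 0 := allZ_sound0 LRcc5_e_0
theorem LRcc5_ok : DOK LRcc5 LRce_P 2300 := ⟨LRcc5_h, LRcc5_e⟩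
theorem LRtn0_1 : ∀ i < 4, (LRtn0.ent H15.XCo2C.P LRth_P LRX_P LRX_P LRce_P (nat_lit 7) (nat_lit 2) H15.XCo2C.B LRtl5 [] (memO LRcc5)) i = 0 := allZ_sound0 LRtn0_1_0
theorem LRtn0_t {G Ω : Type*} [Group G] [MulAction G Ω] {g : ℕ → G} {pt : ℕ → Ω}
    (M : Md g pt H15.XCo2C.P 2300 7 H15.XCo2C.B 743178240) : TrO (gen (wds g LRth_W) LRtl5.K) (wds (wds g J_W) LRX_W) (wds (wds g J_W) LRX_W) 2 pt 2300 (LRtl5.Pt 0) (memO LRcc5) :=
  node M (LRt_S5 M) (LRth_act M) (LRX_act M) (LRX_act M) LRtn0 ((LRce_act M).mono (by decide)) (fun _ _ => trivial) LRtn0_0 LRtn0_1 (List.forall_mem_nil _)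
theorem LRtn1_1 : ∀ i < 256, (LRtn1.ent H15.XCo2C.P LRth_P LRX_P LRX_P LRce_P (nat_lit 7) (nat_lit 2) H15.XCo2C.B LRtl0 [LRtl1, LRtl2, LRtl3, LRtl4, LRtl5] (fun w => Nat.xor w (LRtl0.Pt (nat_lit 0)))) i = 0 := allZ_sound0 LRtn1_1_0
theorem LRtn1_t {G Ω : Type*} [Group G] [MulAction G Ω] {g : ℕ → G} {pt : ℕ → Ω}
    (M : Md g pt H15.XCo2C.P 2300 7 H15.XCo2C.B 743178240) : TrO (gen (wds g LRth_W) LRtl0.K) (wds (wds g J_W) LRX_W) (wds (wds g J_W) LRX_W) 2 pt 2300 (LRtl0.Pt 0) (fun w => Nat.xor w (LRtl0.Pt (nat_lit 0))) :=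
  node M (LRt_S0 M) (LRth_act M) (LRX_act M) (LRX_act M) LRtn1 ((LRce_act M).mono (by decide)) (fun _ _ => trivial) LRtn1_0 LRtn1_1 (List.forall_mem_nil _)
theorem LRc {G Ω : Type*} [Group G] [MulAction G Ω] {g : ℕ → G} {pt : ℕ → Ω}
    (M : Md g pt H15.XCo2C.P 2300 7 H15.XCo2C.B 743178240) : Cen ⊤ (wds (wds g J_W) LRX_W) 2 (wds g LRce_W) pt 2300 [LRcc5] :=
  (LRt_S0 M).top ▸ Cen.triv (LRt_S0 M) (Cen.triv (LRt_S1 M) (Cen.triv (LRt_S2 M) (Cen.triv (LRt_S3 M) (Cen.triv (LRt_S4 M) (Cen.lev M (LRt_S5 M) (Cen.bot) (LRtn0_t M) (LRX_act M) (LRce_act M) (fun _ _ => trivial) LRcc5_ok LRc_f5) (forced (LRt_S4 M) (LRth_act M) (LRX_act M) _ _ LRc_f4)) (forced (LRt_S3 M) (LRth_act M) (LRX_act M) _ _ LRc_f3)) (forced (LRt_S2 M) (LRth_act M) (LRX_act M) _ _ LRc_f2)) (forced (LRt_S1 M) (LRth_act M) (LRX_act M) _ _ LRc_f1)) (LRtn1_t M)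
theorem LRc_eq {G Ω : Type*} [Group G] [MulAction G Ω] {g : ℕ → G} {pt : ℕ → Ω}
    (M : Md g pt H15.XCo2C.P 2300 7 H15.XCo2C.B 743178240) : Subgroup.centralizer (gen (wds (wds g J_W) LRX_W) 2) = gen (wds g LRce_W) 2 ∧ Nat.card (gen (wds g LRce_W) 2) = 4 :=
  LRc_c.1 ▸ LRc_c.2 ▸ ⟨(LRc M).cent, (LRc M).card M.inj⟩
theorem LRY_act {G Ω : Type*} [Group G] [MulAction G Ω] {g : ℕ → G} {pt : ℕ → Ω}
    (M : Md g pt H15.XCo2C.P 2300 7 H15.XCo2C.B 743178240) : Act (wds (wds g J_W) LRY_W) pt LRY_P 2300 2 :=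
  (J_act M).wds LRY_lt _
theorem LR_le {G Ω : Type*} [Group G] [MulAction G Ω] {g : ℕ → G} {pt : ℕ → Ω}
    (M : Md g pt H15.XCo2C.P 2300 7 H15.XCo2C.B 743178240) : gen (wds g LRce_W) 2 ≤ gen (wds (wds g J_W) LRY_W) 2 :=
  M.gen_le (LRY_act M) (LRce_act M) LR_le_k
theorem LR_m : ∀ k < 2, ∀ i < 4, (lsEnt EQ LRY_W LR 4 LRT) k i = 0 := allZ2_sound LR_m_a
theorem LR_c {G Ω : Type*} [Group G] [MulAction G Ω] {g : ℕ → G} {pt : ℕ → Ω}
    (M : Md g pt H15.XCo2C.P 2300 7 H15.XCo2C.B 743178240) {a : G} (ha : ∀ k < 2, a * (wds (wds g J_W) LRX_W) k = (wds (wds g J_W) LRX_W) k * a) : ∃ i < 4, a = wds (wds g J_W) LR i :=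
  have := M.fin
  lst (cK M) ⟨rfl, by decide⟩ LR_m (cen_le (LRc_eq M) (LR_le M) ha)

end H10.KC
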