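import Cfsg.Agent.H10.K.I

/-! Generated by tools/h10/co2/gk5.py. -/

set_option maxRecDepth 100000
set_option maxHeartbeats 0

namespace H10.KC
open H16 H0.TR H0.Am H0.Co H0.Fi H10.K
open H0.PM (flat)
open scoped commutatorElement

noncomputable def RN0 : List (List ℕ) := [[nat_lit 0, nat_lit 0],
  [nat_lit 1, nat_lit 1],
  [nat_lit 2, nat_lit 2],
  [nat_lit 3, nat_lit 4],
  [nat_lit 4, nat_lit 3],
  [nat_lit 5, nat_lit 6],
  [nat_lit 6, nat_lit 5],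
  [nat_lit 7, nat_lit 7],
  [nat_lit 8, nat_lit 8],
  [nat_lit 9, nat_lit 9],
  [nat_lit 0, nat_lit 3, nat_lit 0, nat_lit 4],
  [nat_lit 0, nat_lit 5, nat_lit 0, nat_lit 6],
  [nat_lit 0, nat_lit 7, nat_lit 0, nat_lit 7],
  [nat_lit 1, nat_lit 3, nat_lit 1, nat_lit 4],
  [nat_lit 1, nat_lit 5, nat_lit 1, nat_lit 6],
  [nat_lit 1, nat_lit 7, nat_lit 1, nat_lit 7],
  [nat_lit 2, nat_lit 5, nat_lit 2, nat_lit 6],
  [nat_lit 2, nat_lit 7, nat_lit 2, nat_lit 7],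
  [nat_lit 5, nat_lit 5, nat_lit 5, nat_lit 5],
  [nat_lit 5, nat_lit 7, nat_lit 6, nat_lit 7],
  [nat_lit 3, nat_lit 3, nat_lit 3, nat_lit 3, nat_lit 3],
  [nat_lit 3, nat_lit 3, nat_lit 5, nat_lit 3, nat_lit 6],
  [nat_lit 3, nat_lit 3, nat_lit 6, nat_lit 4, nat_lit 5],
  [nat_lit 3, nat_lit 5, nat_lit 5, nat_lit 3, nat_lit 5, nat_lit 5],
  [nat_lit 3, nat_lit 6, nat_lit 6, nat_lit 3, nat_lit 6, nat_lit 6],
  [nat_lit 2, nat_lit 3, nat_lit 2, nat_lit 3, nat_lit 2, nat_lit 3, nat_lit 2, nat_lit 3, nat_lit 2, nat_lit 3],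
  [nat_lit 3, nat_lit 7, nat_lit 3, nat_lit 7, nat_lit 3, nat_lit 7, nat_lit 3, nat_lit 7, nat_lit 3, nat_lit 7, nat_lit 3, nat_lit 7],
  [nat_lit 3, nat_lit 7, nat_lit 4, nat_lit 7, nat_lit 3, nat_lit 7, nat_lit 4, nat_lit 7, nat_lit 3, nat_lit 7, nat_lit 4, nat_lit 7],
  [nat_lit 2, nat_lit 3, nat_lit 3, nat_lit 2, nat_lit 4, nat_lit 7, nat_lit 3, nat_lit 2, nat_lit 4, nat_lit 4, nat_lit 2, nat_lit 3, nat_lit 7, nat_lit 4],
  [nat_lit 0, nat_lit 2, nat_lit 3, nat_lit 7, nat_lit 3, nat_lit 2, nat_lit 7, nat_lit 3, nat_lit 7, nat_lit 3, nat_lit 7, nat_lit 2, nat_lit 3, nat_lit 7, nat_lit 3, nat_lit 7],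
  [nat_lit 9, nat_lit 0, nat_lit 9, nat_lit 1],
  [nat_lit 9, nat_lit 2, nat_lit 9, nat_lit 2],
  [nat_lit 9, nat_lit 3, nat_lit 9, nat_lit 4],
  [nat_lit 9, nat_lit 5, nat_lit 9, nat_lit 6],
  [nat_lit 9, nat_lit 7, nat_lit 9, nat_lit 7, nat_lit 6, nat_lit 6, nat_lit 2],
  [nat_lit 0, nat_lit 8, nat_lit 0, nat_lit 8],
  [nat_lit 3, nat_lit 7, nat_lit 8, nat_lit 7, nat_lit 4, nat_lit 8],
  [nat_lit 2, nat_lit 8, nat_lit 5, nat_lit 8, nat_lit 2, nat_lit 8, nat_lit 6, nat_lit 8],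
  [nat_lit 2, nat_lit 8, nat_lit 7, nat_lit 8, nat_lit 2, nat_lit 8, nat_lit 7, nat_lit 8],
  [nat_lit 3, nat_lit 3, nat_lit 8, nat_lit 5, nat_lit 3, nat_lit 8, nat_lit 6, nat_lit 8],
  [nat_lit 3, nat_lit 6, nat_lit 6, nat_lit 8, nat_lit 3, nat_lit 6, nat_lit 6, nat_lit 8],
  [nat_lit 5, nat_lit 5, nat_lit 7, nat_lit 8, nat_lit 5, nat_lit 5, nat_lit 7, nat_lit 8],
  [nat_lit 5, nat_lit 8, nat_lit 6, nat_lit 8, nat_lit 5, nat_lit 8, nat_lit 6, nat_lit 8],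
  [nat_lit 3, nat_lit 3, nat_lit 8, nat_lit 5, nat_lit 8, nat_lit 3, nat_lit 7, nat_lit 6, nat_lit 8, nat_lit 7],
  [nat_lit 3, nat_lit 3, nat_lit 8, nat_lit 6, nat_lit 3, nat_lit 8, nat_lit 5, nat_lit 8, nat_lit 3, nat_lit 8],
  [nat_lit 0, nat_lit 1, nat_lit 2, nat_lit 8, nat_lit 2, nat_lit 4, nat_lit 8, nat_lit 1, nat_lit 8, nat_lit 3, nat_lit 8],
  [nat_lit 0, nat_lit 1, nat_lit 2, nat_lit 8, nat_lit 7, nat_lit 2, nat_lit 8, nat_lit 1, nat_lit 8, nat_lit 7, nat_lit 8],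
  [nat_lit 0, nat_lit 1, nat_lit 8, nat_lit 3, nat_lit 2, nat_lit 8, nat_lit 1, nat_lit 2, nat_lit 8, nat_lit 4, nat_lit 8],
  [nat_lit 0, nat_lit 1, nat_lit 8, nat_lit 7, nat_lit 8, nat_lit 1, nat_lit 2, nat_lit 8, nat_lit 2, nat_lit 7, nat_lit 8],
  [nat_lit 2, nat_lit 3, nat_lit 3, nat_lit 8, nat_lit 4, nat_lit 4, nat_lit 2, nat_lit 5, nat_lit 8, nat_lit 6, nat_lit 8],
  [nat_lit 2, nat_lit 3, nat_lit 5, nat_lit 8, nat_lit 6, nat_lit 4, nat_lit 2, nat_lit 6, nat_lit 8, nat_lit 5, nat_lit 8],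
  [nat_lit 0, nat_lit 3, nat_lit 6, nat_lit 8, nat_lit 5, nat_lit 4, nat_lit 7, nat_lit 8, nat_lit 3, nat_lit 8, nat_lit 4, nat_lit 7],
  [nat_lit 0, nat_lit 3, nat_lit 8, nat_lit 4, nat_lit 5, nat_lit 7, nat_lit 3, nat_lit 8, nat_lit 4, nat_lit 7, nat_lit 6, nat_lit 8],
  [nat_lit 0, nat_lit 3, nat_lit 8, nat_lit 4, nat_lit 6, nat_lit 7, nat_lit 3, nat_lit 8, nat_lit 4, nat_lit 8, nat_lit 7, nat_lit 5],
  [nat_lit 0, nat_lit 3, nat_lit 8, nat_lit 4, nat_lit 8, nat_lit 7, nat_lit 5, nat_lit 3, nat_lit 8, nat_lit 4, nat_lit 7, nat_lit 6],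
  [nat_lit 0, nat_lit 5, nat_lit 3, nat_lit 8, nat_lit 4, nat_lit 7, nat_lit 6, nat_lit 8, nat_lit 3, nat_lit 8, nat_lit 4, nat_lit 7],
  [nat_lit 1, nat_lit 3, nat_lit 8, nat_lit 1, nat_lit 4, nat_lit 8, nat_lit 1, nat_lit 3, nat_lit 8, nat_lit 4, nat_lit 1, nat_lit 8],
  [nat_lit 1, nat_lit 3, nat_lit 8, nat_lit 2, nat_lit 8, nat_lit 4, nat_lit 1, nat_lit 8, nat_lit 3, nat_lit 2, nat_lit 4, nat_lit 8],
  [nat_lit 1, nat_lit 4, nat_lit 8, nat_lit 3, nat_lit 1, nat_lit 8, nat_lit 7, nat_lit 1, nat_lit 8, nat_lit 1, nat_lit 7, nat_lit 8],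
  [nat_lit 2, nat_lit 3, nat_lit 3, nat_lit 8, nat_lit 6, nat_lit 4, nat_lit 2, nat_lit 3, nat_lit 5, nat_lit 8, nat_lit 4, nat_lit 4],
  [nat_lit 2, nat_lit 5, nat_lit 4, nat_lit 8, nat_lit 3, nat_lit 8, nat_lit 5, nat_lit 2, nat_lit 8, nat_lit 5, nat_lit 5, nat_lit 8],
  [nat_lit 2, nat_lit 5, nat_lit 8, nat_lit 4, nat_lit 8, nat_lit 3, nat_lit 5, nat_lit 2, nat_lit 8, nat_lit 6, nat_lit 6, nat_lit 8],
  [nat_lit 2, nat_lit 6, nat_lit 7, nat_lit 8, nat_lit 6, nat_lit 8, nat_lit 5, nat_lit 2, nat_lit 8, nat_lit 7, nat_lit 5, nat_lit 8],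
  [nat_lit 0, nat_lit 1, nat_lit 2, nat_lit 4, nat_lit 8, nat_lit 3, nat_lit 2, nat_lit 8, nat_lit 1, nat_lit 8, nat_lit 4, nat_lit 8, nat_lit 3],
  [nat_lit 0, nat_lit 1, nat_lit 2, nat_lit 8, nat_lit 5, nat_lit 5, nat_lit 2, nat_lit 8, nat_lit 1, nat_lit 8, nat_lit 6, nat_lit 6, nat_lit 8],
  [nat_lit 0, nat_lit 1, nat_lit 5, nat_lit 8, nat_lit 1, nat_lit 6, nat_lit 8, nat_lit 1, nat_lit 5, nat_lit 8, nat_lit 6, nat_lit 1, nat_lit 8],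
  [nat_lit 0, nat_lit 1, nat_lit 8, nat_lit 5, nat_lit 5, nat_lit 8, nat_lit 1, nat_lit 2, nat_lit 8, nat_lit 6, nat_lit 6, nat_lit 2, nat_lit 8],
  [nat_lit 0, nat_lit 2, nat_lit 3, nat_lit 8, nat_lit 4, nat_lit 2, nat_lit 8, nat_lit 2, nat_lit 3, nat_lit 8, nat_lit 4, nat_lit 2, nat_lit 8],
  [nat_lit 0, nat_lit 2, nat_lit 4, nat_lit 8, nat_lit 3, nat_lit 2, nat_lit 1, nat_lit 8, nat_lit 4, nat_lit 8, nat_lit 3, nat_lit 1, nat_lit 8],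
  [nat_lit 0, nat_lit 2, nat_lit 7, nat_lit 8, nat_lit 1, nat_lit 2, nat_lit 4, nat_lit 8, nat_lit 3, nat_lit 8, nat_lit 7, nat_lit 1, nat_lit 8],
  [nat_lit 0, nat_lit 2, nat_lit 8, nat_lit 1, nat_lit 7, nat_lit 8, nat_lit 7, nat_lit 8, nat_lit 2, nat_lit 4, nat_lit 1, nat_lit 8, nat_lit 3],
  [nat_lit 0, nat_lit 3, nat_lit 5, nat_lit 7, nat_lit 8, nat_lit 3, nat_lit 8, nat_lit 4, nat_lit 7, nat_lit 3, nat_lit 6, nat_lit 8, nat_lit 3],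
  [nat_lit 0, nat_lit 3, nat_lit 6, nat_lit 8, nat_lit 3, nat_lit 3, nat_lit 7, nat_lit 5, nat_lit 3, nat_lit 8, nat_lit 4, nat_lit 8, nat_lit 7],
  [nat_lit 0, nat_lit 3, nat_lit 8, nat_lit 4, nat_lit 5, nat_lit 8, nat_lit 6, nat_lit 7, nat_lit 3, nat_lit 8, nat_lit 4, nat_lit 7, nat_lit 8],
  [nat_lit 0, nat_lit 3, nat_lit 8, nat_lit 4, nat_lit 7, nat_lit 4, nat_lit 7, nat_lit 8, nat_lit 7, nat_lit 3, nat_lit 8, nat_lit 7, nat_lit 8],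
  [nat_lit 0, nat_lit 3, nat_lit 8, nat_lit 4, nat_lit 7, nat_lit 8, nat_lit 3, nat_lit 8, nat_lit 4, nat_lit 5, nat_lit 8, nat_lit 7, nat_lit 6],
  [nat_lit 1, nat_lit 3, nat_lit 5, nat_lit 1, nat_lit 8, nat_lit 6, nat_lit 4, nat_lit 7, nat_lit 5, nat_lit 8, nat_lit 6, nat_lit 7, nat_lit 8],
  [nat_lit 1, nat_lit 5, nat_lit 2, nat_lit 4, nat_lit 6, nat_lit 1, nat_lit 8, nat_lit 5, nat_lit 3, nat_lit 2, nat_lit 8, nat_lit 6, nat_lit 8],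
  [nat_lit 0, nat_lit 3, nat_lit 8, nat_lit 1, nat_lit 4, nat_lit 4, nat_lit 7, nat_lit 3, nat_lit 1, nat_lit 8, nat_lit 4, nat_lit 7, nat_lit 3, nat_lit 8],
  [nat_lit 0, nat_lit 4, nat_lit 6, nat_lit 7, nat_lit 8, nat_lit 4, nat_lit 8, nat_lit 5, nat_lit 8, nat_lit 3, nat_lit 3, nat_lit 7, nat_lit 3, nat_lit 8],
  [nat_lit 0, nat_lit 6, nat_lit 3, nat_lit 8, nat_lit 4, nat_lit 8, nat_lit 1, nat_lit 5, nat_lit 7, nat_lit 3, nat_lit 1, nat_lit 8, nat_lit 4, nat_lit 7],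
  [nat_lit 1, nat_lit 2, nat_lit 3, nat_lit 3, nat_lit 8, nat_lit 1, nat_lit 8, nat_lit 4, nat_lit 8, nat_lit 4, nat_lit 2, nat_lit 3, nat_lit 8, nat_lit 4],
  [nat_lit 1, nat_lit 2, nat_lit 5, nat_lit 8, nat_lit 1, nat_lit 2, nat_lit 5, nat_lit 8, nat_lit 5, nat_lit 1, nat_lit 8, nat_lit 5, nat_lit 1, nat_lit 8],
  [nat_lit 1, nat_lit 2, nat_lit 7, nat_lit 8, nat_lit 4, nat_lit 2, nat_lit 3, nat_lit 7, nat_lit 8, nat_lit 4, nat_lit 8, nat_lit 2, nat_lit 3, nat_lit 8],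
  [nat_lit 1, nat_lit 2, nat_lit 8, nat_lit 4, nat_lit 2, nat_lit 3, nat_lit 8, nat_lit 7, nat_lit 8, nat_lit 4, nat_lit 2, nat_lit 3, nat_lit 8, nat_lit 7],
  [nat_lit 1, nat_lit 8, nat_lit 4, nat_lit 2, nat_lit 4, nat_lit 2, nat_lit 7, nat_lit 3, nat_lit 2, nat_lit 4, nat_lit 7, nat_lit 3, nat_lit 3, nat_lit 8],
  [nat_lit 2, nat_lit 4, nat_lit 4, nat_lit 7, nat_lit 8, nat_lit 7, nat_lit 6, nat_lit 3, nat_lit 7, nat_lit 2, nat_lit 8, nat_lit 5, nat_lit 7, nat_lit 8],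
  [nat_lit 2, nat_lit 4, nat_lit 5, nat_lit 7, nat_lit 8, nat_lit 7, nat_lit 3, nat_lit 3, nat_lit 7, nat_lit 2, nat_lit 8, nat_lit 6, nat_lit 7, nat_lit 8],
  [nat_lit 2, nat_lit 4, nat_lit 8, nat_lit 3, nat_lit 2, nat_lit 6, nat_lit 8, nat_lit 2, nat_lit 6, nat_lit 8, nat_lit 5, nat_lit 2, nat_lit 8, nat_lit 5],
  [nat_lit 3, nat_lit 7, nat_lit 6, nat_lit 6, nat_lit 7, nat_lit 8, nat_lit 3, nat_lit 8, nat_lit 6, nat_lit 7, nat_lit 8, nat_lit 7, nat_lit 8, nat_lit 6]]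
noncomputable def R4 : List ℕ := [nat_lit 9, nat_lit 3, nat_lit 8, nat_lit 7, nat_lit 3, nat_lit 9, nat_lit 3, nat_lit 8, nat_lit 7, nat_lit 3, nat_lit 9, nat_lit 3, nat_lit 8, nat_lit 7, nat_lit 3, nat_lit 9, nat_lit 3, nat_lit 8, nat_lit 7, nat_lit 3, nat_lit 5, nat_lit 7, nat_lit 3, nat_lit 2, nat_lit 4, nat_lit 6, nat_lit 7]
noncomputable def RN : List (List ℕ) := RN0 ++ [R4]
noncomputable def AN : List AT := [(.e (.l [nat_lit 0, nat_lit 0]) []),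
  (.e (.l [nat_lit 1, nat_lit 1]) []),
  (.e (.l [nat_lit 2, nat_lit 2]) []),
  (.e (.l [nat_lit 3, nat_lit 4]) []),
  (.e (.l [nat_lit 4, nat_lit 3]) []),
  (.e (.l [nat_lit 5, nat_lit 6]) []),
  (.e (.l [nat_lit 6, nat_lit 5]) []),
  (.e (.l [nat_lit 7, nat_lit 7]) []),
  (.e (.l [nat_lit 8, nat_lit 8]) []),
  (.y (.l [])),
  (.e (.l [nat_lit 0, nat_lit 3, nat_lit 0, nat_lit 4]) []),
  (.e (.l [nat_lit 0, nat_lit 5, nat_lit 0, nat_lit 6]) []),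
  (.e (.l [nat_lit 0, nat_lit 7, nat_lit 0, nat_lit 7]) []),
  (.e (.l [nat_lit 1, nat_lit 3, nat_lit 1, nat_lit 4]) []),
  (.e (.l [nat_lit 1, nat_lit 5, nat_lit 1, nat_lit 6]) []),
  (.e (.l [nat_lit 1, nat_lit 7, nat_lit 1, nat_lit 7]) []),
  (.e (.l [nat_lit 2, nat_lit 5, nat_lit 2, nat_lit 6]) []),
  (.e (.l [nat_lit 2, nat_lit 7, nat_lit 2, nat_lit 7]) []),
  (.e (.l [nat_lit 5, nat_lit 5, nat_lit 5, nat_lit 5]) []),
  (.e (.l [nat_lit 5, nat_lit 7, nat_lit 6, nat_lit 7]) []),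
  (.e (.l [nat_lit 3, nat_lit 3, nat_lit 3, nat_lit 3, nat_lit 3]) []),
  (.e (.l [nat_lit 3, nat_lit 3, nat_lit 5, nat_lit 3, nat_lit 6]) []),
  (.e (.l [nat_lit 3, nat_lit 3, nat_lit 6, nat_lit 4, nat_lit 5]) []),
  (.e (.l [nat_lit 3, nat_lit 5, nat_lit 5, nat_lit 3, nat_lit 5, nat_lit 5]) []),
  (.e (.l [nat_lit 3, nat_lit 6, nat_lit 6, nat_lit 3, nat_lit 6, nat_lit 6]) []),
  (.e (.l [nat_lit 2, nat_lit 3, nat_lit 2, nat_lit 3, nat_lit 2, nat_lit 3, nat_lit 2, nat_lit 3, nat_lit 2, nat_lit 3]) []),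
  (.e (.l [nat_lit 3, nat_lit 7, nat_lit 3, nat_lit 7, nat_lit 3, nat_lit 7, nat_lit 3, nat_lit 7, nat_lit 3, nat_lit 7, nat_lit 3, nat_lit 7]) []),
  (.e (.l [nat_lit 3, nat_lit 7, nat_lit 4, nat_lit 7, nat_lit 3, nat_lit 7, nat_lit 4, nat_lit 7, nat_lit 3, nat_lit 7, nat_lit 4, nat_lit 7]) []),
  (.e (.l [nat_lit 2, nat_lit 3, nat_lit 3, nat_lit 2, nat_lit 4, nat_lit 7, nat_lit 3, nat_lit 2, nat_lit 4, nat_lit 4, nat_lit 2, nat_lit 3, nat_lit 7, nat_lit 4]) []),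
  (.e (.l [nat_lit 0, nat_lit 2, nat_lit 3, nat_lit 7, nat_lit 3, nat_lit 2, nat_lit 7, nat_lit 3, nat_lit 7, nat_lit 3, nat_lit 7, nat_lit 2, nat_lit 3, nat_lit 7, nat_lit 3, nat_lit 7]) []),
  (.e (.c (.y (.l [nat_lit 0])) (.l [nat_lit 1])) []),
  (.e (.c (.y (.l [nat_lit 2])) (.l [nat_lit 2])) []),
  (.e (.c (.y (.l [nat_lit 3])) (.l [nat_lit 4])) []),
  (.e (.c (.y (.l [nat_lit 5])) (.l [nat_lit 6])) []),
  (.e (.c (.y (.l [nat_lit 7])) (.l [nat_lit 7, nat_lit 6, nat_lit 6, nat_lit 2])) []),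
  (.e (.l [nat_lit 0, nat_lit 8, nat_lit 0, nat_lit 8]) []),
  (.e (.l [nat_lit 3, nat_lit 7, nat_lit 8, nat_lit 7, nat_lit 4, nat_lit 8]) []),
  (.e (.l [nat_lit 2, nat_lit 8, nat_lit 5, nat_lit 8, nat_lit 2, nat_lit 8, nat_lit 6, nat_lit 8]) []),
  (.e (.l [nat_lit 2, nat_lit 8, nat_lit 7, nat_lit 8, nat_lit 2, nat_lit 8, nat_lit 7, nat_lit 8]) []),
  (.e (.l [nat_lit 3, nat_lit 3, nat_lit 8, nat_lit 5, nat_lit 3, nat_lit 8, nat_lit 6, nat_lit 8]) []),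
  (.e (.l [nat_lit 3, nat_lit 6, nat_lit 6, nat_lit 8, nat_lit 3, nat_lit 6, nat_lit 6, nat_lit 8]) []),
  (.e (.l [nat_lit 5, nat_lit 5, nat_lit 7, nat_lit 8, nat_lit 5, nat_lit 5, nat_lit 7, nat_lit 8]) []),
  (.e (.l [nat_lit 5, nat_lit 8, nat_lit 6, nat_lit 8, nat_lit 5, nat_lit 8, nat_lit 6, nat_lit 8]) []),
  (.e (.l [nat_lit 3, nat_lit 3, nat_lit 8, nat_lit 5, nat_lit 8, nat_lit 3, nat_lit 7, nat_lit 6, nat_lit 8, nat_lit 7]) []),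
  (.e (.l [nat_lit 3, nat_lit 3, nat_lit 8, nat_lit 6, nat_lit 3, nat_lit 8, nat_lit 5, nat_lit 8, nat_lit 3, nat_lit 8]) []),
  (.e (.l [nat_lit 0, nat_lit 1, nat_lit 2, nat_lit 8, nat_lit 2, nat_lit 4, nat_lit 8, nat_lit 1, nat_lit 8, nat_lit 3, nat_lit 8]) []),
  (.e (.l [nat_lit 0, nat_lit 1, nat_lit 2, nat_lit 8, nat_lit 7, nat_lit 2, nat_lit 8, nat_lit 1, nat_lit 8, nat_lit 7, nat_lit 8]) []),
  (.e (.l [nat_lit 0, nat_lit 1, nat_lit 8, nat_lit 3, nat_lit 2, nat_lit 8, nat_lit 1, nat_lit 2, nat_lit 8, nat_lit 4, nat_lit 8]) []),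
  (.e (.l [nat_lit 0, nat_lit 1, nat_lit 8, nat_lit 7, nat_lit 8, nat_lit 1, nat_lit 2, nat_lit 8, nat_lit 2, nat_lit 7, nat_lit 8]) []),
  (.e (.l [nat_lit 2, nat_lit 3, nat_lit 3, nat_lit 8, nat_lit 4, nat_lit 4, nat_lit 2, nat_lit 5, nat_lit 8, nat_lit 6, nat_lit 8]) []),
  (.e (.l [nat_lit 2, nat_lit 3, nat_lit 5, nat_lit 8, nat_lit 6, nat_lit 4, nat_lit 2, nat_lit 6, nat_lit 8, nat_lit 5, nat_lit 8]) []),
  (.e (.l [nat_lit 0, nat_lit 3, nat_lit 6, nat_lit 8, nat_lit 5, nat_lit 4, nat_lit 7, nat_lit 8, nat_lit 3, nat_lit 8, nat_lit 4, nat_lit 7]) []),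
  (.e (.l [nat_lit 0, nat_lit 3, nat_lit 8, nat_lit 4, nat_lit 5, nat_lit 7, nat_lit 3, nat_lit 8, nat_lit 4, nat_lit 7, nat_lit 6, nat_lit 8]) []),
  (.e (.l [nat_lit 0, nat_lit 3, nat_lit 8, nat_lit 4, nat_lit 6, nat_lit 7, nat_lit 3, nat_lit 8, nat_lit 4, nat_lit 8, nat_lit 7, nat_lit 5]) []),
  (.e (.l [nat_lit 0, nat_lit 3, nat_lit 8, nat_lit 4, nat_lit 8, nat_lit 7, nat_lit 5, nat_lit 3, nat_lit 8, nat_lit 4, nat_lit 7, nat_lit 6]) []),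
  (.e (.l [nat_lit 0, nat_lit 5, nat_lit 3, nat_lit 8, nat_lit 4, nat_lit 7, nat_lit 6, nat_lit 8, nat_lit 3, nat_lit 8, nat_lit 4, nat_lit 7]) []),
  (.e (.l [nat_lit 1, nat_lit 3, nat_lit 8, nat_lit 1, nat_lit 4, nat_lit 8, nat_lit 1, nat_lit 3, nat_lit 8, nat_lit 4, nat_lit 1, nat_lit 8]) []),
  (.e (.l [nat_lit 1, nat_lit 3, nat_lit 8, nat_lit 2, nat_lit 8, nat_lit 4, nat_lit 1, nat_lit 8, nat_lit 3, nat_lit 2, nat_lit 4, nat_lit 8]) []),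
  (.e (.l [nat_lit 1, nat_lit 4, nat_lit 8, nat_lit 3, nat_lit 1, nat_lit 8, nat_lit 7, nat_lit 1, nat_lit 8, nat_lit 1, nat_lit 7, nat_lit 8]) []),
  (.e (.l [nat_lit 2, nat_lit 3, nat_lit 3, nat_lit 8, nat_lit 6, nat_lit 4, nat_lit 2, nat_lit 3, nat_lit 5, nat_lit 8, nat_lit 4, nat_lit 4]) []),
  (.e (.l [nat_lit 2, nat_lit 5, nat_lit 4, nat_lit 8, nat_lit 3, nat_lit 8, nat_lit 5, nat_lit 2, nat_lit 8, nat_lit 5, nat_lit 5, nat_lit 8]) []),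
  (.e (.l [nat_lit 2, nat_lit 5, nat_lit 8, nat_lit 4, nat_lit 8, nat_lit 3, nat_lit 5, nat_lit 2, nat_lit 8, nat_lit 6, nat_lit 6, nat_lit 8]) []),
  (.e (.l [nat_lit 2, nat_lit 6, nat_lit 7, nat_lit 8, nat_lit 6, nat_lit 8, nat_lit 5, nat_lit 2, nat_lit 8, nat_lit 7, nat_lit 5, nat_lit 8]) []),
  (.e (.l [nat_lit 0, nat_lit 1, nat_lit 2, nat_lit 4, nat_lit 8, nat_lit 3, nat_lit 2, nat_lit 8, nat_lit 1, nat_lit 8, nat_lit 4, nat_lit 8, nat_lit 3]) []),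
  (.e (.l [nat_lit 0, nat_lit 1, nat_lit 2, nat_lit 8, nat_lit 5, nat_lit 5, nat_lit 2, nat_lit 8, nat_lit 1, nat_lit 8, nat_lit 6, nat_lit 6, nat_lit 8]) []),
  (.e (.l [nat_lit 0, nat_lit 1, nat_lit 5, nat_lit 8, nat_lit 1, nat_lit 6, nat_lit 8, nat_lit 1, nat_lit 5, nat_lit 8, nat_lit 6, nat_lit 1, nat_lit 8]) []),
  (.e (.l [nat_lit 0, nat_lit 1, nat_lit 8, nat_lit 5, nat_lit 5, nat_lit 8, nat_lit 1, nat_lit 2, nat_lit 8, nat_lit 6, nat_lit 6, nat_lit 2, nat_lit 8]) []),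
  (.e (.l [nat_lit 0, nat_lit 2, nat_lit 3, nat_lit 8, nat_lit 4, nat_lit 2, nat_lit 8, nat_lit 2, nat_lit 3, nat_lit 8, nat_lit 4, nat_lit 2, nat_lit 8]) []),
  (.e (.l [nat_lit 0, nat_lit 2, nat_lit 4, nat_lit 8, nat_lit 3, nat_lit 2, nat_lit 1, nat_lit 8, nat_lit 4, nat_lit 8, nat_lit 3, nat_lit 1, nat_lit 8]) []),
  (.e (.l [nat_lit 0, nat_lit 2, nat_lit 7, nat_lit 8, nat_lit 1, nat_lit 2, nat_lit 4, nat_lit 8, nat_lit 3, nat_lit 8, nat_lit 7, nat_lit 1, nat_lit 8]) []),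
  (.e (.l [nat_lit 0, nat_lit 2, nat_lit 8, nat_lit 1, nat_lit 7, nat_lit 8, nat_lit 7, nat_lit 8, nat_lit 2, nat_lit 4, nat_lit 1, nat_lit 8, nat_lit 3]) []),
  (.e (.l [nat_lit 0, nat_lit 3, nat_lit 5, nat_lit 7, nat_lit 8, nat_lit 3, nat_lit 8, nat_lit 4, nat_lit 7, nat_lit 3, nat_lit 6, nat_lit 8, nat_lit 3]) []),
  (.e (.l [nat_lit 0, nat_lit 3, nat_lit 6, nat_lit 8, nat_lit 3, nat_lit 3, nat_lit 7, nat_lit 5, nat_lit 3, nat_lit 8, nat_lit 4, nat_lit 8, nat_lit 7]) []),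
  (.e (.l [nat_lit 0, nat_lit 3, nat_lit 8, nat_lit 4, nat_lit 5, nat_lit 8, nat_lit 6, nat_lit 7, nat_lit 3, nat_lit 8, nat_lit 4, nat_lit 7, nat_lit 8]) []),
  (.e (.l [nat_lit 0, nat_lit 3, nat_lit 8, nat_lit 4, nat_lit 7, nat_lit 4, nat_lit 7, nat_lit 8, nat_lit 7, nat_lit 3, nat_lit 8, nat_lit 7, nat_lit 8]) []),
  (.e (.l [nat_lit 0, nat_lit 3, nat_lit 8, nat_lit 4, nat_lit 7, nat_lit 8, nat_lit 3, nat_lit 8, nat_lit 4, nat_lit 5, nat_lit 8, nat_lit 7, nat_lit 6]) []),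
  (.e (.l [nat_lit 1, nat_lit 3, nat_lit 5, nat_lit 1, nat_lit 8, nat_lit 6, nat_lit 4, nat_lit 7, nat_lit 5, nat_lit 8, nat_lit 6, nat_lit 7, nat_lit 8]) []),
  (.e (.l [nat_lit 1, nat_lit 5, nat_lit 2, nat_lit 4, nat_lit 6, nat_lit 1, nat_lit 8, nat_lit 5, nat_lit 3, nat_lit 2, nat_lit 8, nat_lit 6, nat_lit 8]) []),
  (.e (.l [nat_lit 0, nat_lit 3, nat_lit 8, nat_lit 1, nat_lit 4, nat_lit 4, nat_lit 7, nat_lit 3, nat_lit 1, nat_lit 8, nat_lit 4, nat_lit 7, nat_lit 3, nat_lit 8]) []),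
  (.e (.l [nat_lit 0, nat_lit 4, nat_lit 6, nat_lit 7, nat_lit 8, nat_lit 4, nat_lit 8, nat_lit 5, nat_lit 8, nat_lit 3, nat_lit 3, nat_lit 7, nat_lit 3, nat_lit 8]) []),
  (.e (.l [nat_lit 0, nat_lit 6, nat_lit 3, nat_lit 8, nat_lit 4, nat_lit 8, nat_lit 1, nat_lit 5, nat_lit 7, nat_lit 3, nat_lit 1, nat_lit 8, nat_lit 4, nat_lit 7]) []),
  (.e (.l [nat_lit 1, nat_lit 2, nat_lit 3, nat_lit 3, nat_lit 8, nat_lit 1, nat_lit 8, nat_lit 4, nat_lit 8, nat_lit 4, nat_lit 2, nat_lit 3, nat_lit 8, nat_lit 4]) []),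
  (.e (.l [nat_lit 1, nat_lit 2, nat_lit 5, nat_lit 8, nat_lit 1, nat_lit 2, nat_lit 5, nat_lit 8, nat_lit 5, nat_lit 1, nat_lit 8, nat_lit 5, nat_lit 1, nat_lit 8]) []),
  (.e (.l [nat_lit 1, nat_lit 2, nat_lit 7, nat_lit 8, nat_lit 4, nat_lit 2, nat_lit 3, nat_lit 7, nat_lit 8, nat_lit 4, nat_lit 8, nat_lit 2, nat_lit 3, nat_lit 8]) []),
  (.e (.l [nat_lit 1, nat_lit 2, nat_lit 8, nat_lit 4, nat_lit 2, nat_lit 3, nat_lit 8, nat_lit 7, nat_lit 8, nat_lit 4, nat_lit 2, nat_lit 3, nat_lit 8, nat_lit 7]) []),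
  (.e (.l [nat_lit 1, nat_lit 8, nat_lit 4, nat_lit 2, nat_lit 4, nat_lit 2, nat_lit 7, nat_lit 3, nat_lit 2, nat_lit 4, nat_lit 7, nat_lit 3, nat_lit 3, nat_lit 8]) []),
  (.e (.l [nat_lit 2, nat_lit 4, nat_lit 4, nat_lit 7, nat_lit 8, nat_lit 7, nat_lit 6, nat_lit 3, nat_lit 7, nat_lit 2, nat_lit 8, nat_lit 5, nat_lit 7, nat_lit 8]) []),
  (.e (.l [nat_lit 2, nat_lit 4, nat_lit 5, nat_lit 7, nat_lit 8, nat_lit 7, nat_lit 3, nat_lit 3, nat_lit 7, nat_lit 2, nat_lit 8, nat_lit 6, nat_lit 7, nat_lit 8]) []),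
  (.e (.l [nat_lit 2, nat_lit 4, nat_lit 8, nat_lit 3, nat_lit 2, nat_lit 6, nat_lit 8, nat_lit 2, nat_lit 6, nat_lit 8, nat_lit 5, nat_lit 2, nat_lit 8, nat_lit 5]) []),
  (.e (.l [nat_lit 3, nat_lit 7, nat_lit 6, nat_lit 6, nat_lit 7, nat_lit 8, nat_lit 3, nat_lit 8, nat_lit 6, nat_lit 7, nat_lit 8, nat_lit 7, nat_lit 8, nat_lit 6]) [])]
noncomputable def TNd : List ℕ := [nat_lit 0x3cc9898312e6a58d4a8d9459266648cc89990331e66399c6998c29169e28dc49b88370ed219a42b4844b0696092c0ad805afef9f96beac7c34f6d1e9a3cb47868eed1d9a3ab47468e699c9438be706cdeadb9b36b66c54d6d9a9b34b66848cefd99832b06462c6c5895b0b5606abed579aaeb55c4cb6e569cacae587eaefd5972abf545aa6fd49aa8b5507e9ed539fa6b54c7e969d29fa4bf486e8edd1a022b7448087010a020b740807f00f989ec03c8076c8ea01cc0386c6f00da01ac0348066e8ca018c030805ed8ba016c02c805700aa014b828824f049a092c1248247048a090c120823eec7a08ec11c8237046a08cc118842f045a10ac2148427084a188c210861f0c3a186c30c8617082a184c308860f101a202c4048807140a300c800,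
  nat_lit 0x3f9c00000000bccb298112ece599cab3947b262e499c8b390671ece38cc6b38c4b16f629ac4b588690e6e18dc28e842506e209c40be807cfeb5f9f3ebe7c68f669e8d3c9a7834ee69d9f3abe747ce655c9f38a87030defdb8e36bf6c7ed6fda9fb49c687eced999fb2bf643f38fd89fb09c607ebefd79faebf5c72b6996932cbf585caeb959faaae547ea6b548da8bf506a9efd39aa6bf4c6a96fd293a4a948808f0119622c0445686dd09ba0c0404a7edcfa01eb13c627700e991cac38806ed8d9b1ab6346c669cc9798af305c5f00b9b16b62c6c56a0aa094c128704ee099c12b8246446cc8a110b720843f087a10ec21c84370869b8cc218822f085a08ab91486270c4a108c310781f083a106c20c84170c2a104c208880f0c1a182c3048607100a300c800,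
  nat_lit 0x269c0000000034c93980f2e5658d4a8c9447262e48cc89990331e5238a46968c27169a28d449b882d0e5a18dc28d8423069209240ad805afe91f95beab7c34f669e8d3c9a782aee5dd94bab17454e651c93b8a77030dea9b8db6b06c52d6c1a94349c6846ce99995b2a4643f38b989530976064bec97992ead5c4ab695692acae585caeb95962aac5458a6b148da8b450549ec939926b34c5696a129624a8486c8ed9195a2b1445486c5094a0b440487e9cf981eac3c4a76d8e979cab38666eccd999ab3345c6698c9798ad305a5ed4b9a96b32c6856a4a9894b7286e4edc99912b5246246dc89f10b420823ee47a08ec11c8236fc69b0cbf18642f005a00ab81482270449f88c210741f083a106c20c8017042a004c108840f081a102c30484070c0a300c800,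
  nat_lit 0x3cc8b94132e26608c70e8f8cfe2e2c9440896292119ec6c21487291319c54c88a928b2a2e349bb907828e48e0632d9b934cd51d5952e268a8b1849a054316798ea25180fb7296554d659b54afc748270481755bd1980569c71b232211833efa7d5e31eac5e3ed318e9623488556b09dd15aac6374e9495663992d7c3afca1097a82c3350c4a1c243b4575428b18b959e4573588659bd32d2b3640ceb54d11a46285a58799a392c59c42a915062b247235c6aad863912e267c8eb4c54a6ad308e40a4a97a9312d54731532427c7199097212568fc540447ebcbe38a483e9076b4e1e09c0275c3af061c0f41127a391842415c5296a2b0c69b0748247c371485f0346077c12e83e182bf0d8e09145a40bc50b8a150032408c7029011200e300c800,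
  nat_lit 0x46400000000034c8a96112e26423438a9839002e21544958f1b284254643467b15249df09c5919127182de63b00c8d20d051bd1411a6c8b26795d033ae588b1cb1b4bbc0f84250b1d46328285e8c984e0e2c529522e9479d4ab91b6a52e695fe24e137a428e7d0943a463d3e80a54d61d157650e2ad90fb7297d8b029d2522d2a5f40cd21f952ea23f5c8cc0c643bae558e5aa9ad51ac62e8e56996e39548707e6ead85027c56956969d5a31f4628464f1c922b2aa4d8e471589597ac228ab8a92169da14556a9216561b2c34604d15398182c438e32a0ca30c45448240b4e2420c714907920e630948335852e47578fbe1b7e27105a4163b1e8e131829a0bc82576430072382c51a721cdc5600641068c11181de87c7038a20f446106c80b8e052012280c800,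
  nat_lit 0x3162000000001cc898e0b2f1a1c5c80e8c49142e20549467b152b16605bb8a962716964c94898891b291d806bc8e7620d1196ca37c6584abe99c232a9a6c8b1e4e0e3a88c85911a32194399d675aca4dc9435277e27048138a3d197156c8adf14b09a6d3edca52162e277d3ec4bd114348f84450118dd5a6297549031cc93a4c57f8e629cd9535c7304d38999a43c462e549715d0f9fa85e5e78ad2922d284256a118a10162d535676b54959c2e46428acce5623ae3352a8c501892aa418aba915e3902d2b569e996642b2c43507cbcf638cc84d546aaca968fb13a5a5b1c51797b0265c4ecc9200d4834603ce475b14c6107c2d0c85891bd186a2aec71c07b3228c0f082a105c51b761ce05e38240088a22fc4de84bd0d8a251c0a201c80c820d2016300c800,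
  nat_lit 0x27530000000014cc68e092e2e305c78e874d142e449c48a958cf622623bb8d9425168e4ccc40c928b2c35d86bc0e6024f451bd2ada35f8cb0a1c14322c6a8b2055b4642c751151a3e1152e464e4eea51c8d36257e2702819ccb4197c56aa9dc54b0918338e89d49639aa6b3ea6c271434c88648fea53231bab658b04952539945804a6d1cc62beaa3b5c88b90a43cac4758667dba3962a5d529ea92932ca8665a7abd0101fae625660a52159c323a3c9aa4bd8172e4b5886c8a191f2a418abc9959595c7205a79216a42bc8545c4b1541713a1455868b0a9b8ec5465e46c49181cb2226032d05220d48355852bc7dc0f3c168c20fc86416bc18721cf46da0bc8268015181e305c51c6e2ae83df04470482230449f04bf0c8a27080e381480d860b201a280c800,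
  nat_lit 0x14c88980d2e26504c88a962b26364054a8c9223122638bc68c8725165a28947947b17185e195340d8424f049f51b5a15e46ba71f89c11c6227111d44bb6918330ee59d90ba9c6e40e655c8c29a17034c875d0b3cc7444902798d134a9853e9d1cf90b2996f3ad475f11b0986048988a0123fa25c4aaaa90d2aa25375868a8d522da65932e31cbe43d28464278799d6a6a35f44669d298982a395480a540fa2c86c52b51c954a0ab47467f219961d224f6064b4f54a42c3848b11c814ab2b574696bced895b04990a4b8a19112e2c6062a8a988e2d2e8e28bc8e4214019604cc4b5c90c8368e20c46d98b3229643ce869f923c186818c87638448277c270449d08c81f721b1c11d07b31776170429f84c815840f0c16103480e88050c0e280c800,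
  nat_lit 0x8e7a00000cc87968f181a604c80c8e111b1dec7c788951d2236503c9c897150e5e288441189131626008c2c75d8eb64608b310a8632caa1c0bb89b7c912461e8bb2186a32ee597cc2f1a6e30b11d28c3ea77e8e8c65d23a2205036d65de1030c74038ce8564c3f98798e7456050b4c7372eec65d6442194c9106816903317733ea48524d1ea1543ca6815e3971f6c42787139416985c489721c912b47293a8f21be393486d8e4a91092a0c8688e4898fa44da04f4669218d59ac72190c0d0d961ca43b6a671c7a38ec71c8e3721454a6af2768571c62424489a60592116421c83f8e271c4a41c47106a3f20ca418c830905ed86a385482a641cd459b06470790472089c82c8208e08cc5dc843515760d2066381ba0d9028f02dc08c80f90131c064014800,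
  nat_lit 0x473e000000023cbc78d91331e1a3c2c7848efc2e0e3bd47798ef11dde44c47768ee51dc23b6c7688ec1225a44ac89415251d6a3acc7578ead224e3aa47528ea32246448488f911d22323a7c74d8e97222e3a4488a2a931d164449b668e871d0a3a0c8888e7e69b239e473b3e7d1ce639c48878e6d1cd639a47338e65220a440c731910121fe398487d8e5f21f243dc72d90eb1cb243a472b90e71ca8b37c8718e4f1c9a437472590d721aa434c72490cf2272391c86590c91c8a43148618e41217e42f485d90b9216e42c485590a71c66428484e9099212a38bc714908f211a4224840907b20ea388c8375c2b1c3e387470d8e191c2e417470990531c2178fc8288e0d1c16410c704903d207640e481b90351c0e40c48168e05204e40948109015201e3804801]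
noncomputable def TN (k u : ℕ) : ℕ := Nat.land (Nat.shiftRight (nth (nat_lit 0) TNd k) (Nat.mul u (nat_lit 15))) (nat_lit 32767)
noncomputable def INd : List ℕ := [nat_lit 0x800000400000c000000010410800000c000148618800004030802500001014000800100000010602180401420100c010041000200946008803100610148618421080831040029062084012800000020100a1000400948618022010c310407,
  nat_lit 0x3000000c00000a00000001041080000040000c850880001801180c30000b00c004800a00000010202140400da0100a010041000c008c20308011002100c850846110081144001902283c0618000001c0100670004008c8508182010a111c08,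
  nat_lit 0x30000004000006000000008231800000800004433980004008080810000f0040060005000000086010c02006201806010021000801844020c020804a0044339425180473280008a414b80408000000800802900060284434008d008730940b,
  nat_lit 0x213802109420004c108400000831842008020000000002109c20004000b024000210042208021094000182500040204c020003000e11800000000480030340a00c0300040108200000211420004010044020002000811b960000400004010828,
  nat_lit 0x100001004200a821000c100400010000040100c21015000002108003680000002409c010042b00000010002880409440000c10000208000000614000000060000000080060000000202804010822004e108440004020000001c86184000000200809,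
  nat_lit 0x1000218042108001001600800000140004210902100c001002108020004000802f0142000403004200008001c00000411812018400004000008070c06000c0000070004600002000200008004c222840108241180a00846088007000000018200828,
  nat_lit 0x1000010042108c20080000002500d200042109821014000102103020004000802401400000020042000d401800309441200000000008400014c1010202040000060008420006b01c2028c0001c220000108040200020848000060001a000c0200808,
  nat_lit 0xc14000109c200082232422010a108000014200010081c2023c0b384000882010080005911042211002204010806000020018a7005c30008140c012840500000480e01889203400000650802300041208062800308423000809890311003280ca,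
  nat_lit 0x8500040100c000c0110c18000400084210c02088123800b100600000218000a88110008080c2c08c00000034880010800a0440984010084105c2000400089ae380000044078021b042100020104210900100c60084a100800004030a80108028,
  nat_lit 0x800000c00000200000000421000000040000421084000040100022000010000000001000000042008401004200802008041000200842008401080210042108421080210840008421084010000000020080610002008421080210042108401]
noncomputable def IN (k u : ℕ) : ℕ := Nat.land (Nat.shiftRight (nth (nat_lit 0) INd k) (Nat.mul u (nat_lit 5))) (nat_lit 31)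
noncomputable def DNd : ℕ := nat_lit 0x3a7574d4c662ef7d58bab01351669dcd3199eb335a666ccc3997332be655cca598fb31a6225c41987930f1a1e1c3aa872d0e361c1c36f86cb0d821a8c33d86670cc6198432f865d0cb618fc30b85ef0bb216cc2d47588eaedd583aaf754eea75d49ba8874fee9cdd30ba577498e90dd1cba2e744ae86dd08ba0773fae7e9cfc39f373e0e7bdcf4b9e673bee775cea39cb738ae705cdeb9b77362e6b5cd3b9a2631ec6158c2317b62f4c5e58bb317162e0c5ad8b3b16262c2c5758ac31526292c51d8a331456288c4d18953120622cc40d88030fe61fac3e1877a8d1519ea33946628cb518ca2f1459a8a8514ea27d44aa88b5102a1dd436286350baa16542ba04e408a80ed01aa031406080bd017202d4058809d0132021303a6068c0c9818302e40484048000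
noncomputable def DN (u : ℕ) : ℕ := Nat.land (Nat.shiftRight DNd (Nat.mul u (nat_lit 15))) (nat_lit 32767)
noncomputable def ENtd : ℕ := nat_lit 0x20636d55d28
noncomputable def ENt (u : ℕ) : ℕ := Nat.land (Nat.shiftRight ENtd (Nat.mul u (nat_lit 14))) (nat_lit 16383)
noncomputable def JNtd : ℕ := nat_lit 0x264487
noncomputable def JNt (u : ℕ) : ℕ := Nat.land (Nat.shiftRight JNtd (Nat.mul u (nat_lit 8))) (nat_lit 255)
noncomputable def WNtd : ℕ := nat_lit 0x639b28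
noncomputable def WNt (u : ℕ) : ℕ := Nat.land (Nat.shiftRight WNtd (Nat.mul u (nat_lit 8))) (nat_lit 255)
@[irreducible] noncomputable def EN (a : ℕ) : ℕ := force (Nat.sub a (nat_lit 154)) ENt
@[irreducible] noncomputable def JN (a : ℕ) : ℕ := force (Nat.sub a (nat_lit 154)) JNt
@[irreducible] noncomputable def WN (a : ℕ) : ℕ := force (Nat.sub a (nat_lit 154)) WNt
noncomputable def RLN : List (List Rule) := [[.rel (nat_lit 60) (nat_lit 1) [nat_lit 9, nat_lit 1, nat_lit 9], .rel (nat_lit 70) (nat_lit 0) [nat_lit 8, nat_lit 0, nat_lit 8], .rel (nat_lit 20) (nat_lit 2) [nat_lit 4, nat_lit 0, nat_lit 3], .rel (nat_lit 20) (nat_lit 0) [nat_lit 3, nat_lit 0, nat_lit 4], .rel (nat_lit 22) (nat_lit 0) [nat_lit 5, nat_lit 0, nat_lit 6], .rel (nat_lit 24) (nat_lit 0) [nat_lit 7, nat_lit 0, nat_lit 7], .rel (nat_lit 22) (nat_lit 2) [nat_lit 6, nat_lit 0, nat_lit 5],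 .sub (nat_lit 0) [] []],
  [.rel (nat_lit 60) (nat_lit 3) [nat_lit 9, nat_lit 0, nat_lit 9], .rel (nat_lit 26) (nat_lit 0) [nat_lit 3, nat_lit 1, nat_lit 4], .rel (nat_lit 26) (nat_lit 2) [nat_lit 4, nat_lit 1, nat_lit 3], .rel (nat_lit 30) (nat_lit 0) [nat_lit 7, nat_lit 1, nat_lit 7], .rel (nat_lit 28) (nat_lit 0) [nat_lit 5, nat_lit 1, nat_lit 6], .rel (nat_lit 28) (nat_lit 2) [nat_lit 6, nat_lit 1, nat_lit 5], .rel (nat_lit 94) (nat_lit 1) [nat_lit 8, nat_lit 3, nat_lit 2, nat_lit 8, nat_lit 1, nat_lit 2, nat_lit 8, nat_lit 4, nat_lit 8, nat_lit 0], .rel (nat_lit 170) (nat_lit 0) [nat_lit 8, nat_lit 4, nat_lit 2, nat_lit 4, nat_lit 2, nat_lit 7, nat_lit 3, nat_lit 2, nat_lit 4, nat_lit 7, nat_lit 3, nat_lit 3, nat_lit 8], .sub (nat_lit 2) [] [], .rel (nat_lit 2) (nat_lit 0) [nat_lit 1], .rel (nat_lit 90) (nat_lit 7) [nat_lit 8, nat_lit 3, nat_lit 8, nat_lit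 0, nat_lit 1, nat_lit 2, nat_lit 8, nat_lit 2, nat_lit 4, nat_lit 8], .rel (nat_lit 92) (nat_lit 7) [nat_lit 8, nat_lit 7, nat_lit 8, nat_lit 0, nat_lit 1, nat_lit 2, nat_lit 8, nat_lit 7, nat_lit 2, nat_lit 8], .rel (nat_lit 96) (nat_lit 1) [nat_lit 8, nat_lit 7, nat_lit 8, nat_lit 1, nat_lit 2, nat_lit 8, nat_lit 2, nat_lit 7, nat_lit 8, nat_lit 0], .rel (nat_lit 126) (nat_lit 8) [nat_lit 8, nat_lit 4, nat_lit 8, nat_lit 3, nat_lit 0, nat_lit 1, nat_lit 2, nat_lit 4, nat_lit 8, nat_lit 3, nat_lit 2, nat_lit 8], .rel (nat_lit 128) (nat_lit 8) [nat_lit 8, nat_lit 6, nat_lit 6, nat_lit 8, nat_lit 0, nat_lit 1, nat_lit 2, nat_lit 8, nat_lit 5, nat_lit 5, nat_lit 2, nat_lit 8], .rel (nat_lit 130) (nat_lit 4) [nat_lit 6, nat_lit 8, nat_lit 1, nat_lit 5, nat_lit 8, nat_lit 6, nat_lit 1, nat_lit 8, nat_lit 0, nat_lit 1, nat_lit 5, nat_lit 8], .rel (nat_lit 132)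 (nat_lit 1) [nat_lit 8, nat_lit 5, nat_lit 5, nat_lit 8, nat_lit 1, nat_lit 2, nat_lit 8, nat_lit 6, nat_lit 6, nat_lit 2, nat_lit 8, nat_lit 0], .rel (nat_lit 168) (nat_lit 0) [nat_lit 2, nat_lit 8, nat_lit 4, nat_lit 2, nat_lit 3, nat_lit 8, nat_lit 7, nat_lit 8, nat_lit 4, nat_lit 2, nat_lit 3, nat_lit 8, nat_lit 7]],
  [.rel (nat_lit 62) (nat_lit 1) [nat_lit 9, nat_lit 2, nat_lit 9], .rel (nat_lit 34) (nat_lit 0) [nat_lit 7, nat_lit 2, nat_lit 7], .rel (nat_lit 32) (nat_lit 0) [nat_lit 5, nat_lit 2, nat_lit 6], .rel (nat_lit 32) (nat_lit 2) [nat_lit 6, nat_lit 2, nat_lit 5], .rel (nat_lit 128) (nat_lit 2) [nat_lit 8, nat_lit 5, nat_lit 5, nat_lit 2, nat_lit 8, nat_lit 1, nat_lit 8, nat_lit 6, nat_lit 6, nat_lit 8, nat_lit 0, nat_lit 1], .rel (nat_lit 90) (nat_lit 2) [nat_lit 8, nat_lit 2, nat_lit 4, nat_lit 8, nat_lit 1, nat_lit 8, nat_lit 3, nat_lit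 8, nat_lit 0, nat_lit 1], .rel (nat_lit 126) (nat_lit 2) [nat_lit 4, nat_lit 8, nat_lit 3, nat_lit 2, nat_lit 8, nat_lit 1, nat_lit 8, nat_lit 4, nat_lit 8, nat_lit 3, nat_lit 0, nat_lit 1], .rel (nat_lit 162) (nat_lit 1) [nat_lit 3, nat_lit 3, nat_lit 8, nat_lit 1, nat_lit 8, nat_lit 4, nat_lit 8, nat_lit 4, nat_lit 2, nat_lit 3, nat_lit 8, nat_lit 4, nat_lit 1], .rel (nat_lit 51) (nat_lit 1) [nat_lit 4, nat_lit 2, nat_lit 4, nat_lit 2, nat_lit 4, nat_lit 2, nat_lit 4, nat_lit 2, nat_lit 4], .rel (nat_lit 92) (nat_lit 2) [nat_lit 8, nat_lit 7, nat_lit 2, nat_lit 8, nat_lit 1, nat_lit 8, nat_lit 7, nat_lit 8, nat_lit 0, nat_lit 1], .rel (nat_lit 92) (nat_lit 5) [nat_lit 8, nat_lit 1, nat_lit 8, nat_lit 7, nat_lit 8, nat_lit 0, nat_lit 1, nat_lit 2, nat_lit 8, nat_lit 7], .sub (nat_lit 4) [] [], .rel (nat_lit 4) (nat_lit 0) [nat_lit 2], .rel (nat_lit 56) (nat_lit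 3) [nat_lit 4, nat_lit 7, nat_lit 3, nat_lit 2, nat_lit 4, nat_lit 4, nat_lit 2, nat_lit 3, nat_lit 7, nat_lit 4, nat_lit 2, nat_lit 3, nat_lit 3], .rel (nat_lit 74) (nat_lit 4) [nat_lit 8, nat_lit 6, nat_lit 8, nat_lit 2, nat_lit 8, nat_lit 5, nat_lit 8], .rel (nat_lit 76) (nat_lit 0) [nat_lit 8, nat_lit 7, nat_lit 8, nat_lit 2, nat_lit 8, nat_lit 7, nat_lit 8], .rel (nat_lit 96) (nat_lit 6) [nat_lit 8, nat_lit 2, nat_lit 7, nat_lit 8, nat_lit 0, nat_lit 1, nat_lit 8, nat_lit 7, nat_lit 8, nat_lit 1], .rel (nat_lit 114) (nat_lit 3) [nat_lit 8, nat_lit 4, nat_lit 1, nat_lit 8, nat_lit 3, nat_lit 2, nat_lit 4, nat_lit 8, nat_lit 1, nat_lit 3, nat_lit 8], .rel (nat_lit 118) (nat_lit 6) [nat_lit 3, nat_lit 5, nat_lit 8, nat_lit 4, nat_lit 4, nat_lit 2, nat_lit 3, nat_lit 3, nat_lit 8, nat_lit 6, nat_lit 4], .rel (nat_lit 162) (nat_lit 10) [nat_lit 3, nat_lit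 8, nat_lit 4, nat_lit 1, nat_lit 2, nat_lit 3, nat_lit 3, nat_lit 8, nat_lit 1, nat_lit 8, nat_lit 4, nat_lit 8, nat_lit 4]],
  [.rel (nat_lit 6) (nat_lit 0) [nat_lit 4], .rel (nat_lit 64) (nat_lit 1) [nat_lit 9, nat_lit 4, nat_lit 9], .defn, .rel (nat_lit 72) (nat_lit 0) [nat_lit 7, nat_lit 8, nat_lit 7, nat_lit 4, nat_lit 8], .rel (nat_lit 40) (nat_lit 0) [nat_lit 3, nat_lit 3, nat_lit 3, nat_lit 3], .rel (nat_lit 42) (nat_lit 0) [nat_lit 3, nat_lit 5, nat_lit 3, nat_lit 6], .rel (nat_lit 42) (nat_lit 3) [nat_lit 6, nat_lit 3, nat_lit 3, nat_lit 5], .rel (nat_lit 104) (nat_lit 1) [nat_lit 8, nat_lit 4, nat_lit 5, nat_lit 7, nat_lit 3, nat_lit 8, nat_lit 4, nat_lit 7, nat_lit 6, nat_lit 8, nat_lit 0], .sub (nat_lit 6) [] [], .rel (nat_lit 42) (nat_lit 1) [nat_lit 5, nat_lit 3, nat_lit 6, nat_lit 3], .rel (nat_lit 44) (nat_lit 0) [nat_lit 3, nat_lit 6, nat_lit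 4, nat_lit 5], .rel (nat_lit 45) (nat_lit 1) [nat_lit 5, nat_lit 4, nat_lit 4, nat_lit 6], .rel (nat_lit 58) (nat_lit 4) [nat_lit 2, nat_lit 7, nat_lit 3, nat_lit 7, nat_lit 3, nat_lit 7, nat_lit 2, nat_lit 3, nat_lit 7, nat_lit 3, nat_lit 7, nat_lit 0, nat_lit 2, nat_lit 3, nat_lit 7], .rel (nat_lit 102) (nat_lit 8) [nat_lit 8, nat_lit 4, nat_lit 7, nat_lit 0, nat_lit 3, nat_lit 6, nat_lit 8, nat_lit 5, nat_lit 4, nat_lit 7, nat_lit 8], .rel (nat_lit 156) (nat_lit 7) [nat_lit 1, nat_lit 8, nat_lit 4, nat_lit 7, nat_lit 3, nat_lit 8, nat_lit 0, nat_lit 3, nat_lit 8, nat_lit 1, nat_lit 4, nat_lit 4, nat_lit 7]],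
  [.rel (nat_lit 6) (nat_lit 1) [nat_lit 3], .rel (nat_lit 64) (nat_lit 3) [nat_lit 9, nat_lit 3, nat_lit 9], .defn, .rel (nat_lit 41) (nat_lit 0) [nat_lit 4, nat_lit 4, nat_lit 4, nat_lit 4], .rel (nat_lit 43) (nat_lit 3) [nat_lit 4, nat_lit 5, nat_lit 4, nat_lit 6], .rel (nat_lit 72) (nat_lit 4) [nat_lit 8, nat_lit 3, nat_lit 7, nat_lit 8, nat_lit 7], .rel (nat_lit 43) (nat_lit 1) [nat_lit 6, nat_lit 4, nat_lit 4, nat_lit 5], .rel (nat_lit 43) (nat_lit 4) [nat_lit 5, nat_lit 4, nat_lit 6, nat_lit 4], .rel (nat_lit 136) (nat_lit 2) [nat_lit 8, nat_lit 3, nat_lit 2, nat_lit 1, nat_lit 8, nat_lit 4, nat_lit 8, nat_lit 3, nat_lit 1, nat_lit 8, nat_lit 0, nat_lit 2], .sub (nat_lit 8) [] [], .rel (nat_lit 44) (nat_lit 3) [nat_lit 5, nat_lit 3, nat_lit 3, nat_lit 6], .rel (nat_lit 140) (nat_lit 9) [nat_lit 1, nat_lit 8, nat_lit 3, nat_lit 0, nat_lit 2, nat_lit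 8, nat_lit 1, nat_lit 7, nat_lit 8, nat_lit 7, nat_lit 8, nat_lit 2], .rel (nat_lit 158) (nat_lit 1) [nat_lit 6, nat_lit 7, nat_lit 8, nat_lit 4, nat_lit 8, nat_lit 5, nat_lit 8, nat_lit 3, nat_lit 3, nat_lit 7, nat_lit 3, nat_lit 8, nat_lit 0], .rel (nat_lit 172) (nat_lit 1) [nat_lit 4, nat_lit 7, nat_lit 8, nat_lit 7, nat_lit 6, nat_lit 3, nat_lit 7, nat_lit 2, nat_lit 8, nat_lit 5, nat_lit 7, nat_lit 8, nat_lit 2]],
  [.rel (nat_lit 10) (nat_lit 0) [nat_lit 6], .rel (nat_lit 66) (nat_lit 1) [nat_lit 9, nat_lit 6, nat_lit 9], .defn, .rel (nat_lit 42) (nat_lit 2) [nat_lit 3, nat_lit 6, nat_lit 3, nat_lit 3], .rel (nat_lit 43) (nat_lit 0) [nat_lit 4, nat_lit 6, nat_lit 4, nat_lit 4], .rel (nat_lit 38) (nat_lit 0) [nat_lit 7, nat_lit 6, nat_lit 7], .rel (nat_lit 44) (nat_lit 4) [nat_lit 3, nat_lit 3, nat_lit 6, nat_lit 4], .rel (nat_lit 49) (nat_lit 1) [nat_lit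 4, nat_lit 5, nat_lit 5, nat_lit 4, nat_lit 5], .sub (nat_lit 10) [] [], .rel (nat_lit 36) (nat_lit 0) [nat_lit 5, nat_lit 5, nat_lit 5], .rel (nat_lit 45) (nat_lit 2) [nat_lit 4, nat_lit 4, nat_lit 6, nat_lit 3], .rel (nat_lit 46) (nat_lit 2) [nat_lit 3, nat_lit 5, nat_lit 5, nat_lit 3, nat_lit 5], .rel (nat_lit 81) (nat_lit 2) [nat_lit 4, nat_lit 8, nat_lit 5, nat_lit 5, nat_lit 4, nat_lit 8, nat_lit 5], .rel (nat_lit 84) (nat_lit 0) [nat_lit 8, nat_lit 6, nat_lit 8, nat_lit 5, nat_lit 8, nat_lit 6, nat_lit 8], .rel (nat_lit 106) (nat_lit 11) [nat_lit 0, nat_lit 3, nat_lit 8, nat_lit 4, nat_lit 6, nat_lit 7, nat_lit 3, nat_lit 8, nat_lit 4, nat_lit 8, nat_lit 7], .rel (nat_lit 120) (nat_lit 6) [nat_lit 2, nat_lit 8, nat_lit 5, nat_lit 5, nat_lit 8, nat_lit 2, nat_lit 5, nat_lit 4, nat_lit 8, nat_lit 3, nat_lit 8], .rel (nat_lit 142) (nat_lit 2) [nat_lit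 7, nat_lit 8, nat_lit 3, nat_lit 8, nat_lit 4, nat_lit 7, nat_lit 3, nat_lit 6, nat_lit 8, nat_lit 3, nat_lit 0, nat_lit 3], .rel (nat_lit 160) (nat_lit 7) [nat_lit 7, nat_lit 3, nat_lit 1, nat_lit 8, nat_lit 4, nat_lit 7, nat_lit 0, nat_lit 6, nat_lit 3, nat_lit 8, nat_lit 4, nat_lit 8, nat_lit 1], .rel (nat_lit 164) (nat_lit 8) [nat_lit 1, nat_lit 8, nat_lit 5, nat_lit 1, nat_lit 8, nat_lit 1, nat_lit 2, nat_lit 5, nat_lit 8, nat_lit 1, nat_lit 2, nat_lit 5, nat_lit 8], .rel (nat_lit 176) (nat_lit 13) [nat_lit 2, nat_lit 4, nat_lit 8, nat_lit 3, nat_lit 2, nat_lit 6, nat_lit 8, nat_lit 2, nat_lit 6, nat_lit 8, nat_lit 5, nat_lit 2, nat_lit 8]],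
  [.rel (nat_lit 10) (nat_lit 1) [nat_lit 5], .rel (nat_lit 66) (nat_lit 3) [nat_lit 9, nat_lit 5, nat_lit 9], .defn, .rel (nat_lit 37) (nat_lit 0) [nat_lit 6, nat_lit 6, nat_lit 6], .rel (nat_lit 42) (nat_lit 4) [nat_lit 3, nat_lit 3, nat_lit 5, nat_lit 3], .rel (nat_lit 38) (nat_lit 2) [nat_lit 7, nat_lit 5, nat_lit 7], .rel (nat_lit 43) (nat_lit 2) [nat_lit 4, nat_lit 4, nat_lit 5, nat_lit 4], .rel (nat_lit 78) (nat_lit 6) [nat_lit 8, nat_lit 3, nat_lit 3, nat_lit 8, nat_lit 5, nat_lit 3, nat_lit 8], .sub (nat_lit 12) [] [], .rel (nat_lit 44) (nat_lit 2) [nat_lit 4, nat_lit 5, nat_lit 3, nat_lit 3], .rel (nat_lit 45) (nat_lit 0) [nat_lit 3, nat_lit 5, nat_lit 4, nat_lit 4], .rel (nat_lit 108) (nat_lit 11) [nat_lit 0, nat_lit 3, nat_lit 8, nat_lit 4, nat_lit 8, nat_lit 7, nat_lit 5, nat_lit 3, nat_lit 8, nat_lit 4, nat_lit 7], .rel (nat_lit 150) (nat_lit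 12) [nat_lit 0, nat_lit 3, nat_lit 8, nat_lit 4, nat_lit 7, nat_lit 8, nat_lit 3, nat_lit 8, nat_lit 4, nat_lit 5, nat_lit 8, nat_lit 7], .rel (nat_lit 178) (nat_lit 8) [nat_lit 7, nat_lit 8, nat_lit 7, nat_lit 8, nat_lit 6, nat_lit 3, nat_lit 7, nat_lit 6, nat_lit 6, nat_lit 7, nat_lit 8, nat_lit 3, nat_lit 8]],
  [.rel (nat_lit 14) (nat_lit 0) [nat_lit 7], .rel (nat_lit 38) (nat_lit 1) [nat_lit 6, nat_lit 7, nat_lit 5], .rel (nat_lit 68) (nat_lit 1) [nat_lit 9, nat_lit 7, nat_lit 6, nat_lit 6, nat_lit 2, nat_lit 9], .defn, .rel (nat_lit 38) (nat_lit 3) [nat_lit 5, nat_lit 7, nat_lit 6], .rel (nat_lit 72) (nat_lit 1) [nat_lit 8, nat_lit 7, nat_lit 4, nat_lit 8, nat_lit 3], .rel (nat_lit 69) (nat_lit 3) [nat_lit 9, nat_lit 7, nat_lit 9, nat_lit 2, nat_lit 5, nat_lit 5], .rel (nat_lit 72) (nat_lit 3) [nat_lit 4, nat_lit 8, nat_lit 3, nat_lit 7, nat_lit 8],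 .rel (nat_lit 138) (nat_lit 2) [nat_lit 8, nat_lit 1, nat_lit 2, nat_lit 4, nat_lit 8, nat_lit 3, nat_lit 8, nat_lit 7, nat_lit 1, nat_lit 8, nat_lit 0, nat_lit 2], .rel (nat_lit 102) (nat_lit 6) [nat_lit 8, nat_lit 3, nat_lit 8, nat_lit 4, nat_lit 7, nat_lit 0, nat_lit 3, nat_lit 6, nat_lit 8, nat_lit 5, nat_lit 4], .sub (nat_lit 14) [] [], .rel (nat_lit 53) (nat_lit 0) [nat_lit 4, nat_lit 7, nat_lit 4, nat_lit 7, nat_lit 4, nat_lit 7, nat_lit 4, nat_lit 7, nat_lit 4, nat_lit 7, nat_lit 4], .rel (nat_lit 54) (nat_lit 3) [nat_lit 3, nat_lit 7, nat_lit 4, nat_lit 7, nat_lit 3, nat_lit 7, nat_lit 4, nat_lit 7, nat_lit 3, nat_lit 7, nat_lit 4], .rel (nat_lit 82) (nat_lit 2) [nat_lit 8, nat_lit 5, nat_lit 5, nat_lit 7, nat_lit 8, nat_lit 5, nat_lit 5], .rel (nat_lit 110) (nat_lit 11) [nat_lit 0, nat_lit 5, nat_lit 3, nat_lit 8, nat_lit 4, nat_lit 7, nat_lit 6,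 nat_lit 8, nat_lit 3, nat_lit 8, nat_lit 4], .rel (nat_lit 144) (nat_lit 12) [nat_lit 0, nat_lit 3, nat_lit 6, nat_lit 8, nat_lit 3, nat_lit 3, nat_lit 7, nat_lit 5, nat_lit 3, nat_lit 8, nat_lit 4, nat_lit 8], .rel (nat_lit 146) (nat_lit 11) [nat_lit 8, nat_lit 0, nat_lit 3, nat_lit 8, nat_lit 4, nat_lit 5, nat_lit 8, nat_lit 6, nat_lit 7, nat_lit 3, nat_lit 8, nat_lit 4], .rel (nat_lit 149) (nat_lit 1) [nat_lit 8, nat_lit 4, nat_lit 7, nat_lit 8, nat_lit 7, nat_lit 3, nat_lit 7, nat_lit 3, nat_lit 8, nat_lit 4, nat_lit 0, nat_lit 8], .rel (nat_lit 166) (nat_lit 2) [nat_lit 8, nat_lit 4, nat_lit 2, nat_lit 3, nat_lit 7, nat_lit 8, nat_lit 4, nat_lit 8, nat_lit 2, nat_lit 3, nat_lit 8, nat_lit 1, nat_lit 2], .rel (nat_lit 175) (nat_lit 5) [nat_lit 4, nat_lit 4, nat_lit 7, nat_lit 8, nat_lit 7, nat_lit 6, nat_lit 3, nat_lit 2, nat_lit 8, nat_lit 7, nat_lit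 5, nat_lit 8, nat_lit 2]],
  [.rel (nat_lit 16) (nat_lit 0) [nat_lit 8], .defn, .rel (nat_lit 72) (nat_lit 2) [nat_lit 7, nat_lit 4, nat_lit 8, nat_lit 3, nat_lit 7], .rel (nat_lit 72) (nat_lit 5) [nat_lit 3, nat_lit 7, nat_lit 8, nat_lit 7, nat_lit 4], .rel (nat_lit 180) (nat_lit 2) [nat_lit 7, nat_lit 3, nat_lit 9, nat_lit 3, nat_lit 8, nat_lit 7, nat_lit 3, nat_lit 9, nat_lit 3, nat_lit 8, nat_lit 7, nat_lit 3, nat_lit 9, nat_lit 3, nat_lit 8, nat_lit 7, nat_lit 3, nat_lit 5, nat_lit 7, nat_lit 3, nat_lit 2, nat_lit 4, nat_lit 6, nat_lit 7, nat_lit 9, nat_lit 3], .rel (nat_lit 86) (nat_lit 4) [nat_lit 3, nat_lit 7, nat_lit 6, nat_lit 8, nat_lit 7, nat_lit 3, nat_lit 3, nat_lit 8, nat_lit 5], .rel (nat_lit 103) (nat_lit 4) [nat_lit 7, nat_lit 3, nat_lit 6, nat_lit 8, nat_lit 5, nat_lit 4, nat_lit 0, nat_lit 7, nat_lit 3, nat_lit 8, nat_lit 4], .rel (nat_lit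 112) (nat_lit 11) [nat_lit 1, nat_lit 3, nat_lit 8, nat_lit 1, nat_lit 4, nat_lit 8, nat_lit 1, nat_lit 3, nat_lit 8, nat_lit 4, nat_lit 1], .sub (nat_lit 16) [] [], .rel (nat_lit 78) (nat_lit 7) [nat_lit 3, nat_lit 3, nat_lit 8, nat_lit 5, nat_lit 3, nat_lit 8, nat_lit 6], .rel (nat_lit 79) (nat_lit 5) [nat_lit 4, nat_lit 4, nat_lit 8, nat_lit 5, nat_lit 8, nat_lit 4, nat_lit 6], .rel (nat_lit 86) (nat_lit 8) [nat_lit 7, nat_lit 3, nat_lit 3, nat_lit 8, nat_lit 5, nat_lit 8, nat_lit 3, nat_lit 7, nat_lit 6], .rel (nat_lit 89) (nat_lit 7) [nat_lit 4, nat_lit 4, nat_lit 8, nat_lit 4, nat_lit 8, nat_lit 6, nat_lit 8, nat_lit 4, nat_lit 5], .rel (nat_lit 98) (nat_lit 10) [nat_lit 2, nat_lit 3, nat_lit 3, nat_lit 8, nat_lit 4, nat_lit 4, nat_lit 2, nat_lit 5, nat_lit 8, nat_lit 6], .rel (nat_lit 100) (nat_lit 10) [nat_lit 2, nat_lit 3, nat_lit 5, nat_lit 8, nat_lit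 6, nat_lit 4, nat_lit 2, nat_lit 6, nat_lit 8, nat_lit 5], .rel (nat_lit 112) (nat_lit 2) [nat_lit 1, nat_lit 4, nat_lit 8, nat_lit 1, nat_lit 3, nat_lit 8, nat_lit 4, nat_lit 1, nat_lit 8, nat_lit 1, nat_lit 3], .rel (nat_lit 116) (nat_lit 11) [nat_lit 1, nat_lit 4, nat_lit 8, nat_lit 3, nat_lit 1, nat_lit 8, nat_lit 7, nat_lit 1, nat_lit 8, nat_lit 1, nat_lit 7], .rel (nat_lit 120) (nat_lit 11) [nat_lit 2, nat_lit 5, nat_lit 4, nat_lit 8, nat_lit 3, nat_lit 8, nat_lit 5, nat_lit 2, nat_lit 8, nat_lit 5, nat_lit 5], .rel (nat_lit 122) (nat_lit 8) [nat_lit 6, nat_lit 6, nat_lit 8, nat_lit 2, nat_lit 5, nat_lit 8, nat_lit 4, nat_lit 8, nat_lit 3, nat_lit 5, nat_lit 2], .rel (nat_lit 124) (nat_lit 11) [nat_lit 2, nat_lit 6, nat_lit 7, nat_lit 8, nat_lit 6, nat_lit 8, nat_lit 5, nat_lit 2, nat_lit 8, nat_lit 7, nat_lit 5], .rel (nat_lit 134) (nat_lit 12) [nat_lit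 0, nat_lit 2, nat_lit 3, nat_lit 8, nat_lit 4, nat_lit 2, nat_lit 8, nat_lit 2, nat_lit 3, nat_lit 8, nat_lit 4, nat_lit 2], .rel (nat_lit 142) (nat_lit 6) [nat_lit 4, nat_lit 7, nat_lit 3, nat_lit 6, nat_lit 8, nat_lit 3, nat_lit 0, nat_lit 3, nat_lit 5, nat_lit 7, nat_lit 8, nat_lit 3], .rel (nat_lit 152) (nat_lit 12) [nat_lit 1, nat_lit 3, nat_lit 5, nat_lit 1, nat_lit 8, nat_lit 6, nat_lit 4, nat_lit 7, nat_lit 5, nat_lit 8, nat_lit 6, nat_lit 7], .rel (nat_lit 154) (nat_lit 10) [nat_lit 6, nat_lit 8, nat_lit 1, nat_lit 5, nat_lit 2, nat_lit 4, nat_lit 6, nat_lit 1, nat_lit 8, nat_lit 5, nat_lit 3, nat_lit 2], .rel (nat_lit 181) (nat_lit 14) [nat_lit 4, nat_lit 9, nat_lit 4, nat_lit 7, nat_lit 8, nat_lit 4, nat_lit 9, nat_lit 4, nat_lit 7, nat_lit 8, nat_lit 4, nat_lit 9, nat_lit 7, nat_lit 5, nat_lit 3, nat_lit 2, nat_lit 4, nat_lit 7, nat_lit 6, nat_lit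 4, nat_lit 7, nat_lit 8, nat_lit 4, nat_lit 9, nat_lit 4, nat_lit 7]],
  [.rel (nat_lit 18) (nat_lit 0) [nat_lit 9], .defn, .rel (nat_lit 64) (nat_lit 2) [nat_lit 4, nat_lit 9, nat_lit 3], .rel (nat_lit 66) (nat_lit 0) [nat_lit 5, nat_lit 9, nat_lit 6]]]
noncomputable def cN : TCert2 := ⟨154, 154, 157, 10, 255, 2047, 1, TN, IN, DN, EN, JN, WN, [[nat_lit 0],
  [nat_lit 1],
  [nat_lit 2],
  [nat_lit 3],
  [nat_lit 4],
  [nat_lit 5],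
  [nat_lit 6],
  [nat_lit 7],
  [nat_lit 8]], RLN⟩
noncomputable def AK : List AT := [(.e (.c (.l [nat_lit 0]) (.y (.e (.c (.l [nat_lit 3, nat_lit 8, nat_lit 7, nat_lit 3]) (.c (.y (.e (.c (.l [nat_lit 3, nat_lit 8, nat_lit 7, nat_lit 3]) (.c (.y (.e (.c (.l [nat_lit 3, nat_lit 8, nat_lit 7, nat_lit 3]) (.c (.y (.e (.l [nat_lit 3, nat_lit 8, nat_lit 7, nat_lit 3, nat_lit 5, nat_lit 7, nat_lit 3, nat_lit 2, nat_lit 4, nat_lit 6, nat_lit 7, nat_lit 0, nat_lit 7, nat_lit 5, nat_lit 3, nat_lit 2, nat_lit 4, nat_lit 7, nat_lit 6, nat_lit 4, nat_lit 7, nat_lit 8, nat_lit 4]) [nat_lit 0])) (.l [nat_lit 4, nat_lit 7, nat_lit 8, nat_lit 4]))) [nat_lit 2, nat_lit 4, nat_lit 2, nat_lit 7, nat_lit 3, nat_lit 2, nat_lit 4, nat_lit 7, nat_lit 3])) (.l [nat_lit 4, nat_lit 7, nat_lit 8, nat_lit 4]))) [nat_lit 2, nat_lit 3, nat_lit 2, nat_lit 7, nat_lit 3, nat_lit 2, nat_lit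 4, nat_lit 7, nat_lit 4])) (.l [nat_lit 4, nat_lit 7, nat_lit 8, nat_lit 4]))) [nat_lit 1]))) []),
  (.y (.e (.c (.l [nat_lit 3, nat_lit 8, nat_lit 7, nat_lit 3]) (.c (.y (.e (.c (.l [nat_lit 3, nat_lit 8, nat_lit 7, nat_lit 3]) (.c (.y (.e (.c (.l [nat_lit 3, nat_lit 8, nat_lit 7, nat_lit 3]) (.c (.y (.e (.c (.l [nat_lit 3, nat_lit 8, nat_lit 7, nat_lit 3]) (.c (.y (.e (.l [nat_lit 3, nat_lit 8, nat_lit 7, nat_lit 3, nat_lit 5, nat_lit 7, nat_lit 3, nat_lit 2, nat_lit 4, nat_lit 6, nat_lit 7, nat_lit 4, nat_lit 7, nat_lit 8, nat_lit 4]) [nat_lit 5, nat_lit 7, nat_lit 4, nat_lit 2, nat_lit 3, nat_lit 6, nat_lit 7])) (.l [nat_lit 7, nat_lit 5, nat_lit 3, nat_lit 2, nat_lit 4, nat_lit 7, nat_lit 6, nat_lit 4, nat_lit 7, nat_lit 8, nat_lit 4]))) [])) (.l [nat_lit 4, nat_lit 7, nat_lit 8, nat_lit 4]))) [])) (.l [nat_lit 4, nat_lit 7, nat_lit 8, nat_lit 4])))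 [])) (.l [nat_lit 4, nat_lit 7, nat_lit 8, nat_lit 4]))) [])),
  (.e (.c (.l [nat_lit 0, nat_lit 1, nat_lit 7, nat_lit 4, nat_lit 5, nat_lit 7]) (.y (.e (.c (.l [nat_lit 3, nat_lit 8, nat_lit 7, nat_lit 3]) (.c (.y (.e (.c (.l [nat_lit 3, nat_lit 8, nat_lit 7, nat_lit 3]) (.c (.y (.e (.c (.l [nat_lit 3, nat_lit 8, nat_lit 7, nat_lit 3]) (.c (.y (.e (.l [nat_lit 3, nat_lit 8, nat_lit 7, nat_lit 3, nat_lit 5, nat_lit 7, nat_lit 3, nat_lit 2, nat_lit 4, nat_lit 6, nat_lit 7, nat_lit 7, nat_lit 6, nat_lit 3, nat_lit 7, nat_lit 1, nat_lit 0, nat_lit 7, nat_lit 5, nat_lit 3, nat_lit 2, nat_lit 4, nat_lit 7, nat_lit 6, nat_lit 4, nat_lit 7, nat_lit 8, nat_lit 4]) [nat_lit 1, nat_lit 4, nat_lit 2, nat_lit 4, nat_lit 7, nat_lit 3, nat_lit 7, nat_lit 4, nat_lit 2, nat_lit 4, nat_lit 4, nat_lit 7, nat_lit 4])) (.l [nat_lit 4, nat_lit 7, nat_lit 8, nat_lit 4]))) [nat_lit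 3, nat_lit 2, nat_lit 5, nat_lit 7, nat_lit 3, nat_lit 7, nat_lit 4, nat_lit 2, nat_lit 4, nat_lit 6, nat_lit 7, nat_lit 3, nat_lit 2, nat_lit 3])) (.l [nat_lit 4, nat_lit 7, nat_lit 8, nat_lit 4]))) [nat_lit 0, nat_lit 1, nat_lit 2, nat_lit 7, nat_lit 4, nat_lit 2, nat_lit 5, nat_lit 4, nat_lit 7])) (.l [nat_lit 4, nat_lit 7, nat_lit 8, nat_lit 4]))) [nat_lit 0, nat_lit 1, nat_lit 2, nat_lit 6, nat_lit 7, nat_lit 4, nat_lit 2, nat_lit 7]))) []),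
  (.e (.c (.l [nat_lit 1, nat_lit 5, nat_lit 8, nat_lit 1, nat_lit 8, nat_lit 6]) (.y (.e (.c (.l [nat_lit 3, nat_lit 8, nat_lit 7, nat_lit 3]) (.c (.y (.e (.c (.l [nat_lit 3, nat_lit 8, nat_lit 7, nat_lit 3]) (.c (.y (.e (.c (.l [nat_lit 3, nat_lit 8, nat_lit 7, nat_lit 3]) (.c (.y (.e (.l [nat_lit 3, nat_lit 8, nat_lit 7, nat_lit 3, nat_lit 5, nat_lit 7, nat_lit 3, nat_lit 2, nat_lit 4, nat_lit 6, nat_lit 7, nat_lit 5, nat_lit 8, nat_lit 1, nat_lit 8, nat_lit 6, nat_lit 1, nat_lit 7, nat_lit 5, nat_lit 3, nat_lit 2, nat_lit 4, nat_lit 7, nat_lit 6, nat_lit 4, nat_lit 7, nat_lit 8, nat_lit 4]) [nat_lit 0, nat_lit 1, nat_lit 3, nat_lit 2, nat_lit 5, nat_lit 7, nat_lit 3, nat_lit 2, nat_lit 4, nat_lit 7, nat_lit 3, nat_lit 2, nat_lit 6, nat_lit 3])) (.l [nat_lit 4, nat_lit 7, nat_lit 8, nat_lit 4]))) [nat_lit 3, nat_lit 2, nat_lit 7, nat_lit 4, nat_lit 2,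 nat_lit 3, nat_lit 7, nat_lit 4])) (.l [nat_lit 4, nat_lit 7, nat_lit 8, nat_lit 4]))) [nat_lit 0, nat_lit 1, nat_lit 5, nat_lit 3, nat_lit 2, nat_lit 4, nat_lit 7, nat_lit 4, nat_lit 2, nat_lit 3, nat_lit 6, nat_lit 7])) (.l [nat_lit 4, nat_lit 7, nat_lit 8, nat_lit 4]))) [nat_lit 0, nat_lit 3, nat_lit 2, nat_lit 5, nat_lit 3, nat_lit 2, nat_lit 7, nat_lit 3, nat_lit 2, nat_lit 4, nat_lit 6, nat_lit 7, nat_lit 3]))) [])]
noncomputable def Th : List (List ℕ) := [[nat_lit 3, nat_lit 3, nat_lit 7, nat_lit 4, nat_lit 2, nat_lit 8, nat_lit 6, nat_lit 3, nat_lit 8, nat_lit 6, nat_lit 2],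
  [nat_lit 2, nat_lit 5, nat_lit 8, nat_lit 4, nat_lit 5, nat_lit 8, nat_lit 2, nat_lit 3, nat_lit 7, nat_lit 4, nat_lit 4, nat_lit 0, nat_lit 3, nat_lit 5, nat_lit 7, nat_lit 3, nat_lit 7, nat_lit 8, nat_lit 1, nat_lit 3, nat_lit 2, nat_lit 3, nat_lit 8, nat_lit 6],
  [nat_lit 5, nat_lit 8, nat_lit 4, nat_lit 2, nat_lit 4, nat_lit 1, nat_lit 8, nat_lit 7, nat_lit 4, nat_lit 7, nat_lit 6, nat_lit 4, nat_lit 0]]
noncomputable def AH : List AT := [(.e (.c (.y (.e (.c (.l [nat_lit 3, nat_lit 8, nat_lit 7, nat_lit 3]) (.c (.y (.e (.c (.c (.l [nat_lit 3, nat_lit 8, nat_lit 7, nat_lit 3]) (.c (.y (.e (.c (.l [nat_lit 3, nat_lit 8, nat_lit 7, nat_lit 3]) (.c (.y (.e (.l [nat_lit 3, nat_lit 8, nat_lit 7, nat_lit 3, nat_lit 5, nat_lit 7, nat_lit 3, nat_lit 2, nat_lit 4, nat_lit 6, nat_lit 7, nat_lit 3, nat_lit 3, nat_lit 7, nat_lit 4, nat_lit 2, nat_lit 8, nat_lit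 6, nat_lit 3, nat_lit 8, nat_lit 6, nat_lit 2]) [nat_lit 1, nat_lit 2, nat_lit 3, nat_lit 5, nat_lit 5, nat_lit 7, nat_lit 3, nat_lit 2, nat_lit 3, nat_lit 7, nat_lit 4, nat_lit 2])) (.l [nat_lit 3, nat_lit 8, nat_lit 7, nat_lit 3]))) [nat_lit 2, nat_lit 5, nat_lit 4, nat_lit 2, nat_lit 7, nat_lit 4, nat_lit 2, nat_lit 7, nat_lit 4, nat_lit 2, nat_lit 4, nat_lit 7])) (.l [nat_lit 3, nat_lit 8, nat_lit 7, nat_lit 3]))) (.c (.y (.e (.c (.l [nat_lit 3, nat_lit 8, nat_lit 7, nat_lit 3]) (.c (.y (.e (.l [nat_lit 3, nat_lit 8, nat_lit 7, nat_lit 3, nat_lit 5, nat_lit 7, nat_lit 3, nat_lit 2, nat_lit 4, nat_lit 6, nat_lit 7, nat_lit 2, nat_lit 5, nat_lit 8, nat_lit 4, nat_lit 5, nat_lit 8, nat_lit 2, nat_lit 3, nat_lit 7, nat_lit 4, nat_lit 4, nat_lit 0, nat_lit 3, nat_lit 5, nat_lit 7, nat_lit 3, nat_lit 7, nat_lit 8, nat_lit 1, nat_lit 3, nat_lit 2, nat_lit 3,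 nat_lit 8, nat_lit 6]) [nat_lit 7, nat_lit 3, nat_lit 7, nat_lit 4, nat_lit 2, nat_lit 7, nat_lit 4, nat_lit 2, nat_lit 6, nat_lit 3, nat_lit 2])) (.l [nat_lit 3, nat_lit 8, nat_lit 7, nat_lit 3]))) [nat_lit 0, nat_lit 4, nat_lit 2, nat_lit 5, nat_lit 7, nat_lit 4, nat_lit 5, nat_lit 7, nat_lit 4, nat_lit 2, nat_lit 4, nat_lit 4])) (.l [nat_lit 3, nat_lit 8, nat_lit 7, nat_lit 3]))) [nat_lit 4, nat_lit 4, nat_lit 7, nat_lit 4])) (.l [nat_lit 3, nat_lit 8, nat_lit 7, nat_lit 3]))) [nat_lit 0, nat_lit 5, nat_lit 3, nat_lit 2, nat_lit 3, nat_lit 7, nat_lit 3, nat_lit 7, nat_lit 3, nat_lit 2, nat_lit 4, nat_lit 5, nat_lit 7])) (.l [nat_lit 3, nat_lit 8, nat_lit 7, nat_lit 3, nat_lit 5, nat_lit 7, nat_lit 3, nat_lit 2, nat_lit 4, nat_lit 6, nat_lit 7, nat_lit 5, nat_lit 8, nat_lit 4, nat_lit 2, nat_lit 4, nat_lit 1, nat_lit 8, nat_lit 7, nat_lit 4, nat_lit 7,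 nat_lit 6, nat_lit 4, nat_lit 0])) [])]
noncomputable def th (W : List ℕ) : List ℕ := W ++ (nth [] Th 0 ++ (W ++ (nth [] Th 1 ++ (W ++ nth [] Th 2))))
noncomputable def NF (U V : List ℕ) : ℕ := Nat.add (Nat.add (okH 14 9 U) (okH 14 9 V)) (NE U V)
noncomputable def Y_W : List (List ℕ) := [[nat_lit 6, nat_lit 0, nat_lit 1, nat_lit 0, nat_lit 3, nat_lit 4, nat_lit 0, nat_lit 2, nat_lit 5, nat_lit 0, nat_lit 1, nat_lit 3, nat_lit 1, nat_lit 5, nat_lit 0, nat_lit 6, nat_lit 3, nat_lit 1, nat_lit 6, nat_lit 3, nat_lit 1, nat_lit 2, nat_lit 6, nat_lit 7, nat_lit 6, nat_lit 3, nat_lit 1, nat_lit 4, nat_lit 6, nat_lit 3, nat_lit 1, nat_lit 2, nat_lit 6, nat_lit 2]]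
noncomputable def Y_Pd0 : BT := (.node (.node (.node (.node (.leaf (nat_lit 0x2dd4e112d0fc17456c7177346b18ce6df73845d68a1b067f7356ca31888b44a52d8bb3da17c5fe5e81ff6071b36e86b51487760468c83061072d63406222a42e82e029d6db42d7d37c03df7090286fd73b41302a32f0276c87377ff81060e20e7405e01fc46a6f42076e96dc6e437e74604f4be6f36c46ad6361bd3c61874f54e86657456f08c73c785704d6698356ef65d05a0568d809408f8a426025f8c409109b09366309581309a2f41884602688548be65c1bc0590538584e68b063d1818a28323cc1726624946490444404ba04e6ec00a00965f2fe54873a4704e764805e67682526c7b92ff86866063046905d85106a06059979109e08637379a09d01540e0857727ea1530b40750a32131d682385d69f8960dd1240785bc5404dc53f5f603e4090168ed4db5bd03863a1861f71ed6188af87155216e63c1f36685560c87e50cc0c641240b1f81f45a17ac8341ee1671e68a74633bb3b226d67203c0551f26757b56991f12ae54d15911b1d007307210e11c71170e1066522092a91d1)) (.leaf (nat_lit 0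x8d66c73d58ba3cd6d57437182f52e729f6f12d32aa03b2e66b212b8c573e3038c11566b73d074a20f6e72ee8d02f06c56d630c2ab09c78f8fb8068524fb3e78ca8de3c40f638a8155398d17d00dc0a63f68e90967f98048e68398820893a67da0e98f885f4f31e36ee77a7944554ef72f08203221f6eb7ec7fd3f545080701c4f07b809977e07f38f7d57fb4d92382bb3915eb4d38982f70472c172b32d5f04ee4c525c8504d55f70ec4e22c02ba53176282b3a344f8bf7fa45743385b35c21d38747e8224861613886885c83335b90318551b862e43d36a4de6585920644d82ec41b4664344c64e41be8b972204971b87e3e87cf0840a43fc87008a5d08d405f88e59121c5ef4ea5b31942b85f53237287244dd4a63b73f443a2903626157c53fe3bd8c04cc4855ab0a102076107e1e72256ea3ce7926a88857bc3ed3b87293ff06826204a8798215d619381e4cd3ad5414822fd3be5103278cc3b60902d98110c22d879f61d6003c35ae63917a8a88d51898c250e18a5fc3d4))) (.leaf (nat_lit 0x5965c517069d8d31d24115cb19d7770ab3ea8b86983768a68b28915cc16b60584c6a40aa06c0832448611388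8a0fe5da16886b84404103a1c789e8671d520688d19f89969a5cd1a51d336e81d8386a116a18d19c28786289069643c6946a76be2a60b35c678147d07665a24821e4024b527b2ea7c33572a848a1cb2935045f34aa41f2055d984316012a21741e60255370a39539e4486d169b5ca16919250b6cf07a75f5117ed7e27b47f312f3801b94af37035b1ce87883763237781a2986891df87a4bb11313a1a85882853a26a344447437c47237406d3647607dc7717d40bc06151c2b68642ac41701b40711e08c5c979d0f35635435367a37588801c58b36425951e43818a98835d744d3851360eb36f49c4471b15694753ec2613790771fd21a86d4c322a8406065191ef21921886387f3d67c913713f1d40d16c01fe1291321b258664d67c3193353296ab20b4a94a25746b386536d34333a4646506ed73f0c90264f960f3bc05432263102565e03d40846231d3b366e5444b617f1b7))) (.node (.leaf (nat_lit 0x6507081933e7d12781aa6298975e78f308e3a97837938dd7508df14d8665844b36780d58f28ec77b51d62374f7c20d47677570ff2dc7bb77581280f7d80d97567bd8ef5a766d32b56e6ff747320312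3a43a864b32a36c62a33c63f5af89588920352c17733b89c88838284966b4673ae10014137565167952200f3394658d98ee0014b06244bf50c0d67c13787ae1458f17d60d33445d820a3714816731761641624ad33634283f1e11ea3345bb5f15c05d31bb4c75934785c25e53bf5d261b18c5457c627c4b41787632fa3263aa76c7a11c162b7b67a76125d40180671827597d908b37f2667cb25924d82444209809717365588f5d12512641846845ad5b22545ed3c825a5ac5c15ff2633461a76453374b81837446e04e564e3ab33832520860b33f6541c06135fa89d59e5583661c260134c71d72c53d55c3ca38650243b3525b41dc1c983064151f66f19e6148ae4b787c84e21b43e4364354a353e11911f04c6046095e38e10c05ee36042029a00223f0ba4d64a81172bf3563f27e3)) (.leaf (nat_lit 0x2ce76f0cb11612714c13e6f81f63515160bb0b210d8f00a70a08b64150748ad82f0b90e18e01355760b77e75075242450f51091ca0b80d25151a23ee7de8db8f610136552549b6d04957e912510f5770ee78b0c58fa10a8dc0b11153e534b42c37a4c051311414b6ba10412e8e45c30e015d41c8eb0f7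5595655600b012042164a51282c4c11916a54e94763b94cb69e0486a04fc35d49a4d20114f23544c41eb4c23b152754b54e12318f30e6117e40f24808755dd78076825778777d3cf52a0f058331142570b3982b02e97650690137db29701765b6402224042d176e2b757d0a202c5ce16f0a97a609207b7c806307140a09f0886714b93eb86a7ce79625d23c7dd0032b14165572434267e02c86aa07906b64736324a76b1ae4542246702c37f008102e78c0378097ab7980af7ee1c354248440c06254786e1111572722c52f87795db7a55262a72e30d719815252077c80d7302807f254f03370f32e83d22023a26f68c5674100c17b374923e5b021139b0e34394eb21239c4a123380c)))) (.node (.node (.leaf (nat_lit 0xe442b43f0bd7b75235aa0240356f71f502302d01401058d43701f03435869528e7a01e883101d5344528b719528f76647f50f7072273555f254c5375ea04b4d742e4cf4fa00000b5464875005184ae6dd2261664da3f845635f63423427323b57c8600ae08728875d48b86f4005c41637780e24284460f176a6433e25cf31e2f958147a24b5494d034d3b06d91a15e14d42214f74c8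19b5b535e6215685711e284a81f4976a619068e52b4c927f75e80280508d0ac03679525824726b0807e14017aa7860e775a8087fc27a2bd29675b0fb25e07c7be4fd66602f72a71f4ec4ca4984df01e1c83902951b52948774a510c13d6b470c71930900d36862c8e515556f05062057050955f1052ed6fa6bb7531490df7cd3312a01343831422b359842f6f915e72374d47b5904e343044b6e61447f442910212c48d6b80fd1308ea4a442a7126fb7486cd04568f70074c6ac21446133200700c7012153672046fc6c36bc47c55e62d33d6cc0086f215f7066c66de53c0da00414e6b91031316d42b4)) (.leaf (nat_lit 0x24e0e67ba8017102395bf5e488c03f8487204ab1da28b89284d20d2537ad89a1d75b60e52f679b2835f82103d81a00be7b27af6873726274e04a729b44e82070826e28928125b8531ac6674d14ed4f849945f87453b4bd4fe1b66b628424f28a5f976d03904328c7f68727fe5b75e919a22884b2557f160a2c280a2562508361f95895a82d271353072e34770402272772d23774b3fa58773205c14055a4ff45350d28686984f13971558e1f03ac36951a5a947959b4277f82eb67e5611a956b57f50866a1bf76457a3483616cb6e531541d3e934f1961511542cf75c0fa58031044519761038e6af71c45c31a5826ae14f11234e22e3285976b023664f02b7335544a003035031661969000e1d969139f1a606f62f1cf27e40345b63381b04204021622f1085c77028cb5381d845a38c1e53a03cb8875a53243fb0ea2be18e68070338d6926256d26e11fa2af79061f22330a2e44683b558a4381cc7146f56da7266bd6a94928171de8035942a549650a15057e6e27163944ac7f722b7051cd)))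 (.node (.leaf (nat_lit 0x82683b34985652e59c3c51c63f78c68aa8413892013843993e46d88294436594f457385a8d27256c23ef37b1ad3d73a10ce7733923c17e60e835a5e23e14328f98003d33977b18e368182e8f707d53222d7702520a50ad3f98cf80b7f53dc79e28281883a40f01a34a6a282884281451b3a74050196931a33042b581c58c2422762f32c93b48bd3052ca8844773e053354a49d35960360831c3f067a3d238b49e5053933dd89b1658a15665285353968cd3f387687b22c44c3f11432b945148c2670b631f4733e36bf4412a24834f12b24710585dc2994894494ce41a2c630f86c58b1581182356d346f64683e57820c1c419969c87d4883d939d1ec4b12021db6973532296f655157255d1a42326c13ba3fd5795a324c7a429c4192917ef0d823d2fc1102c42bc4182ad24124929242328d87311d14678a0c761689330b2d02c742255b81627724052f84740d3012cc37d1ab40639a3005624240ed7855505757217312cb67d56a36b68d7698da32c51e15a7977c70db3a53af8e778d32131b)) (.leaf (nat_lit 0xc35b88ab17989f8818c35855035ba3c213348e61a5b163e34163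54918ac73d0516ce73c6e33db02968b20049018064c7416d765346d6748bc2692d77d729e8a046b0d07d22fb8c98596571477bf26575143166130727d83c7b04b22e12a30cf7cc1712d482a2db5fd0668a51fb27101248f60d5df3d17c45de2a15ec02163817e7a97a22706646263454597a82741e980e3c045e7845e605774e6373086561858b42f182d05b5218d778e30263b6c933073675268317d31779c2f27544bc6867398a368261e2e58b56281b44f60de2da7423de05246c3c96fe66c5be2756441af30d6852df1e067757b27988683346e49318b1ba56d17517b26a4582de2d575578214a7887ca2ef2e279913b12159d8e260c1262cd0b50a82468f57747df0bf4148e87eb7e80ca06e77f0f40c47890ef0f855559a31361c8b15a459f23089416d8278465a05143e684513c85e3145f416c70d23156485c71a15b8f40f950658f5175a61280065fb61700571e15c67b49f0cd5d51dd10b5015a252953a11a122)))))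
noncomputable def Y_Pd : List BT := [Y_Pd0]
noncomputable def Y_P (k u : ℕ) : ℕ := force (Nat.shiftRight u (nat_lit 8)) fun j => Nat.land (Nat.shiftRight ((nth (BT.leaf (nat_lit 0)) Y_Pd k).get j) (Nat.mul (Nat.land u (nat_lit 255)) (nat_lit 12))) (nat_lit 4095)
noncomputable def FQ (k : ℕ) : ℕ → ℕ := bif k.beq 9 then Y_P 0 else J_P k
noncomputable def GW (W U : List ℕ) : ℕ := Nat.add (cN.goal W) (Nat.add (okH 14 9 U) (eqL FQ 14 H15.Co2.B W U))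
noncomputable def nW : List ℕ := [nat_lit 9, nat_lit 8, nat_lit 5, nat_lit 9, nat_lit 8]
noncomputable def nI : List ℕ := [nat_lit 8, nat_lit 9, nat_lit 6, nat_lit 8, nat_lit 9]
noncomputable def Ys : List (List ℕ) := [[nat_lit 0, nat_lit 2, nat_lit 3, nat_lit 7, nat_lit 3, nat_lit 2, nat_lit 4, nat_lit 7, nat_lit 4],
  [nat_lit 3, nat_lit 8, nat_lit 7, nat_lit 3, nat_lit 7, nat_lit 4, nat_lit 4, nat_lit 8],
  [nat_lit 1, nat_lit 4, nat_lit 4, nat_lit 7, nat_lit 3, nat_lit 3, nat_lit 7, nat_lit 3, nat_lit 2],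
  [nat_lit 8, nat_lit 7, nat_lit 3, nat_lit 7, nat_lit 8, nat_lit 4],
  [nat_lit 4, nat_lit 7, nat_lit 3, nat_lit 7, nat_lit 3, nat_lit 2, nat_lit 7, nat_lit 8, nat_lit 5, nat_lit 8, nat_lit 1],
  [nat_lit 3, nat_lit 5, nat_lit 7, nat_lit 4, nat_lit 2, nat_lit 5, nat_lit 3]]
noncomputable def Yt : List (List ℕ) := [[nat_lit 0],
  [nat_lit 0, nat_lit 3, nat_lit 7, nat_lit 8, nat_lit 4, nat_lit 7, nat_lit 3, nat_lit 2, nat_lit 8, nat_lit 1, nat_lit 4],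
  [nat_lit 0, nat_lit 8, nat_lit 1, nat_lit 2, nat_lit 5, nat_lit 8, nat_lit 5, nat_lit 4],
  [nat_lit 1, nat_lit 8, nat_lit 2, nat_lit 3, nat_lit 5, nat_lit 7, nat_lit 8, nat_lit 6, nat_lit 4, nat_lit 7],
  [nat_lit 8, nat_lit 1, nat_lit 2, nat_lit 4, nat_lit 7, nat_lit 3, nat_lit 7, nat_lit 4, nat_lit 4, nat_lit 8],
  [nat_lit 5, nat_lit 3, nat_lit 7, nat_lit 4, nat_lit 7, nat_lit 4, nat_lit 2, nat_lit 3, nat_lit 5, nat_lit 7, nat_lit 4]]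
noncomputable def Wp : List (List ℕ) := [[nat_lit 3, nat_lit 3, nat_lit 7, nat_lit 4, nat_lit 4],
  [nat_lit 9, nat_lit 8, nat_lit 1, nat_lit 7, nat_lit 8, nat_lit 4, nat_lit 7, nat_lit 3, nat_lit 8, nat_lit 1, nat_lit 7, nat_lit 8, nat_lit 9],
  [nat_lit 4, nat_lit 4, nat_lit 8, nat_lit 2, nat_lit 8, nat_lit 3, nat_lit 3],
  [nat_lit 0, nat_lit 3, nat_lit 5, nat_lit 7, nat_lit 3, nat_lit 7, nat_lit 4, nat_lit 6, nat_lit 7, nat_lit 4],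
  [nat_lit 8],
  [nat_lit 5, nat_lit 7, nat_lit 4, nat_lit 7, nat_lit 3, nat_lit 6, nat_lit 7],
  [nat_lit 10],
  [nat_lit 2, nat_lit 3, nat_lit 2, nat_lit 7, nat_lit 3, nat_lit 2, nat_lit 4, nat_lit 7, nat_lit 4]]
noncomputable def Mt : List (List ℕ) := [[nat_lit 1, nat_lit 8, nat_lit 2, nat_lit 4, nat_lit 4, nat_lit 2, nat_lit 7, nat_lit 3, nat_lit 3, nat_lit 2],
  [nat_lit 1, nat_lit 6, nat_lit 3, nat_lit 8, nat_lit 1, nat_lit 4, nat_lit 8, nat_lit 5]]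
noncomputable def cmc (H M M' : List ℕ) : ℕ := Nat.add (Nat.add (GW (nW ++ (H ++ (M ++ (H ++ nI)))) M') (GW (M ++ M) []))
  (Nat.add (Nat.add (EQ (H ++ H) []) (EQ (10 :: H) (H ++ [10]))) (EQ (13 :: M') (M' ++ [13])))
noncomputable def AR : List AT := [(.l [nat_lit 3, nat_lit 3, nat_lit 7, nat_lit 4, nat_lit 4, nat_lit 3, nat_lit 3, nat_lit 7, nat_lit 4, nat_lit 4]),
  (.c (.l [nat_lit 9]) (.c (.l [nat_lit 8, nat_lit 1, nat_lit 7, nat_lit 8, nat_lit 4, nat_lit 7, nat_lit 3, nat_lit 8, nat_lit 1, nat_lit 7, nat_lit 8]) (.c (.l [nat_lit 9]) (.c (.l [nat_lit 9]) (.c (.l [nat_lit 8, nat_lit 1, nat_lit 7, nat_lit 8, nat_lit 4, nat_lit 7, nat_lit 3, nat_lit 8, nat_lit 1, nat_lit 7, nat_lit 8]) (.l [nat_lit 9])))))),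
  (.l [nat_lit 4, nat_lit 4, nat_lit 8, nat_lit 2, nat_lit 8, nat_lit 3, nat_lit 3, nat_lit 4, nat_lit 4, nat_lit 8, nat_lit 2, nat_lit 8, nat_lit 3, nat_lit 3]),
  (.l [nat_lit 0, nat_lit 3, nat_lit 5, nat_lit 7, nat_lit 3, nat_lit 7, nat_lit 4, nat_lit 6, nat_lit 7, nat_lit 4, nat_lit 0, nat_lit 3, nat_lit 5, nat_lit 7, nat_lit 3, nat_lit 7, nat_lit 4, nat_lit 6, nat_lit 7, nat_lit 4]),
  (.l [nat_lit 8, nat_lit 8]),
  (.l [nat_lit 5, nat_lit 7, nat_lit 4, nat_lit 7, nat_lit 3, nat_lit 6, nat_lit 7, nat_lit 5, nat_lit 7, nat_lit 4, nat_lit 7, nat_lit 3, nat_lit 6, nat_lit 7]),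
  (.e (.l [nat_lit 10, nat_lit 10]) []),
  (.l [nat_lit 2, nat_lit 3, nat_lit 2, nat_lit 7, nat_lit 3, nat_lit 2, nat_lit 4, nat_lit 7, nat_lit 4, nat_lit 2, nat_lit 3, nat_lit 2, nat_lit 7, nat_lit 3, nat_lit 2, nat_lit 4, nat_lit 7, nat_lit 4]),
  (.l [nat_lit 4, nat_lit 4, nat_lit 8, nat_lit 2, nat_lit 8, nat_lit 3, nat_lit 3, nat_lit 0, nat_lit 3, nat_lit 5, nat_lit 7, nat_lit 3, nat_lit 7, nat_lit 4, nat_lit 6, nat_lit 7, nat_lit 4, nat_lit 4, nat_lit 4, nat_lit 8, nat_lit 2, nat_lit 8, nat_lit 3, nat_lit 3, nat_lit 0, nat_lit 3, nat_lit 5, nat_lit 7, nat_lit 3, nat_lit 7, nat_lit 4, nat_lit 6, nat_lit 7, nat_lit 4]),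
  (.l [nat_lit 3, nat_lit 3, nat_lit 7, nat_lit 4, nat_lit 4, nat_lit 0, nat_lit 3, nat_lit 5, nat_lit 7, nat_lit 3, nat_lit 7, nat_lit 4, nat_lit 6, nat_lit 7, nat_lit 4, nat_lit 3, nat_lit 3, nat_lit 7, nat_lit 4, nat_lit 4, nat_lit 0, nat_lit 3, nat_lit 5, nat_lit 7, nat_lit 3, nat_lit 7, nat_lit 4, nat_lit 6, nat_lit 7, nat_lit 4]),
  (.c (.l [nat_lit 3, nat_lit 3, nat_lit 7, nat_lit 4, nat_lit 4]) (.c (.l [nat_lit 9]) (.c (.l [nat_lit 8, nat_lit 1, nat_lit 7, nat_lit 8, nat_lit 4, nat_lit 7, nat_lit 3, nat_lit 8, nat_lit 1, nat_lit 7, nat_lit 8]) (.c (.l [nat_lit 9]) (.c (.l [nat_lit 4, nat_lit 4, nat_lit 8, nat_lit 2, nat_lit 8, nat_lit 3, nat_lit 3, nat_lit 3, nat_lit 3, nat_lit 7, nat_lit 4, nat_lit 4, nat_lit 4, nat_lit 4, nat_lit 8, nat_lit 2, nat_lit 8, nat_lit 3, nat_lit 3]) (.c (.l [nat_lit 9]) (.c (.l [nat_lit 8, nat_lit 1, nat_lit 7, nat_lit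 8, nat_lit 4, nat_lit 7, nat_lit 3, nat_lit 8, nat_lit 1, nat_lit 7, nat_lit 8]) (.l [nat_lit 9])))))))),
  (.c (.l [nat_lit 3, nat_lit 3, nat_lit 7, nat_lit 4, nat_lit 4]) (.c (.l [nat_lit 9]) (.c (.l [nat_lit 8, nat_lit 1, nat_lit 7, nat_lit 8, nat_lit 4, nat_lit 7, nat_lit 3, nat_lit 8, nat_lit 1, nat_lit 7, nat_lit 8]) (.c (.l [nat_lit 9]) (.c (.l [nat_lit 4, nat_lit 4, nat_lit 8, nat_lit 2, nat_lit 8, nat_lit 3, nat_lit 3]) (.c (.l [nat_lit 9]) (.c (.l [nat_lit 8, nat_lit 1, nat_lit 7, nat_lit 8, nat_lit 4, nat_lit 7, nat_lit 3, nat_lit 8, nat_lit 1, nat_lit 7, nat_lit 8]) (.c (.l [nat_lit 9]) (.l [nat_lit 3, nat_lit 3, nat_lit 7, nat_lit 4, nat_lit 4, nat_lit 4, nat_lit 4, nat_lit 8, nat_lit 2, nat_lit 8, nat_lit 3, nat_lit 3]))))))))),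
  (.c (.l [nat_lit 3, nat_lit 3, nat_lit 7, nat_lit 4, nat_lit 4]) (.c (.l [nat_lit 9]) (.c (.l [nat_lit 8, nat_lit 1, nat_lit 7, nat_lit 8, nat_lit 4, nat_lit 7, nat_lit 3, nat_lit 8, nat_lit 1, nat_lit 7, nat_lit 8]) (.c (.l [nat_lit 9]) (.c (.l [nat_lit 3, nat_lit 3, nat_lit 7, nat_lit 4, nat_lit 4, nat_lit 0, nat_lit 3, nat_lit 5, nat_lit 7, nat_lit 3, nat_lit 7, nat_lit 4, nat_lit 6, nat_lit 7, nat_lit 4]) (.c (.l [nat_lit 9]) (.c (.l [nat_lit 8, nat_lit 1, nat_lit 7, nat_lit 8, nat_lit 4, nat_lit 7, nat_lit 3, nat_lit 8, nat_lit 1, nat_lit 7, nat_lit 8]) (.c (.l [nat_lit 9]) (.c (.l [nat_lit 0, nat_lit 3, nat_lit 5, nat_lit 7, nat_lit 3, nat_lit 7, nat_lit 4, nat_lit 6, nat_lit 7, nat_lit 4]) (.c (.l [nat_lit 9]) (.c (.l [nat_lit 8, nat_lit 1, nat_lit 7, nat_lit 8, nat_lit 4, nat_lit 7, nat_lit 3, nat_lit 8, nat_lit 1, nat_lit 7, nat_lit 8]) (.c (.l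 [nat_lit 9]) (.c (.l [nat_lit 0, nat_lit 3, nat_lit 5, nat_lit 7, nat_lit 3, nat_lit 7, nat_lit 4, nat_lit 6, nat_lit 7, nat_lit 4]) (.c (.l [nat_lit 9]) (.c (.l [nat_lit 8, nat_lit 1, nat_lit 7, nat_lit 8, nat_lit 4, nat_lit 7, nat_lit 3, nat_lit 8, nat_lit 1, nat_lit 7, nat_lit 8]) (.c (.l [nat_lit 9]) (.l [nat_lit 0, nat_lit 3, nat_lit 5, nat_lit 7, nat_lit 3, nat_lit 7, nat_lit 4, nat_lit 6, nat_lit 7, nat_lit 4]))))))))))))))))),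
  (.l [nat_lit 4, nat_lit 4, nat_lit 8, nat_lit 2, nat_lit 8, nat_lit 3, nat_lit 3, nat_lit 8, nat_lit 4, nat_lit 4, nat_lit 8, nat_lit 2, nat_lit 8, nat_lit 3, nat_lit 3, nat_lit 8]),
  (.l [nat_lit 0, nat_lit 3, nat_lit 5, nat_lit 7, nat_lit 3, nat_lit 7, nat_lit 4, nat_lit 6, nat_lit 7, nat_lit 4, nat_lit 8, nat_lit 0, nat_lit 3, nat_lit 5, nat_lit 7, nat_lit 3, nat_lit 7, nat_lit 4, nat_lit 6, nat_lit 7, nat_lit 4, nat_lit 8]),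
  (.c (.l [nat_lit 3, nat_lit 3, nat_lit 7, nat_lit 4, nat_lit 4, nat_lit 8]) (.c (.l [nat_lit 9]) (.c (.l [nat_lit 8, nat_lit 1, nat_lit 7, nat_lit 8, nat_lit 4, nat_lit 7, nat_lit 3, nat_lit 8, nat_lit 1, nat_lit 7, nat_lit 8]) (.c (.l [nat_lit 9]) (.c (.l [nat_lit 8, nat_lit 3, nat_lit 3, nat_lit 7, nat_lit 4, nat_lit 4, nat_lit 8]) (.c (.l [nat_lit 9]) (.c (.l [nat_lit 8, nat_lit 1, nat_lit 7, nat_lit 8, nat_lit 4, nat_lit 7, nat_lit 3, nat_lit 8, nat_lit 1, nat_lit 7, nat_lit 8]) (.c (.l [nat_lit 9]) (.c (.l [nat_lit 8, nat_lit 3, nat_lit 3, nat_lit 7, nat_lit 4, nat_lit 4, nat_lit 8]) (.c (.l [nat_lit 9]) (.c (.l [nat_lit 8, nat_lit 1, nat_lit 7, nat_lit 8, nat_lit 4, nat_lit 7, nat_lit 3, nat_lit 8, nat_lit 1, nat_lit 7, nat_lit 8]) (.c (.l [nat_lit 9]) (.l [nat_lit 8]))))))))))))),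
  (.c (.l [nat_lit 9]) (.c (.l [nat_lit 8, nat_lit 1, nat_lit 7, nat_lit 8, nat_lit 4, nat_lit 7, nat_lit 3, nat_lit 8, nat_lit 1, nat_lit 7, nat_lit 8]) (.c (.l [nat_lit 9]) (.c (.l [nat_lit 4, nat_lit 4, nat_lit 8, nat_lit 2, nat_lit 8, nat_lit 3, nat_lit 3, nat_lit 0, nat_lit 3, nat_lit 5, nat_lit 7, nat_lit 3, nat_lit 7, nat_lit 4, nat_lit 6, nat_lit 7, nat_lit 4]) (.c (.l [nat_lit 9]) (.c (.l [nat_lit 8, nat_lit 1, nat_lit 7, nat_lit 8, nat_lit 4, nat_lit 7, nat_lit 3, nat_lit 8, nat_lit 1, nat_lit 7, nat_lit 8]) (.c (.l [nat_lit 9]) (.c (.l [nat_lit 8]) (.c (.l [nat_lit 9]) (.c (.l [nat_lit 8, nat_lit 1, nat_lit 7, nat_lit 8, nat_lit 4, nat_lit 7, nat_lit 3, nat_lit 8, nat_lit 1, nat_lit 7, nat_lit 8]) (.c (.l [nat_lit 9]) (.c (.l [nat_lit 8]) (.c (.l [nat_lit 9]) (.c (.l [nat_lit 8, nat_lit 1, nat_lit 7, nat_lit 8, nat_lit 4, nat_lit 7, nat_lit 3,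 nat_lit 8, nat_lit 1, nat_lit 7, nat_lit 8]) (.c (.l [nat_lit 9]) (.c (.l [nat_lit 4, nat_lit 4, nat_lit 8, nat_lit 2, nat_lit 8, nat_lit 3, nat_lit 3, nat_lit 0, nat_lit 3, nat_lit 5, nat_lit 7, nat_lit 3, nat_lit 7, nat_lit 4, nat_lit 6, nat_lit 7, nat_lit 4, nat_lit 8]) (.c (.l [nat_lit 9]) (.c (.l [nat_lit 8, nat_lit 1, nat_lit 7, nat_lit 8, nat_lit 4, nat_lit 7, nat_lit 3, nat_lit 8, nat_lit 1, nat_lit 7, nat_lit 8]) (.c (.l [nat_lit 9]) (.c (.l [nat_lit 8]) (.c (.l [nat_lit 9]) (.c (.l [nat_lit 8, nat_lit 1, nat_lit 7, nat_lit 8, nat_lit 4, nat_lit 7, nat_lit 3, nat_lit 8, nat_lit 1, nat_lit 7, nat_lit 8]) (.c (.l [nat_lit 9]) (.l [nat_lit 8])))))))))))))))))))))))),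
  (.c (.l [nat_lit 3, nat_lit 3, nat_lit 7, nat_lit 4, nat_lit 4]) (.c (.l [nat_lit 9]) (.c (.l [nat_lit 8, nat_lit 1, nat_lit 7, nat_lit 8, nat_lit 4, nat_lit 7, nat_lit 3, nat_lit 8, nat_lit 1, nat_lit 7, nat_lit 8]) (.c (.l [nat_lit 9]) (.c (.l [nat_lit 4, nat_lit 4, nat_lit 8, nat_lit 2, nat_lit 8, nat_lit 3, nat_lit 3, nat_lit 8]) (.c (.l [nat_lit 9]) (.c (.l [nat_lit 8, nat_lit 1, nat_lit 7, nat_lit 8, nat_lit 4, nat_lit 7, nat_lit 3, nat_lit 8, nat_lit 1, nat_lit 7, nat_lit 8]) (.c (.l [nat_lit 9]) (.c (.l [nat_lit 3, nat_lit 3, nat_lit 7, nat_lit 4, nat_lit 4, nat_lit 0, nat_lit 3, nat_lit 5, nat_lit 7, nat_lit 3, nat_lit 7, nat_lit 4, nat_lit 6, nat_lit 7, nat_lit 4]) (.c (.l [nat_lit 9]) (.c (.l [nat_lit 8, nat_lit 1, nat_lit 7, nat_lit 8, nat_lit 4, nat_lit 7, nat_lit 3, nat_lit 8, nat_lit 1, nat_lit 7, nat_lit 8]) (.c (.l [nat_lit 9]) (.c (.l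 [nat_lit 8, nat_lit 3, nat_lit 3, nat_lit 7, nat_lit 4, nat_lit 4]) (.c (.l [nat_lit 9]) (.c (.l [nat_lit 8, nat_lit 1, nat_lit 7, nat_lit 8, nat_lit 4, nat_lit 7, nat_lit 3, nat_lit 8, nat_lit 1, nat_lit 7, nat_lit 8]) (.c (.l [nat_lit 9]) (.c (.l [nat_lit 0, nat_lit 3, nat_lit 5, nat_lit 7, nat_lit 3, nat_lit 7, nat_lit 4, nat_lit 6, nat_lit 7, nat_lit 4]) (.c (.l [nat_lit 9]) (.c (.l [nat_lit 8, nat_lit 1, nat_lit 7, nat_lit 8, nat_lit 4, nat_lit 7, nat_lit 3, nat_lit 8, nat_lit 1, nat_lit 7, nat_lit 8]) (.c (.l [nat_lit 9]) (.c (.l [nat_lit 8]) (.c (.l [nat_lit 9]) (.c (.l [nat_lit 8, nat_lit 1, nat_lit 7, nat_lit 8, nat_lit 4, nat_lit 7, nat_lit 3, nat_lit 8, nat_lit 1, nat_lit 7, nat_lit 8]) (.c (.l [nat_lit 9]) (.l [nat_lit 0, nat_lit 3, nat_lit 5, nat_lit 7, nat_lit 3, nat_lit 7, nat_lit 4, nat_lit 6, nat_lit 7, nat_lit 4]))))))))))))))))))))))))),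
  (.l [nat_lit 0, nat_lit 3, nat_lit 5, nat_lit 7, nat_lit 3, nat_lit 7, nat_lit 4, nat_lit 6, nat_lit 7, nat_lit 4, nat_lit 5, nat_lit 7, nat_lit 4, nat_lit 7, nat_lit 3, nat_lit 6, nat_lit 7, nat_lit 0, nat_lit 3, nat_lit 5, nat_lit 7, nat_lit 3, nat_lit 7, nat_lit 4, nat_lit 6, nat_lit 7, nat_lit 4, nat_lit 5, nat_lit 7, nat_lit 4, nat_lit 7, nat_lit 3, nat_lit 6, nat_lit 7]),
  (.l [nat_lit 8, nat_lit 5, nat_lit 7, nat_lit 4, nat_lit 7, nat_lit 3, nat_lit 6, nat_lit 7, nat_lit 8, nat_lit 5, nat_lit 7, nat_lit 4, nat_lit 7, nat_lit 3, nat_lit 6, nat_lit 7]),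
  (.l [nat_lit 4, nat_lit 4, nat_lit 8, nat_lit 2, nat_lit 8, nat_lit 3, nat_lit 3, nat_lit 5, nat_lit 7, nat_lit 4, nat_lit 7, nat_lit 3, nat_lit 6, nat_lit 7, nat_lit 4, nat_lit 4, nat_lit 8, nat_lit 2, nat_lit 8, nat_lit 3, nat_lit 3, nat_lit 5, nat_lit 7, nat_lit 4, nat_lit 7, nat_lit 3, nat_lit 6, nat_lit 7]),
  (.l [nat_lit 3, nat_lit 3, nat_lit 7, nat_lit 4, nat_lit 4, nat_lit 5, nat_lit 7, nat_lit 4, nat_lit 7, nat_lit 3, nat_lit 6, nat_lit 7, nat_lit 3, nat_lit 3, nat_lit 7, nat_lit 4, nat_lit 4, nat_lit 5, nat_lit 7, nat_lit 4, nat_lit 7, nat_lit 3, nat_lit 6, nat_lit 7, nat_lit 3, nat_lit 3, nat_lit 7, nat_lit 4, nat_lit 4, nat_lit 5, nat_lit 7, nat_lit 4, nat_lit 7, nat_lit 3, nat_lit 6, nat_lit 7]),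
  (.c (.l [nat_lit 9]) (.c (.l [nat_lit 8, nat_lit 1, nat_lit 7, nat_lit 8, nat_lit 4, nat_lit 7, nat_lit 3, nat_lit 8, nat_lit 1, nat_lit 7, nat_lit 8]) (.c (.l [nat_lit 9]) (.c (.l [nat_lit 8]) (.c (.l [nat_lit 9]) (.c (.l [nat_lit 8, nat_lit 1, nat_lit 7, nat_lit 8, nat_lit 4, nat_lit 7, nat_lit 3, nat_lit 8, nat_lit 1, nat_lit 7, nat_lit 8]) (.c (.l [nat_lit 9]) (.c (.l [nat_lit 8]) (.c (.l [nat_lit 9]) (.c (.l [nat_lit 8, nat_lit 1, nat_lit 7, nat_lit 8, nat_lit 4, nat_lit 7, nat_lit 3, nat_lit 8, nat_lit 1, nat_lit 7, nat_lit 8]) (.c (.l [nat_lit 9]) (.c (.l [nat_lit 5, nat_lit 7, nat_lit 4, nat_lit 7, nat_lit 3, nat_lit 6, nat_lit 7]) (.c (.l [nat_lit 9]) (.c (.l [nat_lit 8, nat_lit 1, nat_lit 7, nat_lit 8, nat_lit 4, nat_lit 7, nat_lit 3, nat_lit 8, nat_lit 1, nat_lit 7, nat_lit 8]) (.c (.l [nat_lit 9]) (.c (.l [nat_lit 8]) (.c (.l [nat_lit 9]) (.c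 (.l [nat_lit 8, nat_lit 1, nat_lit 7, nat_lit 8, nat_lit 4, nat_lit 7, nat_lit 3, nat_lit 8, nat_lit 1, nat_lit 7, nat_lit 8]) (.c (.l [nat_lit 9]) (.c (.l [nat_lit 8]) (.c (.l [nat_lit 9]) (.c (.l [nat_lit 8, nat_lit 1, nat_lit 7, nat_lit 8, nat_lit 4, nat_lit 7, nat_lit 3, nat_lit 8, nat_lit 1, nat_lit 7, nat_lit 8]) (.c (.l [nat_lit 9]) (.l [nat_lit 5, nat_lit 7, nat_lit 4, nat_lit 7, nat_lit 3, nat_lit 6, nat_lit 7])))))))))))))))))))))))),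
  (.c (.l [nat_lit 9]) (.c (.l [nat_lit 8, nat_lit 1, nat_lit 7, nat_lit 8, nat_lit 4, nat_lit 7, nat_lit 3, nat_lit 8, nat_lit 1, nat_lit 7, nat_lit 8]) (.c (.l [nat_lit 9]) (.c (.l [nat_lit 0, nat_lit 3, nat_lit 5, nat_lit 7, nat_lit 3, nat_lit 7, nat_lit 4, nat_lit 6, nat_lit 7, nat_lit 4, nat_lit 8]) (.c (.l [nat_lit 9]) (.c (.l [nat_lit 8, nat_lit 1, nat_lit 7, nat_lit 8, nat_lit 4, nat_lit 7, nat_lit 3, nat_lit 8, nat_lit 1, nat_lit 7, nat_lit 8]) (.c (.l [nat_lit 9]) (.c (.l [nat_lit 5, nat_lit 7, nat_lit 4, nat_lit 7, nat_lit 3, nat_lit 6, nat_lit 7]) (.c (.l [nat_lit 9]) (.c (.l [nat_lit 8, nat_lit 1, nat_lit 7, nat_lit 8, nat_lit 4, nat_lit 7, nat_lit 3, nat_lit 8, nat_lit 1, nat_lit 7, nat_lit 8]) (.c (.l [nat_lit 9]) (.c (.l [nat_lit 0, nat_lit 3, nat_lit 5, nat_lit 7, nat_lit 3, nat_lit 7, nat_lit 4, nat_lit 6, nat_lit 7, nat_lit 4, nat_lit 8])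 (.c (.l [nat_lit 9]) (.c (.l [nat_lit 8, nat_lit 1, nat_lit 7, nat_lit 8, nat_lit 4, nat_lit 7, nat_lit 3, nat_lit 8, nat_lit 1, nat_lit 7, nat_lit 8]) (.c (.l [nat_lit 9]) (.c (.l [nat_lit 5, nat_lit 7, nat_lit 4, nat_lit 7, nat_lit 3, nat_lit 6, nat_lit 7]) (.c (.l [nat_lit 9]) (.c (.l [nat_lit 8, nat_lit 1, nat_lit 7, nat_lit 8, nat_lit 4, nat_lit 7, nat_lit 3, nat_lit 8, nat_lit 1, nat_lit 7, nat_lit 8]) (.c (.l [nat_lit 9]) (.c (.l [nat_lit 8, nat_lit 0, nat_lit 3, nat_lit 5, nat_lit 7, nat_lit 3, nat_lit 7, nat_lit 4, nat_lit 6, nat_lit 7, nat_lit 4]) (.c (.l [nat_lit 9]) (.c (.l [nat_lit 8, nat_lit 1, nat_lit 7, nat_lit 8, nat_lit 4, nat_lit 7, nat_lit 3, nat_lit 8, nat_lit 1, nat_lit 7, nat_lit 8]) (.c (.l [nat_lit 9]) (.l [nat_lit 5, nat_lit 7, nat_lit 4, nat_lit 7, nat_lit 3, nat_lit 6, nat_lit 7])))))))))))))))))))))))),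
  (.c (.l [nat_lit 3, nat_lit 3, nat_lit 7, nat_lit 4, nat_lit 4]) (.c (.l [nat_lit 9]) (.c (.l [nat_lit 8, nat_lit 1, nat_lit 7, nat_lit 8, nat_lit 4, nat_lit 7, nat_lit 3, nat_lit 8, nat_lit 1, nat_lit 7, nat_lit 8]) (.c (.l [nat_lit 9]) (.c (.l [nat_lit 5, nat_lit 7, nat_lit 4, nat_lit 7, nat_lit 3, nat_lit 6, nat_lit 7]) (.c (.l [nat_lit 9]) (.c (.l [nat_lit 8, nat_lit 1, nat_lit 7, nat_lit 8, nat_lit 4, nat_lit 7, nat_lit 3, nat_lit 8, nat_lit 1, nat_lit 7, nat_lit 8]) (.c (.l [nat_lit 9]) (.c (.l [nat_lit 8, nat_lit 3, nat_lit 3, nat_lit 7, nat_lit 4, nat_lit 4]) (.c (.l [nat_lit 9]) (.c (.l [nat_lit 8, nat_lit 1, nat_lit 7, nat_lit 8, nat_lit 4, nat_lit 7, nat_lit 3, nat_lit 8, nat_lit 1, nat_lit 7, nat_lit 8]) (.c (.l [nat_lit 9]) (.c (.l [nat_lit 5, nat_lit 7, nat_lit 4, nat_lit 7, nat_lit 3, nat_lit 6, nat_lit 7]) (.c (.l [nat_lit 9]) (.c (.l [nat_lit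 8, nat_lit 1, nat_lit 7, nat_lit 8, nat_lit 4, nat_lit 7, nat_lit 3, nat_lit 8, nat_lit 1, nat_lit 7, nat_lit 8]) (.c (.l [nat_lit 9]) (.c (.l [nat_lit 8, nat_lit 3, nat_lit 3, nat_lit 7, nat_lit 4, nat_lit 4]) (.c (.l [nat_lit 9]) (.c (.l [nat_lit 8, nat_lit 1, nat_lit 7, nat_lit 8, nat_lit 4, nat_lit 7, nat_lit 3, nat_lit 8, nat_lit 1, nat_lit 7, nat_lit 8]) (.c (.l [nat_lit 9]) (.c (.l [nat_lit 5, nat_lit 7, nat_lit 4, nat_lit 7, nat_lit 3, nat_lit 6, nat_lit 7]) (.c (.l [nat_lit 9]) (.c (.l [nat_lit 8, nat_lit 1, nat_lit 7, nat_lit 8, nat_lit 4, nat_lit 7, nat_lit 3, nat_lit 8, nat_lit 1, nat_lit 7, nat_lit 8]) (.c (.l [nat_lit 9]) (.l [nat_lit 8]))))))))))))))))))))))))),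
  (.c (.l [nat_lit 3, nat_lit 3, nat_lit 7, nat_lit 4, nat_lit 4]) (.c (.l [nat_lit 9]) (.c (.l [nat_lit 8, nat_lit 1, nat_lit 7, nat_lit 8, nat_lit 4, nat_lit 7, nat_lit 3, nat_lit 8, nat_lit 1, nat_lit 7, nat_lit 8]) (.c (.l [nat_lit 9]) (.c (.l [nat_lit 8]) (.c (.l [nat_lit 9]) (.c (.l [nat_lit 8, nat_lit 1, nat_lit 7, nat_lit 8, nat_lit 4, nat_lit 7, nat_lit 3, nat_lit 8, nat_lit 1, nat_lit 7, nat_lit 8]) (.c (.l [nat_lit 9]) (.c (.l [nat_lit 5, nat_lit 7, nat_lit 4, nat_lit 7, nat_lit 3, nat_lit 6, nat_lit 7, nat_lit 3, nat_lit 3, nat_lit 7, nat_lit 4, nat_lit 4]) (.c (.l [nat_lit 9]) (.c (.l [nat_lit 8, nat_lit 1, nat_lit 7, nat_lit 8, nat_lit 4, nat_lit 7, nat_lit 3, nat_lit 8, nat_lit 1, nat_lit 7, nat_lit 8]) (.c (.l [nat_lit 9]) (.c (.l [nat_lit 8]) (.c (.l [nat_lit 9]) (.c (.l [nat_lit 8, nat_lit 1, nat_lit 7, nat_lit 8, nat_lit 4, nat_lit 7, nat_lit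 3, nat_lit 8, nat_lit 1, nat_lit 7, nat_lit 8]) (.c (.l [nat_lit 9]) (.c (.l [nat_lit 5, nat_lit 7, nat_lit 4, nat_lit 7, nat_lit 3, nat_lit 6, nat_lit 7, nat_lit 3, nat_lit 3, nat_lit 7, nat_lit 4, nat_lit 4]) (.c (.l [nat_lit 9]) (.c (.l [nat_lit 8, nat_lit 1, nat_lit 7, nat_lit 8, nat_lit 4, nat_lit 7, nat_lit 3, nat_lit 8, nat_lit 1, nat_lit 7, nat_lit 8]) (.c (.l [nat_lit 9]) (.c (.l [nat_lit 8]) (.c (.l [nat_lit 9]) (.c (.l [nat_lit 8, nat_lit 1, nat_lit 7, nat_lit 8, nat_lit 4, nat_lit 7, nat_lit 3, nat_lit 8, nat_lit 1, nat_lit 7, nat_lit 8]) (.c (.l [nat_lit 9]) (.l [nat_lit 5, nat_lit 7, nat_lit 4, nat_lit 7, nat_lit 3, nat_lit 6, nat_lit 7]))))))))))))))))))))))))),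
  (.l []),
  (.e (.l [nat_lit 5, nat_lit 7, nat_lit 4, nat_lit 7, nat_lit 3, nat_lit 6, nat_lit 7, nat_lit 10, nat_lit 5, nat_lit 7, nat_lit 4, nat_lit 7, nat_lit 3, nat_lit 6, nat_lit 7, nat_lit 10]) []),
  (.e (.l [nat_lit 8, nat_lit 10, nat_lit 8, nat_lit 10]) []),
  (.e (.l [nat_lit 4, nat_lit 4, nat_lit 8, nat_lit 2, nat_lit 8, nat_lit 3, nat_lit 3, nat_lit 10, nat_lit 4, nat_lit 4, nat_lit 8, nat_lit 2, nat_lit 8, nat_lit 3, nat_lit 3, nat_lit 10, nat_lit 4, nat_lit 4, nat_lit 8, nat_lit 2, nat_lit 8, nat_lit 3, nat_lit 3, nat_lit 10]) []),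
  (.e (.l [nat_lit 0, nat_lit 3, nat_lit 5, nat_lit 7, nat_lit 3, nat_lit 7, nat_lit 4, nat_lit 6, nat_lit 7, nat_lit 4, nat_lit 10, nat_lit 0, nat_lit 3, nat_lit 5, nat_lit 7, nat_lit 3, nat_lit 7, nat_lit 4, nat_lit 6, nat_lit 7, nat_lit 4, nat_lit 10, nat_lit 0, nat_lit 3, nat_lit 5, nat_lit 7, nat_lit 3, nat_lit 7, nat_lit 4, nat_lit 6, nat_lit 7, nat_lit 4, nat_lit 10, nat_lit 0, nat_lit 3, nat_lit 5, nat_lit 7, nat_lit 3, nat_lit 7, nat_lit 4, nat_lit 6, nat_lit 7, nat_lit 4, nat_lit 10]) []),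
  (.c (.l [nat_lit 9]) (.c (.l [nat_lit 8, nat_lit 1, nat_lit 7, nat_lit 8, nat_lit 4, nat_lit 7, nat_lit 3, nat_lit 8, nat_lit 1, nat_lit 7, nat_lit 8]) (.c (.l [nat_lit 9]) (.c (.l [nat_lit 5, nat_lit 7, nat_lit 4, nat_lit 7, nat_lit 3, nat_lit 6, nat_lit 7]) (.c (.l [nat_lit 9]) (.c (.l [nat_lit 8, nat_lit 1, nat_lit 7, nat_lit 8, nat_lit 4, nat_lit 7, nat_lit 3, nat_lit 8, nat_lit 1, nat_lit 7, nat_lit 8]) (.c (.l [nat_lit 9]) (.c (.l [nat_lit 5, nat_lit 7, nat_lit 4, nat_lit 7, nat_lit 3, nat_lit 6, nat_lit 7]) (.c (.l [nat_lit 9]) (.c (.l [nat_lit 8, nat_lit 1, nat_lit 7, nat_lit 8, nat_lit 4, nat_lit 7, nat_lit 3, nat_lit 8, nat_lit 1, nat_lit 7, nat_lit 8]) (.c (.l [nat_lit 9]) (.c (.l [nat_lit 5, nat_lit 7, nat_lit 4, nat_lit 7, nat_lit 3, nat_lit 6, nat_lit 7]) (.c (.l [nat_lit 9]) (.c (.l [nat_lit 8, nat_lit 1, nat_lit 7, nat_lit 8, nat_lit 4,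 nat_lit 7, nat_lit 3, nat_lit 8, nat_lit 1, nat_lit 7, nat_lit 8]) (.c (.l [nat_lit 9]) (.l [nat_lit 5, nat_lit 7, nat_lit 4, nat_lit 7, nat_lit 3, nat_lit 6, nat_lit 7])))))))))))))))),
  (.c (.l [nat_lit 3, nat_lit 3, nat_lit 7, nat_lit 4, nat_lit 4, nat_lit 8]) (.c (.l [nat_lit 9]) (.c (.l [nat_lit 8, nat_lit 1, nat_lit 7, nat_lit 8, nat_lit 4, nat_lit 7, nat_lit 3, nat_lit 8, nat_lit 1, nat_lit 7, nat_lit 8]) (.c (.l [nat_lit 9]) (.c (.l [nat_lit 5, nat_lit 7, nat_lit 4, nat_lit 7, nat_lit 3, nat_lit 6, nat_lit 7]) (.c (.l [nat_lit 9]) (.c (.l [nat_lit 8, nat_lit 1, nat_lit 7, nat_lit 8, nat_lit 4, nat_lit 7, nat_lit 3, nat_lit 8, nat_lit 1, nat_lit 7, nat_lit 8]) (.c (.l [nat_lit 9]) (.e (.l [nat_lit 8, nat_lit 3, nat_lit 3, nat_lit 7, nat_lit 4, nat_lit 4, nat_lit 5, nat_lit 7, nat_lit 4, nat_lit 7, nat_lit 3, nat_lit 6, nat_lit 7, nat_lit 10, nat_lit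 3, nat_lit 3, nat_lit 7, nat_lit 4, nat_lit 4, nat_lit 5, nat_lit 7, nat_lit 4, nat_lit 7, nat_lit 3, nat_lit 6, nat_lit 7, nat_lit 10]) [nat_lit 3, nat_lit 8, nat_lit 7, nat_lit 3, nat_lit 7, nat_lit 4, nat_lit 4]))))))))),
  (.l []),
  (.c (.l [nat_lit 9]) (.c (.l [nat_lit 8, nat_lit 1, nat_lit 7, nat_lit 8, nat_lit 4, nat_lit 7, nat_lit 3, nat_lit 8, nat_lit 1, nat_lit 7, nat_lit 8]) (.c (.l [nat_lit 9]) (.c (.l [nat_lit 2, nat_lit 3, nat_lit 2, nat_lit 7, nat_lit 3, nat_lit 2, nat_lit 4, nat_lit 7, nat_lit 4]) (.c (.l [nat_lit 9]) (.c (.l [nat_lit 8, nat_lit 1, nat_lit 7, nat_lit 8, nat_lit 4, nat_lit 7, nat_lit 3, nat_lit 8, nat_lit 1, nat_lit 7, nat_lit 8]) (.c (.l [nat_lit 9]) (.l [nat_lit 2, nat_lit 3, nat_lit 2, nat_lit 7, nat_lit 3, nat_lit 2, nat_lit 4, nat_lit 7, nat_lit 4])))))))),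
  (.l [nat_lit 0, nat_lit 3, nat_lit 5, nat_lit 7, nat_lit 3, nat_lit 7, nat_lit 4, nat_lit 6, nat_lit 7, nat_lit 4, nat_lit 2, nat_lit 3, nat_lit 2, nat_lit 7, nat_lit 3, nat_lit 2, nat_lit 4, nat_lit 7, nat_lit 4, nat_lit 0, nat_lit 3, nat_lit 5, nat_lit 7, nat_lit 3, nat_lit 7, nat_lit 4, nat_lit 6, nat_lit 7, nat_lit 4, nat_lit 2, nat_lit 3, nat_lit 2, nat_lit 7, nat_lit 3, nat_lit 2, nat_lit 4, nat_lit 7, nat_lit 4]),
  (.l [nat_lit 8, nat_lit 2, nat_lit 3, nat_lit 2, nat_lit 7, nat_lit 3, nat_lit 2, nat_lit 4, nat_lit 7, nat_lit 4, nat_lit 8, nat_lit 2, nat_lit 3, nat_lit 2, nat_lit 7, nat_lit 3, nat_lit 2, nat_lit 4, nat_lit 7, nat_lit 4]),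
  (.l [nat_lit 5, nat_lit 7, nat_lit 4, nat_lit 7, nat_lit 3, nat_lit 6, nat_lit 7, nat_lit 2, nat_lit 3, nat_lit 2, nat_lit 7, nat_lit 3, nat_lit 2, nat_lit 4, nat_lit 7, nat_lit 4, nat_lit 5, nat_lit 7, nat_lit 4, nat_lit 7, nat_lit 3, nat_lit 6, nat_lit 7, nat_lit 2, nat_lit 3, nat_lit 2, nat_lit 7, nat_lit 3, nat_lit 2, nat_lit 4, nat_lit 7, nat_lit 4]),
  (.c (.l [nat_lit 3, nat_lit 3, nat_lit 7, nat_lit 4, nat_lit 4]) (.c (.l [nat_lit 9]) (.c (.l [nat_lit 8, nat_lit 1, nat_lit 7, nat_lit 8, nat_lit 4, nat_lit 7, nat_lit 3, nat_lit 8, nat_lit 1, nat_lit 7, nat_lit 8]) (.c (.l [nat_lit 9]) (.c (.l [nat_lit 2, nat_lit 3, nat_lit 2, nat_lit 7, nat_lit 3, nat_lit 2, nat_lit 4, nat_lit 7, nat_lit 4, nat_lit 3, nat_lit 3, nat_lit 7, nat_lit 4, nat_lit 4, nat_lit 2, nat_lit 3, nat_lit 2, nat_lit 7, nat_lit 3, nat_lit 2, nat_lit 4, nat_lit 7, nat_lit 4]) (.c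 (.l [nat_lit 9]) (.c (.l [nat_lit 8, nat_lit 1, nat_lit 7, nat_lit 8, nat_lit 4, nat_lit 7, nat_lit 3, nat_lit 8, nat_lit 1, nat_lit 7, nat_lit 8]) (.l [nat_lit 9])))))))),
  (.e (.l [nat_lit 3, nat_lit 3, nat_lit 7, nat_lit 4, nat_lit 4, nat_lit 4, nat_lit 4, nat_lit 8, nat_lit 2, nat_lit 8, nat_lit 3, nat_lit 3, nat_lit 8, nat_lit 5, nat_lit 7, nat_lit 4, nat_lit 7, nat_lit 3, nat_lit 6, nat_lit 7, nat_lit 10, nat_lit 4, nat_lit 4, nat_lit 8, nat_lit 2, nat_lit 8, nat_lit 3, nat_lit 3, nat_lit 3, nat_lit 3, nat_lit 7, nat_lit 4, nat_lit 4, nat_lit 8, nat_lit 3, nat_lit 3, nat_lit 7, nat_lit 4, nat_lit 4, nat_lit 5, nat_lit 7, nat_lit 4, nat_lit 7, nat_lit 3, nat_lit 6, nat_lit 7, nat_lit 2, nat_lit 3, nat_lit 2, nat_lit 7, nat_lit 3, nat_lit 2, nat_lit 4, nat_lit 7, nat_lit 4, nat_lit 10, nat_lit 2, nat_lit 3, nat_lit 2, nat_lit 7, nat_lit 3, nat_lit 2,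 nat_lit 4, nat_lit 7, nat_lit 4, nat_lit 4, nat_lit 4, nat_lit 8, nat_lit 2, nat_lit 8, nat_lit 3, nat_lit 3, nat_lit 10, nat_lit 2, nat_lit 3, nat_lit 2, nat_lit 7, nat_lit 3, nat_lit 2, nat_lit 4, nat_lit 7, nat_lit 4, nat_lit 3, nat_lit 3, nat_lit 7, nat_lit 4, nat_lit 4, nat_lit 8]) []),
  (.c (.l [nat_lit 9]) (.c (.l [nat_lit 8, nat_lit 1, nat_lit 7, nat_lit 8, nat_lit 4, nat_lit 7, nat_lit 3, nat_lit 8, nat_lit 1, nat_lit 7, nat_lit 8]) (.c (.l [nat_lit 9]) (.c (.e (.l [nat_lit 0, nat_lit 3, nat_lit 5, nat_lit 7, nat_lit 3, nat_lit 7, nat_lit 4, nat_lit 6, nat_lit 7, nat_lit 4, nat_lit 10, nat_lit 2, nat_lit 3, nat_lit 2, nat_lit 7, nat_lit 3, nat_lit 2, nat_lit 4, nat_lit 7, nat_lit 4, nat_lit 10, nat_lit 0, nat_lit 3, nat_lit 5, nat_lit 7, nat_lit 3, nat_lit 7, nat_lit 4, nat_lit 6, nat_lit 7, nat_lit 4]) [nat_lit 5, nat_lit 7, nat_lit 4, nat_lit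 7, nat_lit 8, nat_lit 2, nat_lit 8, nat_lit 4, nat_lit 5, nat_lit 7]) (.c (.l [nat_lit 9]) (.c (.l [nat_lit 8, nat_lit 1, nat_lit 7, nat_lit 8, nat_lit 4, nat_lit 7, nat_lit 3, nat_lit 8, nat_lit 1, nat_lit 7, nat_lit 8]) (.c (.l [nat_lit 9]) (.c (.e (.l [nat_lit 0, nat_lit 3, nat_lit 5, nat_lit 7, nat_lit 3, nat_lit 7, nat_lit 4, nat_lit 6, nat_lit 7, nat_lit 4, nat_lit 10, nat_lit 2, nat_lit 3, nat_lit 2, nat_lit 7, nat_lit 3, nat_lit 2, nat_lit 4, nat_lit 7, nat_lit 4, nat_lit 10, nat_lit 0, nat_lit 3, nat_lit 5, nat_lit 7, nat_lit 3, nat_lit 7, nat_lit 4, nat_lit 6, nat_lit 7, nat_lit 4]) [nat_lit 5, nat_lit 7, nat_lit 4, nat_lit 7, nat_lit 8, nat_lit 2, nat_lit 8, nat_lit 4, nat_lit 5, nat_lit 7]) (.c (.l [nat_lit 9]) (.c (.l [nat_lit 8, nat_lit 1, nat_lit 7, nat_lit 8, nat_lit 4, nat_lit 7, nat_lit 3, nat_lit 8, nat_lit 1, nat_lit 7, nat_lit 8]) (.c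 (.l [nat_lit 9]) (.e (.l [nat_lit 0, nat_lit 3, nat_lit 5, nat_lit 7, nat_lit 3, nat_lit 7, nat_lit 4, nat_lit 6, nat_lit 7, nat_lit 4, nat_lit 10, nat_lit 2, nat_lit 3, nat_lit 2, nat_lit 7, nat_lit 3, nat_lit 2, nat_lit 4, nat_lit 7, nat_lit 4, nat_lit 10, nat_lit 0, nat_lit 3, nat_lit 5, nat_lit 7, nat_lit 3, nat_lit 7, nat_lit 4, nat_lit 6, nat_lit 7, nat_lit 4]) [nat_lit 5, nat_lit 7, nat_lit 4, nat_lit 7, nat_lit 8, nat_lit 2, nat_lit 8, nat_lit 4, nat_lit 5, nat_lit 7]))))))))))))]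
noncomputable def Wh : List (List ℕ) := [[nat_lit 0, nat_lit 4, nat_lit 5, nat_lit 6, nat_lit 0, nat_lit 2, nat_lit 0, nat_lit 4, nat_lit 5, nat_lit 6, nat_lit 0],
  [nat_lit 0, nat_lit 5, nat_lit 7, nat_lit 0, nat_lit 6, nat_lit 2, nat_lit 0, nat_lit 3, nat_lit 4, nat_lit 0, nat_lit 7, nat_lit 6, nat_lit 4, nat_lit 0, nat_lit 7, nat_lit 5, nat_lit 0],
  [nat_lit 0, nat_lit 2, nat_lit 3, nat_lit 4, nat_lit 0, nat_lit 2, nat_lit 6, nat_lit 0, nat_lit 6, nat_lit 2, nat_lit 0, nat_lit 3, nat_lit 4, nat_lit 2, nat_lit 0],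
  [nat_lit 6, nat_lit 2, nat_lit 3, nat_lit 7, nat_lit 6, nat_lit 0, nat_lit 7, nat_lit 0, nat_lit 6, nat_lit 0, nat_lit 5, nat_lit 6, nat_lit 3, nat_lit 2, nat_lit 0, nat_lit 6],
  [nat_lit 2, nat_lit 4, nat_lit 5, nat_lit 7, nat_lit 0, nat_lit 6, nat_lit 0, nat_lit 2, nat_lit 4, nat_lit 5, nat_lit 7],
  [nat_lit 5, nat_lit 7, nat_lit 0, nat_lit 6, nat_lit 2, nat_lit 0, nat_lit 2, nat_lit 3, nat_lit 6, nat_lit 0, nat_lit 7, nat_lit 0, nat_lit 5, nat_lit 0, nat_lit 4, nat_lit 0],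
  [nat_lit 2, nat_lit 5, nat_lit 7, nat_lit 6, nat_lit 0, nat_lit 7, nat_lit 0, nat_lit 6, nat_lit 0, nat_lit 2, nat_lit 0, nat_lit 5]]
noncomputable def Wa : List ℕ := [nat_lit 1, nat_lit 4, nat_lit 1, nat_lit 4, nat_lit 5, nat_lit 1, nat_lit 3, nat_lit 4, nat_lit 1, nat_lit 6, nat_lit 7, nat_lit 6, nat_lit 3, nat_lit 1, nat_lit 3, nat_lit 5, nat_lit 6, nat_lit 2, nat_lit 3, nat_lit 6, nat_lit 7, nat_lit 6, nat_lit 3, nat_lit 1]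
noncomputable def cld : ℕ := nat_lit 0xaaaaaaaaa55aa5aaa6a956aaaaaaaaa95aaaa956aaaa56aaaaaaaaaa56aaaa9556a6a956aaaa95aaa5aaa9aa56aaaaaa56aaaaa56a6a66aaaa65aaa555aaaaaaa6aaaaaaaaaaa5559aaaaa55aa96a56aaaaaaa9aaaaaaaa6aa96aa9aaa5aa69565a6aaa65a6a9aa6aaa5966aaaaaaa956a95aaaaaaaaaa9596aaaaaa6aaaaaaaa6aaaaa555a5556aa65aa6aa9aaaaa556a9aa6a99556a96a9aaaaaaa5a6aaaaaaa95696a9aa6aaaaaaaaa56aaaaaaa96a6a95a99aaa9595a59aaaaaaaaa956969a6aaaaaaaa96aa6aaaaa95696a9969aa6966659aaaaaaa6aa9aaaaaaaaa9555aaaaaa55a955a6a9a56a955556aa96a6a5aaaa9aaaa5696a9aa9aa9966a996a96a6aaaaaaaaa6a9969a9559556956aa9aaaaa6aaa6a96aaa955a9a96a6a5595a566996a59a9a59a6699aaaaa69aa96995aa66aa66555995955455555555555996699666699669966996699996699659a65999996699669966996666959a69966996666999a659a659a66659a5599a659a66659a6566599995a659999669966669966659a659a6996699659a659a66659996665999599a965996699659a6599966956999959999a659a656696999a556599996699666699669966996696659a5999a659a666569969966995666596996699599a65995999669a6599959a5669a659666656965a95996665999a659999a659999969559a659a6666955966666656996699656959a66a59659659995999659965566665aa9a6699a9a9a9699a966a669a96aa66a69a9a9966a69a69aa6aa99a669aa9669a5aaaa66aa66a9aa96a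
noncomputable def cl (u : ℕ) : ℕ := Nat.land (Nat.shiftRight cld (Nat.mul u (nat_lit 2))) (nat_lit 3)

theorem ANc : allZ (fun i => (nth (.l []) AN i).to EQ VY (nth [] RN0 i) []) 0 90 = true ∧ RN0.length = 90 ∧ ivChk RN0 10 = true := by decide +kernel
theorem ivN : ivChk RN 10 = true := by decide +kernel
theorem tcNe_a : allZ2 (ent2 TN EN (selR RLN IN) DN (nat_lit 255) (nat_lit 154) (nat_lit 154) (nat_lit 157) (nat_lit 10) (nat_lit 2047) (nat_lit 1)) (nat_lit 10) (nat_lit 157) = true := by decide +kernel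
theorem tcNp_0 : allZ (eps2 TN EN JN WN RLN (nat_lit 255) (nat_lit 154) (nat_lit 157) (nat_lit 10) (nat_lit 1)) (nat_lit 0) (nat_lit 3) = true := by decide +kernel
theorem tcNr : rulesChk RN cN.Sl RLN (nat_lit 10) = true := by decide +kernel
theorem tcNn : 0 < cN.M ∧ cN.n0 ≤ cN.M ∧ 0 < cN.K ∧ cN.K ≤ 10 ∧ cN.D 0 = 0 := by decide +kernel
theorem tcNq : cN.M - cN.n = 3 := by decide +kernel
theorem cNs : allL (ltAll 9) cN.Sl = true := by decide +kernel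
theorem AKc : allZ (fun k => force k fun k => Nat.add (ltAll 10 (nth [] ([0] :: [9, 3, 8, 7, 3] :: LKX_W) k)) ((nth (.l []) AK k).to EQ VY
  (nth [] ([0] :: [9, 3, 8, 7, 3] :: LKX_W) k ++ (R4 ++ (invW RN0 (nth [] ([0] :: [9, 3, 8, 7, 3] :: LKX_W) k) ++ invW RN0 R4))) [])) 0 4 = true ∧ ltAll 10 R4 = 0 := by decide +kernel
theorem AHc : (nth (.l []) AH 0).to EQ VY (th R4) [] = 0 ∧ allZ (fun i => force i fun i => orZ (EQ (nth [] LK i) []) (Nat.add (ltAll 8 (nth [] LK i))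
  (orZ (NF (flat VY (nth [] LK i) ++ [3, 8, 7, 3]) ([3, 8, 7, 3] ++ nth [] LK i)) (NF (th (nth [] LK i)) [])))) 0 16 = true := by decide +kernel
theorem Y_lt : allL (ltAll 8) Y_W = true := by decide +kernel
theorem Y_m_a : allZ2 (matEnt (wdsP H15.Co2.P Y_W) Y_P) (nat_lit 1) (nat_lit 2300) = true := by decide +kernel
theorem RNc : allL (fixL FQ 14 H15.Co2.B) RN = true := by decide +kernel
theorem Yc : allZ (fun k => GW (nW ++ (nth [] Ys k ++ nI)) (nth [] Yt k)) 0 6 = true ∧ GW (nW ++ nI) [] = 0 ∧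
  allZ (fun k => Nat.add (Nat.add (EQ (10 :: nth [] Ys (k + 1)) (nth [] Ys (k + 3) ++ [10])) (neL (nth [] LRX_W k) (nth [] Yt (k + 1))))
    (EQ (nth [] Yt (k + 1) ++ [13]) (13 :: nth [] Yt (k + 3)))) 0 2 = true ∧
  allZ (fun i => orZ (EQ (nth [] LR i) []) (Nat.add (okH 14 9 (nth [] LR i)) (NF (rp 3 (nth [] Yt 5 ++ (nth [] LR i ++ [13]))) []))) 0 4 = true := by decide +kernel
theorem cmc1 : cmc [] (flat Wp [1]) (nth [] Mt 0) = 0 ∧ cmc [8] (flat Wp [0, 1, 4, 1, 0]) (nth [] Mt 1) = 0 := by decide +kernel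
theorem ARc_0 : allZ (fun i => force i fun i => orZ (Nat.xor i 26) (orZ (Nat.xor i 33) (Nat.add (Nat.add (neL (flat Wp (nth [] H15.Co2.Rl i)) (nth (.l []) AR i).w)
  ((nth (.l []) AR i).chk EQ VY)) (GW ((nth (.l []) AR i).v VY) [])))) (nat_lit 0) (nat_lit 20) = true := by decide +kernel
theorem ARc_1 : allZ (fun i => force i fun i => orZ (Nat.xor i 26) (orZ (Nat.xor i 33) (Nat.add (Nat.add (neL (flat Wp (nth [] H15.Co2.Rl i)) (nth (.l []) AR i).w)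
  ((nth (.l []) AR i).chk EQ VY)) (GW ((nth (.l []) AR i).v VY) [])))) (nat_lit 20) (nat_lit 20) = true := by decide +kernel
theorem ARc_2 : allZ (fun i => force i fun i => orZ (Nat.xor i 26) (orZ (Nat.xor i 33) (Nat.add (Nat.add (neL (flat Wp (nth [] H15.Co2.Rl i)) (nth (.l []) AR i).w)
  ((nth (.l []) AR i).chk EQ VY)) (GW ((nth (.l []) AR i).v VY) [])))) (nat_lit 40) (nat_lit 1) = true := by decide +kernel
theorem Rlc : H15.Co2.Rl.length = 41 ∧ nth [] H15.Co2.Rl 26 = [1] ++ [6] ++ ([1] ++ [6]) ∧ nth [] H15.Co2.Rl 33 = [0, 1, 4, 1, 0] ++ [6] ++ ([0, 1, 4, 1, 0] ++ [6]) ∧ allL (fixL H15.Co2.P 8 H15.Co2.B) H15.Co2.Rl = true := by decide +kernel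
theorem Whc : allZ (fun k => force k fun k => Nat.add (Nat.add (eqL H15.Co2.P 8 H15.Co2.B (Wa ++ nth [] Wh k) (nth [] H15.XTCo2.sub_W k ++ Wa)) (okH 14 9 (flat Wp (nth [] Wh k))))
  (Nat.add (Nat.add (ltAll 8 (nth [] Wh k)) (ltAll 14 (flat Wp (nth [] Wh k)))) (sumL (fun β => Nat.xor (H15.XCo2C.P k β) (apW J_P (flat Wp (nth [] Wh k)) β)) H15.XCo2C.B))) 0 7 = true := by decide +kernel
theorem qk : allZ (fun j => Nat.add (ltAll 7 (nth [] [nth [] J_W 8] j)) (fixL H15.XTCo2.q_P 7 H16.S62.B (nth [] [nth [] J_W 8] j))) 0 1 = true := by decide +kernel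
theorem clc_a : allZ2 (H16.clsEnt H15.Co2.P cl) (nat_lit 7) (nat_lit 2300) = true := by decide +kernel
theorem clq : (∀ r ∈ 1046 :: H15.Co2.Rs.map Root.r, r < 2300 ∧ ∀ r' ∈ 1046 :: H15.Co2.Rs.map Root.r, cl r = cl r' → r = r') ∧
  (∃ r ∈ 1046 :: H15.Co2.Rs.map Root.r, cntCls cl (cl r) 0 2300 = 891) ∧ ∃ r ∈ 1046 :: H15.Co2.Rs.map Root.r, cntCls cl (cl r) 0 2300 = 1408 := by decide +kernel

theorem tcNe : ∀ k < 10, ∀ i < 157, (ent2 TN EN (selR RLN IN) DN (nat_lit 255) (nat_lit 154) (nat_lit 154) (nat_lit 157) (nat_lit 10) (nat_lit 2047) (nat_lit 1)) k i = 0 := allZ2_sound tcNe_a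
theorem tcNp : ∀ i < 3, (eps2 TN EN JN WN RLN (nat_lit 255) (nat_lit 154) (nat_lit 157) (nat_lit 10) (nat_lit 1)) i = 0 := allZ_sound0 tcNp_0
theorem tcN : cN.OK RN 10 := ⟨tcNn, ivN, tcNr, tcNe, fun i h => tcNp i (lt_of_lt_of_eq h tcNq)⟩
theorem Y_m : ∀ k < 1, ∀ i < 2300, (matEnt (wdsP H15.Co2.P Y_W) Y_P) k i = 0 := allZ2_sound Y_m_a
theorem Y_act {G Ω : Type*} [Group G] [MulAction G Ω] {g : ℕ → G} {pt : ℕ → Ω}
    (M : Md g pt H15.Co2.P 2300 8 H15.Co2.B 42305421312000) : Act (wds g Y_W) pt Y_P 2300 1 :=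
  act_mat (M.wact Y_lt) Y_m
theorem ARc : ∀ i < 41, (fun i => force i fun i => orZ (Nat.xor i 26) (orZ (Nat.xor i 33) (Nat.add (Nat.add (neL (flat Wp (nth [] H15.Co2.Rl i)) (nth (.l []) AR i).w)
  ((nth (.l []) AR i).chk EQ VY)) (GW ((nth (.l []) AR i).v VY) [])))) i = 0 := range_glue (range_glue (allZ_sound0 ARc_0) ARc_1) ARc_2
theorem clc : ∀ k < 7, ∀ i < 2300, (H16.clsEnt H15.Co2.P cl) k i = 0 := allZ2_sound clc_a

end H10.KC
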